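import Mathlib

/-!
# The icosian order inside `M₂(F)` (helper9)

For `τ² + τ - 1 = 0` and `α² - τα + β² + β + 1 = 0` the matrices `X = [[α, β],[β+1, τ-α]]`
(trace `τ`, order 5) and `W = [[0,-1],[1,0]]` satisfy `X² = τX - 1`, `W² = -1`,
`WX = -XW + τW - 1`; `icoM_h9 a b c d = a + bX + cW + dXW`.
-/

set_option autoImplicit false

namespace Cfsg.Agent.Helper9

/-- the matrix `a + b X + c W + d XW`. -/
def icoM_h9 {F : Type*} [Field F] (α β τ a b c d : F) : Matrix (Fin 2) (Fin 2) F :=
  !![a + b * α + d * β, b * β - c - d * α; b * (β + 1) + c + d * (τ - α), a + b * (τ - α) - d * (β + 1)]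

theorem icoM_mul_h9 {F : Type*} [Field F] {α β τ : F}
    (hc : α ^ 2 - τ * α + β ^ 2 + β + 1 = 0) (a b c d a' b' c' d' : F) :
    icoM_h9 α β τ a b c d * icoM_h9 α β τ a' b' c' d' =
      icoM_h9 α β τ (a * a' - b * b' - c * c' - c * b' - τ * c * d' - d * d')
        (a * b' + b * a' + τ * b * b' + c * d' - d * b' - d * c')
        (a * c' + c * a' + τ * c * b' - b * d' - c * d' + d * b')
        (a * d' + d * a' + b * c' - c * b' + τ * b * d' - d * d') := by
  unfold icoM_h9
  rw [Matrix.mul_fin_two]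
  congr 1
  ext i j
  fin_cases i <;> fin_cases j
  · simp only [Matrix.of_apply, Matrix.cons_val', Matrix.cons_val_zero, Matrix.cons_val_fin_one,
      Fin.zero_eta, Fin.mk_one, Matrix.cons_val_one]
    linear_combination (b * b' + d * d') * hc
  · simp only [Matrix.of_apply, Matrix.cons_val', Matrix.cons_val_zero, Matrix.cons_val_fin_one,
      Fin.zero_eta, Fin.mk_one, Matrix.cons_val_one]
    linear_combination (-(b * d') + d * b') * hc
  · simp only [Matrix.of_apply, Matrix.cons_val', Matrix.cons_val_zero, Matrix.cons_val_fin_one,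
      Fin.zero_eta, Fin.mk_one, Matrix.cons_val_one]
    linear_combination (b * d' - d * b') * hc
  · simp only [Matrix.of_apply, Matrix.cons_val', Matrix.cons_val_zero, Matrix.cons_val_fin_one,
      Fin.zero_eta, Fin.mk_one, Matrix.cons_val_one]
    linear_combination (b * b' + d * d') * hc

theorem icoM_mul_eq_h9 {F : Type*} [Field F] {α β τ : F}
    (hc : α ^ 2 - τ * α + β ^ 2 + β + 1 = 0) {a b c d a' b' c' d' r1 r2 r3 r4 : F}
    (h1 : a * a' - b * b' - c * c' - c * b' - τ * c * d' - d * d' = r1)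
    (h2 : a * b' + b * a' + τ * b * b' + c * d' - d * b' - d * c' = r2)
    (h3 : a * c' + c * a' + τ * c * b' - b * d' - c * d' + d * b' = r3)
    (h4 : a * d' + d * a' + b * c' - c * b' + τ * b * d' - d * d' = r4) :
    icoM_h9 α β τ a b c d * icoM_h9 α β τ a' b' c' d' = icoM_h9 α β τ r1 r2 r3 r4 := by
  rw [icoM_mul_h9 hc, h1, h2, h3, h4]

theorem icoM_one_h9 {F : Type*} [Field F] (α β τ : F) : icoM_h9 α β τ 1 0 0 0 = 1 := by
  unfold icoM_h9
  ext i j
  fin_cases i <;> fin_cases j <;> simp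

theorem icoM_neg_h9 {F : Type*} [Field F] (α β τ a b c d : F) :
    icoM_h9 α β τ (-a) (-b) (-c) (-d) = -icoM_h9 α β τ a b c d := by
  unfold icoM_h9
  ext i j
  fin_cases i <;> fin_cases j <;> simp <;> ring

theorem icoM_det_h9 {F : Type*} [Field F] {α β τ : F}
    (hc : α ^ 2 - τ * α + β ^ 2 + β + 1 = 0) (a b c d : F) :
    (icoM_h9 α β τ a b c d).det =
      a ^ 2 + b ^ 2 + c ^ 2 + d ^ 2 + τ * a * b - a * d + b * c + τ * c * d := by
  unfold icoM_h9
  rw [Matrix.det_fin_two_of]
  linear_combination (-(b ^ 2) - d ^ 2) * hc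

end Cfsg.Agent.Helper9
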