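import Mathlib
import Cfsg.Agent.Helper9.Ico1

/-!
# Relations in the binary icosahedral group (helper9; generated certificates)
-/

set_option autoImplicit false

namespace Cfsg.Agent.Helper9

theorem ico_Xpow2_h9 {F : Type*} [Field F] {α β τ : F}
    (hc : α ^ 2 - τ * α + β ^ 2 + β + 1 = 0) (hτ : τ ^ 2 + τ - 1 = 0) :
    icoM_h9 α β τ 0 1 0 0 ^ 2 = icoM_h9 α β τ (-1) τ 0 0 := by
  rw [sq]
  have e : icoM_h9 α β τ 0 1 0 0 * icoM_h9 α β τ 0 1 0 0 = icoM_h9 α β τ (-1) τ 0 0 :=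
    icoM_mul_eq_h9 hc (by ring) (by ring) (by ring) (by ring)
  exact e

theorem ico_Xpow3_h9 {F : Type*} [Field F] {α β τ : F}
    (hc : α ^ 2 - τ * α + β ^ 2 + β + 1 = 0) (hτ : τ ^ 2 + τ - 1 = 0) :
    icoM_h9 α β τ 0 1 0 0 ^ 3 = icoM_h9 α β τ (-τ) (-τ) 0 0 := by
  rw [show (3 : ℕ) = 2 + 1 from rfl, pow_succ, ico_Xpow2_h9 hc hτ]
  have e : icoM_h9 α β τ (-1) τ 0 0 * icoM_h9 α β τ 0 1 0 0 = icoM_h9 α β τ (-τ) (-τ) 0 0 :=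
    icoM_mul_eq_h9 hc (by ring) (by linear_combination ((1)) * hτ) (by ring) (by ring)
  exact e

theorem ico_Xpow4_h9 {F : Type*} [Field F] {α β τ : F}
    (hc : α ^ 2 - τ * α + β ^ 2 + β + 1 = 0) (hτ : τ ^ 2 + τ - 1 = 0) :
    icoM_h9 α β τ 0 1 0 0 ^ 4 = icoM_h9 α β τ τ (-1) 0 0 := by
  rw [show (4 : ℕ) = 3 + 1 from rfl, pow_succ, ico_Xpow3_h9 hc hτ]
  have e : icoM_h9 α β τ (-τ) (-τ) 0 0 * icoM_h9 α β τ 0 1 0 0 = icoM_h9 α β τ τ (-1) 0 0 :=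
    icoM_mul_eq_h9 hc (by ring) (by linear_combination ((-1)) * hτ) (by ring) (by ring)
  exact e

theorem ico_Xpow5_h9 {F : Type*} [Field F] {α β τ : F}
    (hc : α ^ 2 - τ * α + β ^ 2 + β + 1 = 0) (hτ : τ ^ 2 + τ - 1 = 0) :
    icoM_h9 α β τ 0 1 0 0 ^ 5 = 1 := by
  rw [show (5 : ℕ) = 4 + 1 from rfl, pow_succ, ico_Xpow4_h9 hc hτ]
  have e : icoM_h9 α β τ τ (-1) 0 0 * icoM_h9 α β τ 0 1 0 0 = icoM_h9 α β τ 1 0 0 0 :=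
    icoM_mul_eq_h9 hc (by ring) (by ring) (by ring) (by ring)
  rw [e]
  exact icoM_one_h9 α β τ

theorem ico_Cpow2_h9 {F : Type*} [Field F] {α β τ : F}
    (hc : α ^ 2 - τ * α + β ^ 2 + β + 1 = 0) (hτ : τ ^ 2 + τ - 1 = 0) :
    icoM_h9 α β τ (-1) τ (-τ) (-τ) ^ 2 = icoM_h9 α β τ 0 (-τ) τ τ := by
  rw [sq]
  have e : icoM_h9 α β τ (-1) τ (-τ) (-τ) * icoM_h9 α β τ (-1) τ (-τ) (-τ) = icoM_h9 α β τ 0 (-τ) τ τ :=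
    icoM_mul_eq_h9 hc (by linear_combination ((-1) + (-1) * τ) * hτ) (by linear_combination ((1) * τ) * hτ) (by linear_combination ((-1) * τ) * hτ) (by linear_combination ((-1) * τ) * hτ)
  exact e

theorem ico_Cpow3_h9 {F : Type*} [Field F] {α β τ : F}
    (hc : α ^ 2 - τ * α + β ^ 2 + β + 1 = 0) (hτ : τ ^ 2 + τ - 1 = 0) :
    icoM_h9 α β τ (-1) τ (-τ) (-τ) ^ 3 = 1 := by
  rw [show (3 : ℕ) = 2 + 1 from rfl, pow_succ, ico_Cpow2_h9 hc hτ]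
  have e : icoM_h9 α β τ 0 (-τ) τ τ * icoM_h9 α β τ (-1) τ (-τ) (-τ) = icoM_h9 α β τ 1 0 0 0 :=
    icoM_mul_eq_h9 hc (by linear_combination ((1) + (1) * τ) * hτ) (by linear_combination ((-1) * τ) * hτ) (by linear_combination ((1) * τ) * hτ) (by linear_combination ((1) * τ) * hτ)
  rw [e]
  exact icoM_one_h9 α β τ

theorem ico_YY_h9 {F : Type*} [Field F] {α β τ : F}
    (hc : α ^ 2 - τ * α + β ^ 2 + β + 1 = 0) (hτ : τ ^ 2 + τ - 1 = 0) :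
    icoM_h9 α β τ (1 + (-1) * τ) (-2 * τ) τ 0 * icoM_h9 α β τ (1 + (-1) * τ) (-2 * τ) τ 0 = -1 := by
  have e0 : icoM_h9 α β τ (1 + (-1) * τ) (-2 * τ) τ 0 * icoM_h9 α β τ (1 + (-1) * τ) (-2 * τ) τ 0 = icoM_h9 α β τ (-1) 0 0 0 :=
    icoM_mul_eq_h9 hc (by linear_combination ((-2)) * hτ) (by linear_combination ((4) * τ) * hτ) (by linear_combination ((-2) * τ) * hτ) (by ring)
  rw [e0]
  rw [← icoM_one_h9 α β τ, ← icoM_neg_h9]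
  congr 1 <;> ring

theorem ico_YW_h9 {F : Type*} [Field F] {α β τ : F}
    (hc : α ^ 2 - τ * α + β ^ 2 + β + 1 = 0) (hτ : τ ^ 2 + τ - 1 = 0) :
    icoM_h9 α β τ (1 + (-1) * τ) (-2 * τ) τ 0 * icoM_h9 α β τ 0 0 1 0 = -(icoM_h9 α β τ 0 0 1 0 * icoM_h9 α β τ (1 + (-1) * τ) (-2 * τ) τ 0) := by
  have e0 : icoM_h9 α β τ (1 + (-1) * τ) (-2 * τ) τ 0 * icoM_h9 α β τ 0 0 1 0 = icoM_h9 α β τ (-τ) 0 (1 + (-1) * τ) (-2 * τ) :=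
    icoM_mul_eq_h9 hc (by ring) (by ring) (by ring) (by ring)
  rw [e0]
  have e1 : icoM_h9 α β τ 0 0 1 0 * icoM_h9 α β τ (1 + (-1) * τ) (-2 * τ) τ 0 = icoM_h9 α β τ τ 0 (-1 + (1) * τ) (2 * τ) :=
    icoM_mul_eq_h9 hc (by ring) (by ring) (by linear_combination ((-2)) * hτ) (by ring)
  rw [e1]
  rw [← icoM_neg_h9]
  congr 1 <;> ring

theorem ico_CW_h9 {F : Type*} [Field F] {α β τ : F}
    (hc : α ^ 2 - τ * α + β ^ 2 + β + 1 = 0) (hτ : τ ^ 2 + τ - 1 = 0) :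
    icoM_h9 α β τ (-1) τ (-τ) (-τ) * icoM_h9 α β τ 0 0 1 0 = icoM_h9 α β τ (1 + (-1) * τ) (-2 * τ) τ 0 * icoM_h9 α β τ (-1) τ (-τ) (-τ) := by
  have e0 : icoM_h9 α β τ (-1) τ (-τ) (-τ) * icoM_h9 α β τ 0 0 1 0 = icoM_h9 α β τ τ τ (-1) τ :=
    icoM_mul_eq_h9 hc (by ring) (by ring) (by ring) (by ring)
  rw [e0]
  have e1 : icoM_h9 α β τ (1 + (-1) * τ) (-2 * τ) τ 0 * icoM_h9 α β τ (-1) τ (-τ) (-τ) = icoM_h9 α β τ τ τ (-1) τ :=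
    icoM_mul_eq_h9 hc (by linear_combination ((1) + (1) * τ) * hτ) (by linear_combination ((-2) * τ) * hτ) (by linear_combination ((-1) + (1) * τ) * hτ) (by linear_combination ((2) * τ) * hτ)
  rw [e1]

theorem ico_CY_h9 {F : Type*} [Field F] {α β τ : F}
    (hc : α ^ 2 - τ * α + β ^ 2 + β + 1 = 0) (hτ : τ ^ 2 + τ - 1 = 0) :
    icoM_h9 α β τ (-1) τ (-τ) (-τ) * icoM_h9 α β τ (1 + (-1) * τ) (-2 * τ) τ 0 = icoM_h9 α β τ 0 0 1 0 * icoM_h9 α β τ (1 + (-1) * τ) (-2 * τ) τ 0 * icoM_h9 α β τ (-1) τ (-τ) (-τ) := by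
  have e0 : icoM_h9 α β τ (-1) τ (-τ) (-τ) * icoM_h9 α β τ (1 + (-1) * τ) (-2 * τ) τ 0 = icoM_h9 α β τ 0 τ (1 + (-1) * τ) (-τ) :=
    icoM_mul_eq_h9 hc (by linear_combination ((1)) * hτ) (by linear_combination ((-2) * τ) * hτ) (by linear_combination ((1) + (2) * τ) * hτ) (by ring)
  rw [e0]
  have e1 : icoM_h9 α β τ 0 0 1 0 * icoM_h9 α β τ (1 + (-1) * τ) (-2 * τ) τ 0 = icoM_h9 α β τ τ 0 (-1 + (1) * τ) (2 * τ) :=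
    icoM_mul_eq_h9 hc (by ring) (by ring) (by linear_combination ((-2)) * hτ) (by ring)
  rw [e1]
  have e2 : icoM_h9 α β τ τ 0 (-1 + (1) * τ) (2 * τ) * icoM_h9 α β τ (-1) τ (-τ) (-τ) = icoM_h9 α β τ 0 τ (1 + (-1) * τ) (-τ) :=
    icoM_mul_eq_h9 hc (by linear_combination ((1) * τ) * hτ) (by ring) (by linear_combination ((1) * τ) * hτ) (by ring)
  rw [e2]

theorem ico_DW1_h9 {F : Type*} [Field F] {α β τ : F}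
    (hc : α ^ 2 - τ * α + β ^ 2 + β + 1 = 0) (hτ : τ ^ 2 + τ - 1 = 0) :
    icoM_h9 α β τ 0 1 0 0 * icoM_h9 α β τ 0 0 1 0 = -(icoM_h9 α β τ (-1) τ (-τ) (-τ) ^ 2 * icoM_h9 α β τ 0 1 0 0 ^ 2) := by
  rw [ico_Cpow2_h9 hc hτ, ico_Xpow2_h9 hc hτ]
  have e0 : icoM_h9 α β τ 0 1 0 0 * icoM_h9 α β τ 0 0 1 0 = icoM_h9 α β τ 0 0 0 1 :=
    icoM_mul_eq_h9 hc (by ring) (by ring) (by ring) (by ring)
  rw [e0]
  have e1 : icoM_h9 α β τ 0 (-τ) τ τ * icoM_h9 α β τ (-1) τ 0 0 = icoM_h9 α β τ 0 0 0 (-1) :=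
    icoM_mul_eq_h9 hc (by ring) (by linear_combination ((-1) * τ) * hτ) (by linear_combination ((1) * τ) * hτ) (by linear_combination ((-1)) * hτ)
  rw [e1]
  rw [← icoM_neg_h9]
  congr 1 <;> ring

theorem ico_DW2_h9 {F : Type*} [Field F] {α β τ : F}
    (hc : α ^ 2 - τ * α + β ^ 2 + β + 1 = 0) (hτ : τ ^ 2 + τ - 1 = 0) :
    icoM_h9 α β τ 0 1 0 0 ^ 2 * icoM_h9 α β τ 0 0 1 0 = icoM_h9 α β τ (-1) τ (-τ) (-τ) * icoM_h9 α β τ 0 1 0 0 := by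
  rw [ico_Xpow2_h9 hc hτ]
  have e0 : icoM_h9 α β τ (-1) τ 0 0 * icoM_h9 α β τ 0 0 1 0 = icoM_h9 α β τ 0 0 (-1) τ :=
    icoM_mul_eq_h9 hc (by ring) (by ring) (by ring) (by ring)
  rw [e0]
  have e1 : icoM_h9 α β τ (-1) τ (-τ) (-τ) * icoM_h9 α β τ 0 1 0 0 = icoM_h9 α β τ 0 0 (-1) τ :=
    icoM_mul_eq_h9 hc (by ring) (by linear_combination ((1)) * hτ) (by linear_combination ((-1)) * hτ) (by ring)
  rw [e1]

theorem ico_DW3_h9 {F : Type*} [Field F] {α β τ : F}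
    (hc : α ^ 2 - τ * α + β ^ 2 + β + 1 = 0) (hτ : τ ^ 2 + τ - 1 = 0) :
    icoM_h9 α β τ 0 1 0 0 ^ 3 * icoM_h9 α β τ 0 0 1 0 = icoM_h9 α β τ (1 + (-1) * τ) (-2 * τ) τ 0 * icoM_h9 α β τ (-1) τ (-τ) (-τ) * icoM_h9 α β τ 0 1 0 0 ^ 4 := by
  rw [ico_Xpow3_h9 hc hτ, ico_Xpow4_h9 hc hτ]
  have e0 : icoM_h9 α β τ (-τ) (-τ) 0 0 * icoM_h9 α β τ 0 0 1 0 = icoM_h9 α β τ 0 0 (-τ) (-τ) :=
    icoM_mul_eq_h9 hc (by ring) (by ring) (by ring) (by ring)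
  rw [e0]
  have e1 : icoM_h9 α β τ (1 + (-1) * τ) (-2 * τ) τ 0 * icoM_h9 α β τ (-1) τ (-τ) (-τ) = icoM_h9 α β τ τ τ (-1) τ :=
    icoM_mul_eq_h9 hc (by linear_combination ((1) + (1) * τ) * hτ) (by linear_combination ((-2) * τ) * hτ) (by linear_combination ((-1) + (1) * τ) * hτ) (by linear_combination ((2) * τ) * hτ)
  rw [e1]
  have e2 : icoM_h9 α β τ τ τ (-1) τ * icoM_h9 α β τ τ (-1) 0 0 = icoM_h9 α β τ 0 0 (-τ) (-τ) :=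
    icoM_mul_eq_h9 hc (by linear_combination ((1)) * hτ) (by ring) (by ring) (by linear_combination ((1)) * hτ)
  rw [e2]

theorem ico_DW4_h9 {F : Type*} [Field F] {α β τ : F}
    (hc : α ^ 2 - τ * α + β ^ 2 + β + 1 = 0) (hτ : τ ^ 2 + τ - 1 = 0) :
    icoM_h9 α β τ 0 1 0 0 ^ 4 * icoM_h9 α β τ 0 0 1 0 = icoM_h9 α β τ 0 0 1 0 * icoM_h9 α β τ (-1) τ (-τ) (-τ) ^ 2 * icoM_h9 α β τ 0 1 0 0 ^ 3 := by
  rw [ico_Xpow4_h9 hc hτ, ico_Cpow2_h9 hc hτ, ico_Xpow3_h9 hc hτ]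
  have e0 : icoM_h9 α β τ τ (-1) 0 0 * icoM_h9 α β τ 0 0 1 0 = icoM_h9 α β τ 0 0 τ (-1) :=
    icoM_mul_eq_h9 hc (by ring) (by ring) (by ring) (by ring)
  rw [e0]
  have e1 : icoM_h9 α β τ 0 0 1 0 * icoM_h9 α β τ 0 (-τ) τ τ = icoM_h9 α β τ (-1 + (1) * τ) τ (-1) τ :=
    icoM_mul_eq_h9 hc (by linear_combination ((-1)) * hτ) (by ring) (by linear_combination ((-1)) * hτ) (by ring)
  rw [e1]
  have e2 : icoM_h9 α β τ (-1 + (1) * τ) τ (-1) τ * icoM_h9 α β τ (-τ) (-τ) 0 0 = icoM_h9 α β τ 0 0 τ (-1) :=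
    icoM_mul_eq_h9 hc (by ring) (by linear_combination ((-1) * τ) * hτ) (by ring) (by linear_combination ((-1)) * hτ)
  rw [e2]

theorem ico_DC1_h9 {F : Type*} [Field F] {α β τ : F}
    (hc : α ^ 2 - τ * α + β ^ 2 + β + 1 = 0) (hτ : τ ^ 2 + τ - 1 = 0) :
    icoM_h9 α β τ 0 1 0 0 * icoM_h9 α β τ (-1) τ (-τ) (-τ) = icoM_h9 α β τ (1 + (-1) * τ) (-2 * τ) τ 0 * icoM_h9 α β τ (-1) τ (-τ) (-τ) * icoM_h9 α β τ 0 1 0 0 ^ 3 := by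
  rw [ico_Xpow3_h9 hc hτ]
  have e0 : icoM_h9 α β τ 0 1 0 0 * icoM_h9 α β τ (-1) τ (-τ) (-τ) = icoM_h9 α β τ (-τ) (-τ) τ (-1) :=
    icoM_mul_eq_h9 hc (by ring) (by linear_combination ((1)) * hτ) (by ring) (by linear_combination ((-1)) * hτ)
  rw [e0]
  have e1 : icoM_h9 α β τ (1 + (-1) * τ) (-2 * τ) τ 0 * icoM_h9 α β τ (-1) τ (-τ) (-τ) = icoM_h9 α β τ τ τ (-1) τ :=
    icoM_mul_eq_h9 hc (by linear_combination ((1) + (1) * τ) * hτ) (by linear_combination ((-2) * τ) * hτ) (by linear_combination ((-1) + (1) * τ) * hτ) (by linear_combination ((2) * τ) * hτ)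
  rw [e1]
  have e2 : icoM_h9 α β τ τ τ (-1) τ * icoM_h9 α β τ (-τ) (-τ) 0 0 = icoM_h9 α β τ (-τ) (-τ) τ (-1) :=
    icoM_mul_eq_h9 hc (by ring) (by linear_combination ((-1) * τ) * hτ) (by ring) (by linear_combination ((-1)) * hτ)
  rw [e2]

theorem ico_DC2_h9 {F : Type*} [Field F] {α β τ : F}
    (hc : α ^ 2 - τ * α + β ^ 2 + β + 1 = 0) (hτ : τ ^ 2 + τ - 1 = 0) :
    icoM_h9 α β τ 0 1 0 0 ^ 2 * icoM_h9 α β τ (-1) τ (-τ) (-τ) = icoM_h9 α β τ 0 0 1 0 * icoM_h9 α β τ (-1) τ (-τ) (-τ) ^ 2 * icoM_h9 α β τ 0 1 0 0 ^ 2 := by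
  rw [ico_Xpow2_h9 hc hτ, ico_Cpow2_h9 hc hτ]
  have e0 : icoM_h9 α β τ (-1) τ 0 0 * icoM_h9 α β τ (-1) τ (-τ) (-τ) = icoM_h9 α β τ τ (-1) 1 0 :=
    icoM_mul_eq_h9 hc (by linear_combination ((-1)) * hτ) (by linear_combination ((-1) + (1) * τ) * hτ) (by linear_combination ((1)) * hτ) (by linear_combination ((-1) * τ) * hτ)
  rw [e0]
  have e1 : icoM_h9 α β τ 0 0 1 0 * icoM_h9 α β τ 0 (-τ) τ τ = icoM_h9 α β τ (-1 + (1) * τ) τ (-1) τ :=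
    icoM_mul_eq_h9 hc (by linear_combination ((-1)) * hτ) (by ring) (by linear_combination ((-1)) * hτ) (by ring)
  rw [e1]
  have e2 : icoM_h9 α β τ (-1 + (1) * τ) τ (-1) τ * icoM_h9 α β τ (-1) τ 0 0 = icoM_h9 α β τ τ (-1) 1 0 :=
    icoM_mul_eq_h9 hc (by linear_combination ((-1)) * hτ) (by linear_combination ((-1) + (1) * τ) * hτ) (by ring) (by ring)
  rw [e2]

theorem ico_DC3_h9 {F : Type*} [Field F] {α β τ : F}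
    (hc : α ^ 2 - τ * α + β ^ 2 + β + 1 = 0) (hτ : τ ^ 2 + τ - 1 = 0) :
    icoM_h9 α β τ 0 1 0 0 ^ 3 * icoM_h9 α β τ (-1) τ (-τ) (-τ) = icoM_h9 α β τ 0 0 1 0 * icoM_h9 α β τ 0 1 0 0 ^ 4 := by
  rw [ico_Xpow3_h9 hc hτ, ico_Xpow4_h9 hc hτ]
  have e0 : icoM_h9 α β τ (-τ) (-τ) 0 0 * icoM_h9 α β τ (-1) τ (-τ) (-τ) = icoM_h9 α β τ 1 0 0 1 :=
    icoM_mul_eq_h9 hc (by linear_combination ((1)) * hτ) (by linear_combination ((-1) * τ) * hτ) (by ring) (by linear_combination ((1) + (1) * τ) * hτ)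
  rw [e0]
  have e1 : icoM_h9 α β τ 0 0 1 0 * icoM_h9 α β τ τ (-1) 0 0 = icoM_h9 α β τ 1 0 0 1 :=
    icoM_mul_eq_h9 hc (by ring) (by ring) (by ring) (by ring)
  rw [e1]

theorem ico_DC4_h9 {F : Type*} [Field F] {α β τ : F}
    (hc : α ^ 2 - τ * α + β ^ 2 + β + 1 = 0) (hτ : τ ^ 2 + τ - 1 = 0) :
    icoM_h9 α β τ 0 1 0 0 ^ 4 * icoM_h9 α β τ (-1) τ (-τ) (-τ) = -(icoM_h9 α β τ (-1) τ (-τ) (-τ) ^ 2 * icoM_h9 α β τ 0 1 0 0) := by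
  rw [ico_Xpow4_h9 hc hτ, ico_Cpow2_h9 hc hτ]
  have e0 : icoM_h9 α β τ τ (-1) 0 0 * icoM_h9 α β τ (-1) τ (-τ) (-τ) = icoM_h9 α β τ 0 1 (-1) τ :=
    icoM_mul_eq_h9 hc (by ring) (by ring) (by linear_combination ((-1)) * hτ) (by ring)
  rw [e0]
  have e1 : icoM_h9 α β τ 0 (-τ) τ τ * icoM_h9 α β τ 0 1 0 0 = icoM_h9 α β τ 0 (-1) 1 (-τ) :=
    icoM_mul_eq_h9 hc (by ring) (by linear_combination ((-1)) * hτ) (by linear_combination ((1)) * hτ) (by ring)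
  rw [e1]
  rw [← icoM_neg_h9]
  congr 1 <;> ring

end Cfsg.Agent.Helper9
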