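import Mathlib

/-!
# Counting Klein four-subgroups by commuting pairs of involutions (helper9)
-/

set_option autoImplicit false

namespace Cfsg.Agent.Helper9

/-- the four-group generated by two commuting involutions. -/
def kleinOf_h9 {G : Type*} [Group G] (t s : G) (ht : t * t = 1) (hs : s * s = 1)
    (hts : t * s = s * t) : Subgroup G where
  carrier := {1, t, s, t * s}
  one_mem' := by simp
  mul_mem' := by
    have ht' : ∀ x, t * (t * x) = x := fun x => by rw [← mul_assoc, ht, one_mul]
    have hs' : ∀ x, s * (s * x) = x := fun x => by rw [← mul_assoc, hs, one_mul]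
    have hst : s * t = t * s := hts.symm
    have hst' : ∀ x, s * (t * x) = t * (s * x) := fun x => by rw [← mul_assoc, hst, mul_assoc]
    rintro a b (rfl | rfl | rfl | rfl) (rfl | rfl | rfl | rfl) <;>
      simp [mul_assoc, ht, hs, ht', hs', hst, hst']
  inv_mem' := by
    have hti : t⁻¹ = t := inv_eq_of_mul_eq_one_left ht
    have hsi : s⁻¹ = s := inv_eq_of_mul_eq_one_left hs
    rintro a (rfl | rfl | rfl | rfl) <;> simp [hti, hsi, hts.symm]

theorem mem_kleinOf_h9 {G : Type*} [Group G] (t s : G) (ht : t * t = 1) (hs : s * s = 1)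
    (hts : t * s = s * t) (a : G) :
    a ∈ kleinOf_h9 t s ht hs hts ↔ a = 1 ∨ a = t ∨ a = s ∨ a = t * s := Iff.rfl

theorem kleinOf_isKleinFour_h9 {G : Type*} [Group G] (t s : G) (ht : t * t = 1) (hs : s * s = 1)
    (hts : t * s = s * t) (ht1 : t ≠ 1) (hs1 : s ≠ 1) (hne : t ≠ s) :
    IsKleinFour (kleinOf_h9 t s ht hs hts) := by
  have hti : t⁻¹ = t := inv_eq_of_mul_eq_one_left ht
  constructor
  · have e : Nat.card (kleinOf_h9 t s ht hs hts) = ({1, t, s, t * s} : Set G).ncard := rfl
    rw [e]
    have h1 : (1 : G) ∉ ({t, s, t * s} : Set G) := by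
      simp only [Set.mem_insert_iff, Set.mem_singleton_iff, not_or]
      refine ⟨fun h => ht1 h.symm, fun h => hs1 h.symm, fun h => hne ?_⟩
      rw [← hti]; exact inv_eq_of_mul_eq_one_right h.symm
    have h2 : t ∉ ({s, t * s} : Set G) := by
      simp only [Set.mem_insert_iff, Set.mem_singleton_iff, not_or]
      refine ⟨hne, fun h => hs1 ?_⟩
      exact (mul_eq_left.mp h.symm)
    have h3 : s ≠ t * s := fun h => ht1 (mul_eq_right.mp h.symm)
    rw [Set.ncard_insert_of_notMem h1, Set.ncard_insert_of_notMem h2, Set.ncard_pair h3]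
  · have hdvd : Monoid.exponent (kleinOf_h9 t s ht hs hts) ∣ 2 := by
      apply Monoid.exponent_dvd_of_forall_pow_eq_one
      rintro ⟨x, hx⟩
      apply Subtype.ext
      show x ^ 2 = 1
      rcases hx with rfl | rfl | rfl | rfl
      · simp
      · rw [sq, ht]
      · rw [sq, hs]
      · rw [sq]
        calc t * s * (t * s) = t * (s * t) * s := by group
          _ = t * (t * s) * s := by rw [hts]
          _ = (t * t) * (s * s) := by group
          _ = 1 := by rw [ht, hs, one_mul]
    have hne1 : Monoid.exponent (kleinOf_h9 t s ht hs hts) ≠ 1 := by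
      rw [Ne, Monoid.exp_eq_one_iff]
      intro hsub
      have : (⟨t, Or.inr (Or.inl rfl)⟩ : kleinOf_h9 t s ht hs hts) = 1 := Subsingleton.elim _ _
      exact ht1 (congrArg Subtype.val this)
    rcases (Nat.dvd_prime Nat.prime_two).mp hdvd with h | h
    · exact absurd h hne1
    · exact h

theorem klein_sq_h9 {G : Type*} [Group G] (V : Subgroup G) [hV : IsKleinFour V] (x : G)
    (hx : x ∈ V) : x * x = 1 := by
  have := Monoid.pow_exponent_eq_one (⟨x, hx⟩ : V)
  rw [hV.exponent_two] at this
  have h2 := congrArg Subtype.val this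
  rw [← sq]; exact h2

theorem klein_comm_h9 {G : Type*} [Group G] (V : Subgroup G) [hV : IsKleinFour V] (x y : G)
    (hx : x ∈ V) (hy : y ∈ V) : x * y = y * x := by
  have hxy := klein_sq_h9 V (x * y) (V.mul_mem hx hy)
  have hxx := klein_sq_h9 V x hx
  have hyy := klein_sq_h9 V y hy
  calc x * y = x * (x * y * (x * y)) * y := by rw [hxy, mul_one]
    _ = (x * x) * y * x * (y * y) := by group
    _ = y * x := by rw [hxx, hyy, one_mul, mul_one]

theorem klein_eq_of_mem_h9 {G : Type*} [Group G] (V W : Subgroup G) [hV : IsKleinFour V]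
    [hW : IsKleinFour W] (t s : G) (ht1 : t ≠ 1) (hs1 : s ≠ 1) (hne : t ≠ s) (htV : t ∈ V)
    (hsV : s ∈ V) (htW : t ∈ W) (hsW : s ∈ W) : V = W := by
  haveI : Finite V := Nat.finite_of_card_ne_zero (by rw [hV.card_four]; norm_num)
  haveI : Finite W := Nat.finite_of_card_ne_zero (by rw [hW.card_four]; norm_num)
  have h3 : 3 ≤ Nat.card (V ⊓ W : Subgroup G) := by
    have hsub : ({1, t, s} : Set G) ⊆ ((V ⊓ W : Subgroup G) : Set G) := by
      intro x hx
      rcases hx with rfl | rfl | rfl
      · exact one_mem _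
      · exact ⟨htV, htW⟩
      · exact ⟨hsV, hsW⟩
    have hfin : ((V ⊓ W : Subgroup G) : Set G).Finite :=
      (Set.toFinite (V : Set G)).subset (fun x hx => hx.1)
    have h := Set.ncard_le_ncard hsub hfin
    have e : ({1, t, s} : Set G).ncard = 3 :=
      Set.ncard_eq_three.mpr ⟨1, t, s, fun h => ht1 h.symm, fun h => hs1 h.symm, hne, rfl⟩
    rw [e] at h; exact h
  have hdV : Nat.card (V ⊓ W : Subgroup G) ∣ 4 :=
    hV.card_four ▸ Subgroup.card_dvd_of_le (inf_le_left : V ⊓ W ≤ V)
  have h4 : Nat.card (V ⊓ W : Subgroup G) = 4 := by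
    have hle := Nat.le_of_dvd (by norm_num) hdV
    have h34 : Nat.card (V ⊓ W : Subgroup G) = 3 ∨ Nat.card (V ⊓ W : Subgroup G) = 4 := by omega
    rcases h34 with h | h
    · rw [h] at hdV; norm_num at hdV
    · exact h
  have e1 : V ⊓ W = V := Subgroup.eq_of_le_of_card_ge inf_le_left (by rw [h4, hV.card_four])
  have e2 : V ⊓ W = W := Subgroup.eq_of_le_of_card_ge inf_le_right (by rw [h4, hW.card_four])
  exact e1.symm.trans e2

theorem klein_pairs_h9 {G : Type*} [Group G] [Finite G] :
    6 * Nat.card {V : Subgroup G // IsKleinFour V} =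
      Nat.card {p : G × G // orderOf p.1 = 2 ∧ orderOf p.2 = 2 ∧ p.1 ≠ p.2 ∧
        p.1 * p.2 = p.2 * p.1} := by
  classical
  haveI : Fintype G := Fintype.ofFinite G
  haveI : Fintype (Subgroup G) := Fintype.ofFinite _
  rw [Nat.card_eq_fintype_card, Nat.card_eq_fintype_card, Fintype.card_subtype,
    Fintype.card_subtype]
  have hinv : ∀ x : G, orderOf x = 2 → x * x = 1 ∧ x ≠ 1 := by
    intro x hx
    refine ⟨?_, ?_⟩
    · have := pow_orderOf_eq_one x
      rw [hx, sq] at this; exact this
    · rintro rfl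
      rw [orderOf_one] at hx; omega
  have hord : ∀ x : G, x * x = 1 → x ≠ 1 → orderOf x = 2 := by
    intro x hx hx1
    exact orderOf_eq_prime (by rw [sq]; exact hx) hx1
  have hmap : ((Finset.univ.filter (fun p : G × G => orderOf p.1 = 2 ∧ orderOf p.2 = 2 ∧
      p.1 ≠ p.2 ∧ p.1 * p.2 = p.2 * p.1) : Finset (G × G)) : Set (G × G)).MapsTo
      (fun p => Subgroup.closure {p.1, p.2})
      (Finset.univ.filter (fun V : Subgroup G => IsKleinFour V)) := by
    rintro ⟨t, s⟩ hp
    simp only [Finset.coe_filter, Finset.mem_univ, true_and, Set.mem_setOf_eq] at hp ⊢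
    obtain ⟨ht, hs, hne, hts⟩ := hp
    have e : Subgroup.closure {t, s} = kleinOf_h9 t s (hinv t ht).1 (hinv s hs).1 hts := by
      apply le_antisymm
      · rw [Subgroup.closure_le]
        rintro x (rfl | rfl)
        · exact Or.inr (Or.inl rfl)
        · exact Or.inr (Or.inr (Or.inl rfl))
      · have h1 : t ∈ Subgroup.closure ({t, s} : Set G) := Subgroup.subset_closure (by simp)
        have h2 : s ∈ Subgroup.closure ({t, s} : Set G) := Subgroup.subset_closure (by simp)
        rintro x (rfl | rfl | rfl | rfl)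
        · exact one_mem _
        · exact h1
        · exact h2
        · exact mul_mem h1 h2
    rw [e]
    exact kleinOf_isKleinFour_h9 t s _ _ hts (hinv t ht).2 (hinv s hs).2 hne
  rw [Finset.card_eq_sum_card_fiberwise hmap, Finset.sum_const_nat (m := 6), mul_comm]
  intro V hV
  have hVK : IsKleinFour V := (Finset.mem_filter.mp hV).2
  -- the fibre over `V` is the set of ordered pairs of distinct non-identity elements of `V`
  have hfib : (Finset.univ.filter (fun p : G × G => orderOf p.1 = 2 ∧ orderOf p.2 = 2 ∧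
      p.1 ≠ p.2 ∧ p.1 * p.2 = p.2 * p.1)).filter (fun p => Subgroup.closure {p.1, p.2} = V)
      = (Finset.univ.filter (fun g : G => g ∈ V ∧ g ≠ 1)).offDiag := by
    ext ⟨t, s⟩
    simp only [Finset.mem_filter, Finset.mem_univ, true_and, Finset.mem_offDiag]
    constructor
    · rintro ⟨⟨ht, hs, hne, hts⟩, hcl⟩
      have h1 : t ∈ V := hcl ▸ Subgroup.subset_closure (by simp)
      have h2 : s ∈ V := hcl ▸ Subgroup.subset_closure (by simp)
      exact ⟨⟨h1, (hinv t ht).2⟩, ⟨h2, (hinv s hs).2⟩, hne⟩
    · rintro ⟨⟨htV, ht1⟩, ⟨hsV, hs1⟩, hne⟩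
      have htt := klein_sq_h9 V t htV
      have hss := klein_sq_h9 V s hsV
      have hts := klein_comm_h9 V t s htV hsV
      refine ⟨⟨hord t htt ht1, hord s hss hs1, hne, hts⟩, ?_⟩
      have hp := hmap (show (t, s) ∈ ((Finset.univ.filter (fun p : G × G => orderOf p.1 = 2 ∧
        orderOf p.2 = 2 ∧ p.1 ≠ p.2 ∧ p.1 * p.2 = p.2 * p.1) : Finset (G × G)) : Set (G × G)) by
          simp only [Finset.coe_filter, Finset.mem_univ, true_and, Set.mem_setOf_eq]
          exact ⟨hord t htt ht1, hord s hss hs1, hne, hts⟩)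
      have hK : IsKleinFour (Subgroup.closure ({t, s} : Set G)) := by
        simpa using hp
      exact klein_eq_of_mem_h9 _ V t s ht1 hs1 hne (Subgroup.subset_closure (by simp))
        (Subgroup.subset_closure (by simp)) htV hsV
  rw [hfib, Finset.offDiag_card]
  have hc : (Finset.univ.filter (fun g : G => g ∈ V ∧ g ≠ 1)).card = 3 := by
    have h4 : (Finset.univ.filter (fun g : G => g ∈ V)).card = 4 := by
      rw [← hVK.card_four, Nat.card_eq_fintype_card, Fintype.card_subtype]
    have e : Finset.univ.filter (fun g : G => g ∈ V ∧ g ≠ 1)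
        = (Finset.univ.filter (fun g : G => g ∈ V)).erase 1 := by
      ext g
      simp only [Finset.mem_filter, Finset.mem_univ, true_and, Finset.mem_erase]
      tauto
    rw [e, Finset.card_erase_of_mem (by simp [V.one_mem]), h4]
  rw [hc]

end Cfsg.Agent.Helper9
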