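import Mathlib
import Cfsg.Agent.Helper9.Klein1

/-!
# Recognising A₄ and S₄ from a self-centralizing normal four-group (helper9)
-/

set_option autoImplicit false

namespace Cfsg.Agent.Helper9

open scoped Pointwise

theorem mulAut_klein_card_le_h9 {V : Type*} [Group V] [hV : IsKleinFour V] :
    Nat.card (MulAut V) ≤ 6 := by
  classical
  haveI : Finite V := Nat.finite_of_card_ne_zero (by rw [hV.card_four]; norm_num)
  let ι : MulAut V → Equiv.Perm {v : V // v ≠ 1} := fun σ =>
    σ.toEquiv.subtypeEquiv (fun v => by simp)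
  have hι : Function.Injective ι := by
    intro σ τ h
    ext v
    by_cases hv : v = 1
    · subst hv; simp
    · have := congrArg (fun e : Equiv.Perm {v : V // v ≠ 1} => (e ⟨v, hv⟩ : V)) h
      exact this
  have h3 : Nat.card {v : V // v ≠ 1} = 3 := by
    have : Nat.card {v : V // v ≠ 1} = ({(1 : V)}ᶜ : Set V).ncard := rfl
    rw [this, Set.ncard_compl, hV.card_four, Set.ncard_singleton]
  calc Nat.card (MulAut V) ≤ Nat.card (Equiv.Perm {v : V // v ≠ 1}) :=
        Nat.card_le_card_of_injective ι hι
    _ = 6 := by rw [Nat.card_perm, h3]; rfl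

theorem klein_normalizer_card_le_h9 {G : Type*} [Group G] [Finite G] (V : Subgroup G)
    [hV : IsKleinFour V] :
    Nat.card (Subgroup.normalizer (V : Set G)) ≤ 6 * Nat.card (Subgroup.centralizer (V : Set G)) := by
  classical
  have h1 := Subgroup.card_mul_index (V.normalizerMonoidHom).ker
  rw [Subgroup.index_ker, Subgroup.normalizerMonoidHom_ker] at h1
  have h2 : Nat.card ((Subgroup.centralizer (V : Set G)).subgroupOf
      (Subgroup.normalizer (V : Set G))) = Nat.card (Subgroup.centralizer (V : Set G)) :=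
    Nat.card_congr (Subgroup.subgroupOfEquivOfLe (Subgroup.centralizer_le_normalizer _)).toEquiv
  haveI : Finite V := Nat.finite_of_card_ne_zero (by rw [hV.card_four]; norm_num)
  have h3 : Nat.card (V.normalizerMonoidHom).range ≤ 6 :=
    (Nat.card_le_card_of_injective _ (Subgroup.subtype_injective _)).trans
      mulAut_klein_card_le_h9
  rw [h2] at h1
  rw [← h1, mul_comm]
  exact Nat.mul_le_mul_right _ h3

/-- a subgroup of order 12 of `S₄` is `A₄`. -/
theorem perm4_card_twelve_h9 (H : Subgroup (Equiv.Perm (Fin 4))) (hH : Nat.card H = 12) :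
    H = alternatingGroup (Fin 4) := by
  have hA : Nat.card (alternatingGroup (Fin 4)) = 12 := by
    have := two_mul_card_alternatingGroup (α := Fin 4)
    rw [Fintype.card_perm] at this
    rw [Nat.card_eq_fintype_card]
    have h24 : (Fintype.card (Fin 4)).factorial = 24 := by simp [Nat.factorial]
    rw [h24] at this
    omega
  have hidx : H.index = 2 := by
    have := Subgroup.card_mul_index H
    rw [hH, Nat.card_perm] at this
    have h24 : (Nat.card (Fin 4)).factorial = 24 := by simp [Nat.factorial]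
    rw [h24] at this
    omega
  symm
  apply Subgroup.eq_of_le_of_card_ge
  · rw [← Equiv.Perm.closure_three_cycles_eq_alternating, Subgroup.closure_le]
    intro σ hσ
    have h3 : σ ^ 3 = 1 := by
      have := hσ.orderOf
      rw [← this]; exact pow_orderOf_eq_one σ
    have h4 : σ = (σ ^ 2) ^ 2 := by
      rw [← pow_mul]
      show σ = σ ^ (3 + 1)
      rw [pow_add, h3, one_mul, pow_one]
    rw [h4]
    exact Subgroup.sq_mem_of_index_two hidx _
  · rw [hA, hH]

/-- the recognition core: a finite group with a normal self-centralizing four-group and order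
divisible by 3 acts faithfully on its four Sylow 3-subgroups. -/
theorem klein_sylow_action_h9 {N : Type*} [Group N] [Finite N] (V : Subgroup N) [hVn : V.Normal]
    [hV : IsKleinFour V] (hC : Subgroup.centralizer (V : Set N) ≤ V) (h3 : 3 ∣ Nat.card N) :
    (Nat.card N = 12 ∨ Nat.card N = 24) ∧ Nat.card (Sylow 3 N) = 4 ∧
      Function.Injective (MulAction.toPermHom N (Sylow 3 N)) := by
  classical
  haveI : Fact (Nat.Prime 3) := ⟨Nat.prime_three⟩
  have hV4 : Nat.card V = 4 := hV.card_four
  have hsq : ∀ x ∈ V, x * x = 1 := fun x hx => klein_sq_h9 V x hx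
  -- order
  have hcard : Nat.card N = 12 ∨ Nat.card N = 24 := by
    have h4 : 4 ∣ Nat.card N := hV4 ▸ Subgroup.card_subgroup_dvd_card V
    have hle := klein_normalizer_card_le_h9 V
    have hN : Subgroup.normalizer (V : Set N) = ⊤ := Subgroup.normalizer_eq_top V
    rw [hN, Subgroup.card_top] at hle
    have hc4 : Nat.card (Subgroup.centralizer (V : Set N)) ≤ 4 :=
      hV4 ▸ Subgroup.card_le_of_le hC
    have h12 : 12 ∣ Nat.card N :=
      Nat.Coprime.mul_dvd_of_dvd_of_dvd (by norm_num : Nat.Coprime 4 3) h4 h3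
    have hpos : 0 < Nat.card N := Nat.card_pos
    obtain ⟨m, hm⟩ := h12
    have : m = 1 ∨ m = 2 := by omega
    rcases this with rfl | rfl <;> omega
  -- an element of order 3 moves every involution of V
  obtain ⟨g, hg⟩ := exists_prime_orderOf_dvd_card' (G := N) 3 h3
  have hg3 : g ^ 3 = 1 := by rw [← hg]; exact pow_orderOf_eq_one g
  have hg1 : g ≠ 1 := by
    intro h; rw [h, orderOf_one] at hg; norm_num at hg
  have hconj : ∀ x ∈ V, ∀ n : N, n * x * n⁻¹ ∈ V := fun x hx n => hVn.conj_mem x hx n
  have hmove : ∀ v ∈ V, v ≠ 1 → g * v * g⁻¹ ≠ v := by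
    intro v hv hv1 hfix
    -- pick v' ∈ V outside {1, v}
    obtain ⟨v', hv'⟩ : ∃ v' : V, v' ≠ 1 ∧ v' ≠ ⟨v, hv⟩ := by
      by_contra hcon
      push Not at hcon
      have hsub : (Set.univ : Set V) ⊆ {1, ⟨v, hv⟩} := by
        intro x _
        by_cases hx : x = 1
        · left; exact hx
        · right; exact hcon x hx
      have := Set.ncard_le_ncard hsub (Set.toFinite _)
      rw [Set.ncard_univ, hV4] at this
      have h2 := Set.ncard_insert_le (1 : V) {⟨v, hv⟩}
      rw [Set.ncard_singleton] at h2
      omega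
    obtain ⟨hv'1, hv'v⟩ := hv'
    have hall : ∀ x : V, x = 1 ∨ x = ⟨v, hv⟩ ∨ x = v' ∨ x = ⟨v, hv⟩ * v' := by
      intro x
      by_cases hx1 : x = 1
      · exact Or.inl hx1
      by_cases hxv : x = ⟨v, hv⟩
      · exact Or.inr (Or.inl hxv)
      by_cases hxv' : x = v'
      · exact Or.inr (Or.inr (Or.inl hxv'))
      · right; right; right
        exact IsKleinFour.eq_mul_of_ne_all (fun h => hv1 (congrArg Subtype.val h))
          hv'1 (Ne.symm hv'v) hx1 hxv hxv'
    -- w = g v' g⁻¹
    have hwV : g * v'.1 * g⁻¹ ∈ V := hconj _ v'.2 g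
    have hw1 : g * v'.1 * g⁻¹ ≠ 1 := by
      intro h
      apply hv'1
      apply Subtype.ext
      have : (v' : N) = g⁻¹ * (g * v'.1 * g⁻¹) * g := by group
      rw [this, h]; simp
    have hwv : g * v'.1 * g⁻¹ ≠ v := by
      intro h
      apply hv'v
      apply Subtype.ext
      have e1 : (v' : N) = g⁻¹ * (g * v'.1 * g⁻¹) * g := by group
      have e2 : v = g⁻¹ * (g * v * g⁻¹) * g := by group
      rw [e1, h]
      conv_rhs => rw [show ((⟨v, hv⟩ : V) : N) = v from rfl, e2, hfix]
    -- g² centralizes v'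
    have hgg : g * g * v'.1 * (g * g)⁻¹ = v'.1 := by
      rcases hall ⟨_, hwV⟩ with h | h | h | h
      · exact absurd (congrArg Subtype.val h) hw1
      · exact absurd (congrArg Subtype.val h) hwv
      · have h' : g * v'.1 * g⁻¹ = v'.1 := congrArg Subtype.val h
        have : g * g * v'.1 * (g * g)⁻¹ = g * (g * v'.1 * g⁻¹) * g⁻¹ := by group
        rw [this, h', h']
      · have h' : g * v'.1 * g⁻¹ = v * v'.1 := congrArg Subtype.val h
        have : g * g * v'.1 * (g * g)⁻¹ = g * (g * v'.1 * g⁻¹) * g⁻¹ := by group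
        rw [this, h']
        have : g * (v * v'.1) * g⁻¹ = (g * v * g⁻¹) * (g * v'.1 * g⁻¹) := by group
        rw [this, hfix, h', ← mul_assoc, hsq v hv, one_mul]
    have hggv : g * g * v * (g * g)⁻¹ = v := by
      have : g * g * v * (g * g)⁻¹ = g * (g * v * g⁻¹) * g⁻¹ := by group
      rw [this, hfix, hfix]
    have hcent : g * g ∈ Subgroup.centralizer (V : Set N) := by
      rw [Subgroup.mem_centralizer_iff]
      intro x hx
      have hx' : x * (g * g) = g * g * x ↔ g * g * x * (g * g)⁻¹ = x := by
        rw [mul_inv_eq_iff_eq_mul, eq_comm]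
      rw [hx']
      rcases hall ⟨x, hx⟩ with h | h | h | h
      · have : x = 1 := congrArg Subtype.val h
        rw [this]; simp
      · have : x = v := congrArg Subtype.val h
        rw [this]; exact hggv
      · have : x = v'.1 := congrArg Subtype.val h
        rw [this]; exact hgg
      · have : x = v * v'.1 := congrArg Subtype.val h
        rw [this]
        have : g * g * (v * v'.1) * (g * g)⁻¹
            = (g * g * v * (g * g)⁻¹) * (g * g * v'.1 * (g * g)⁻¹) := by group
        rw [this, hggv, hgg]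
    have h4 := hsq _ (hC hcent)
    apply hg1
    have : g = (g * g) * (g * g) * (g ^ 3)⁻¹ := by
      have e : g ^ 3 = g * g * g := by rw [pow_succ, pow_succ, pow_one]
      rw [e]; group
    rw [this, h4, hg3]; simp
  -- Sylow counting
  obtain ⟨P⟩ : Nonempty (Sylow 3 N) := inferInstance
  have hP3 : Nat.card P = 3 := by
    obtain ⟨n, hn⟩ := IsPGroup.iff_card.mp P.2
    have hidx := P.not_dvd_index
    have hmul := Subgroup.card_mul_index (P : Subgroup N)
    rw [hn] at hmul ⊢
    rcases n with _ | _ | n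
    · exfalso
      simp only [pow_zero, one_mul] at hmul
      rw [hmul] at hidx
      exact hidx h3
    · rfl
    · exfalso
      have h9 : 9 ∣ Nat.card N := by
        rw [← hmul]
        have : (3 : ℕ) ^ 2 ∣ 3 ^ (n + 1 + 1) := pow_dvd_pow 3 (by omega)
        exact Dvd.dvd.mul_right (by simpa using this) _
      rcases hcard with h | h
      · rw [h] at h9; omega
      · rw [h] at h9; omega
  have hn3 : Nat.card (Sylow 3 N) = 4 := by
    have hmod := card_sylow_modEq_one 3 N
    have hdvd := Sylow.card_dvd_index P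
    have hmul := Subgroup.card_mul_index (P : Subgroup N)
    rw [hP3] at hmul
    have hne1 : Nat.card (Sylow 3 N) ≠ 1 := by
      intro h1
      haveI : Subsingleton (Sylow 3 N) := (Nat.card_eq_one_iff_unique.mp h1).1
      have hPn : (P : Subgroup N).Normal := Sylow.normal_of_subsingleton P
      have hdisj : Disjoint (P : Subgroup N) V := by
        rw [Subgroup.disjoint_def]
        intro x hxP hxV
        have h1 : orderOf x ∣ 3 := hP3 ▸ (Subgroup.orderOf_coe (⟨x, hxP⟩ : P)).symm ▸ orderOf_dvd_natCard _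
        have h2 : orderOf x ∣ 2 := orderOf_dvd_of_pow_eq_one (by rw [sq]; exact hsq x hxV)
        have : orderOf x ∣ Nat.gcd 3 2 := Nat.dvd_gcd h1 h2
        exact orderOf_eq_one_iff.mp (Nat.dvd_one.mp (by simpa using this))
      have hcomm := Subgroup.commute_of_normal_of_disjoint _ _ hPn hVn hdisj
      -- conjugate of g lies in P; easier: P ≤ centralizer V ≤ V
      have hPV : (P : Subgroup N) ≤ V := by
        intro x hx
        apply hC
        rw [Subgroup.mem_centralizer_iff]
        intro y hy
        exact (hcomm x y hx hy).eq.symm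
      have := Subgroup.card_dvd_of_le hPV
      rw [hP3, hV4] at this
      omega
    have hidx : (P : Subgroup N).index = 4 ∨ (P : Subgroup N).index = 8 := by
      rcases hcard with h | h <;> rw [h] at hmul <;> omega
    have hpos : 0 < Nat.card (Sylow 3 N) := Nat.card_pos
    have hmod' : Nat.card (Sylow 3 N) % 3 = 1 := hmod
    rcases hidx with h | h
    · rw [h] at hdvd
      have hle := Nat.le_of_dvd (by norm_num) hdvd
      interval_cases hk : Nat.card (Sylow 3 N) <;> simp_all
    · rw [h] at hdvd
      have hle := Nat.le_of_dvd (by norm_num) hdvd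
      interval_cases hk : Nat.card (Sylow 3 N) <;> simp_all
  refine ⟨hcard, hn3, ?_⟩
  -- kernel
  rw [← MonoidHom.ker_eq_bot_iff]
  set K := (MulAction.toPermHom N (Sylow 3 N)).ker with hK
  have hKn : K.Normal := MonoidHom.normal_ker _
  have hKP : K ≤ Subgroup.normalizer ((P : Subgroup N) : Set N) := by
    intro x hx
    rw [hK, MonoidHom.mem_ker] at hx
    have : x • P = P := by
      have := congrArg (fun σ : Equiv.Perm (Sylow 3 N) => σ P) hx
      simpa using this
    exact Sylow.smul_eq_iff_mem_normalizer.mp this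
  have hNP : Nat.card (Subgroup.normalizer ((P : Subgroup N) : Set N)) * 4 = Nat.card N := by
    have := Subgroup.card_mul_index (Subgroup.normalizer ((P : Subgroup N) : Set N))
    have h5 : (Subgroup.normalizer ((P : Subgroup N) : Set N)).index = 4 := by
      rw [← hn3]; exact (Sylow.card_eq_index_normalizer P).symm
    rw [h5] at this
    exact this
  have hKV : K ⊓ V = ⊥ := by
    rw [Subgroup.eq_bot_iff_forall]
    intro z hz
    by_contra hz1
    obtain ⟨hzK, hzV⟩ := Subgroup.mem_inf.mp hz
    have hw : g * z * g⁻¹ ∈ K ⊓ V :=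
      Subgroup.mem_inf.mpr ⟨hKn.conj_mem z hzK g, hconj z hzV g⟩
    have hwz : g * z * g⁻¹ ≠ z := hmove z hzV hz1
    have hw1 : g * z * g⁻¹ ≠ 1 := by
      intro h
      apply hz1
      have : z = g⁻¹ * (g * z * g⁻¹) * g := by group
      rw [this, h]; simp
    -- V ≤ K ⊓ V
    have hVK : V ≤ K ⊓ V := by
      intro x hx
      by_cases hx1 : x = 1
      · rw [hx1]; exact Subgroup.one_mem _
      by_cases hxz : x = z
      · rw [hxz]; exact hz
      by_cases hxw : x = g * z * g⁻¹
      · rw [hxw]; exact hw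
      · have := IsKleinFour.eq_mul_of_ne_all (G := V) (x := ⟨z, hzV⟩)
          (y := ⟨g * z * g⁻¹, (Subgroup.mem_inf.mp hw).2⟩) (z := ⟨x, hx⟩)
          (fun h => hz1 (congrArg Subtype.val h)) (fun h => hw1 (congrArg Subtype.val h))
          (fun h => hwz (congrArg Subtype.val h).symm) (fun h => hx1 (congrArg Subtype.val h))
          (fun h => hxz (congrArg Subtype.val h)) (fun h => hxw (congrArg Subtype.val h))
        have h' : x = z * (g * z * g⁻¹) := congrArg Subtype.val this
        rw [h']; exact Subgroup.mul_mem _ hz hw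
    have hdv : 4 ∣ Nat.card (Subgroup.normalizer ((P : Subgroup N) : Set N)) := by
      rw [← hV4]
      exact Subgroup.card_dvd_of_le (hVK.trans (inf_le_left.trans hKP))
    obtain ⟨m, hm⟩ := hdv
    rw [hm] at hNP
    rcases hcard with h | h <;> rw [h] at hNP <;> omega
  have hKC : K ≤ Subgroup.centralizer (V : Set N) := by
    intro x hx
    rw [Subgroup.mem_centralizer_iff]
    intro y hy
    exact (Subgroup.commute_of_normal_of_disjoint _ _ hKn hVn (disjoint_iff.mpr hKV) x y hx hy).eq.symm
  rw [eq_bot_iff, ← hKV]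
  exact le_inf le_rfl (hKC.trans hC)

theorem klein_recog_S4_h9 {N : Type*} [Group N] [Finite N] (V : Subgroup N) [hVn : V.Normal]
    [hV : IsKleinFour V] (hC : Subgroup.centralizer (V : Set N) ≤ V) (h3 : 3 ∣ Nat.card N)
    (h12 : Nat.card N ≠ 12) : Nonempty (N ≃* Equiv.Perm (Fin 4)) := by
  classical
  obtain ⟨hcard, hn3, hinj⟩ := klein_sylow_action_h9 V hC h3
  have h24 : Nat.card N = 24 := by
    rcases hcard with h | h
    · exact absurd h h12
    · exact h
  let e : Sylow 3 N ≃ Fin 4 := Finite.equivFinOfCardEq hn3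
  let ψ : N →* Equiv.Perm (Fin 4) :=
    (Equiv.permCongrHom e).toMonoidHom.comp (MulAction.toPermHom N (Sylow 3 N))
  have hψ : Function.Injective ψ := (Equiv.permCongrHom e).injective.comp hinj
  have hbij : Function.Bijective ψ := by
    apply Function.Injective.bijective_of_nat_card_le hψ
    rw [h24, Nat.card_perm]
    simp [Nat.factorial]
  exact ⟨MulEquiv.ofBijective ψ hbij⟩

theorem klein_recog_A4_h9 {N : Type*} [Group N] [Finite N] (V : Subgroup N) [hVn : V.Normal]
    [hV : IsKleinFour V] (hC : Subgroup.centralizer (V : Set N) ≤ V) (h3 : 3 ∣ Nat.card N)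
    (h12 : Nat.card N = 12) : Nonempty (N ≃* alternatingGroup (Fin 4)) := by
  classical
  obtain ⟨hcard, hn3, hinj⟩ := klein_sylow_action_h9 V hC h3
  let e : Sylow 3 N ≃ Fin 4 := Finite.equivFinOfCardEq hn3
  let ψ : N →* Equiv.Perm (Fin 4) :=
    (Equiv.permCongrHom e).toMonoidHom.comp (MulAction.toPermHom N (Sylow 3 N))
  have hψ : Function.Injective ψ := (Equiv.permCongrHom e).injective.comp hinj
  have hr : Nat.card ψ.range = 12 := by
    rw [← h12]
    exact Nat.card_congr (MonoidHom.ofInjective hψ).toEquiv.symm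
  have hrA := perm4_card_twelve_h9 ψ.range hr
  exact ⟨(MonoidHom.ofInjective hψ).trans (MulEquiv.subgroupCongr hrA)⟩

theorem klein_exists_A4_h9 {N : Type*} [Group N] [Finite N] (V : Subgroup N) [hVn : V.Normal]
    [hV : IsKleinFour V] (hC : Subgroup.centralizer (V : Set N) ≤ V) (h3 : 3 ∣ Nat.card N) :
    ∃ H : Subgroup N, Nonempty (H ≃* alternatingGroup (Fin 4)) := by
  by_cases h12 : Nat.card N = 12
  · obtain ⟨e⟩ := klein_recog_A4_h9 V hC h3 h12
    exact ⟨⊤, ⟨Subgroup.topEquiv.trans e⟩⟩
  · obtain ⟨e⟩ := klein_recog_S4_h9 V hC h3 h12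
    exact ⟨(alternatingGroup (Fin 4)).map e.symm.toMonoidHom,
      ⟨((alternatingGroup (Fin 4)).equivMapOfInjective e.symm.toMonoidHom e.symm.injective).symm⟩⟩

/-- the ambient version: a four-group `V ≤ G` with `C_G(V) ≤ V` and `3 ∣ |N_G(V)|`. -/
theorem klein_ambient_h9 {G : Type*} [Group G] [Finite G] (V : Subgroup G) [hV : IsKleinFour V]
    (hC : Subgroup.centralizer (V : Set G) ≤ V)
    (h3 : 3 ∣ Nat.card (Subgroup.normalizer (V : Set G))) :
    (∃ H : Subgroup G, Nonempty (H ≃* alternatingGroup (Fin 4))) ∧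
      (Nat.card (Subgroup.normalizer (V : Set G)) ≠ 12 →
        ∃ H : Subgroup G, Nonempty (H ≃* Equiv.Perm (Fin 4))) := by
  classical
  set N := Subgroup.normalizer (V : Set G) with hN
  haveI hVn : (V.subgroupOf N).Normal := Subgroup.normal_in_normalizer
  let e0 : V.subgroupOf N ≃* V := Subgroup.subgroupOfEquivOfLe (Subgroup.le_normalizer (H := V))
  haveI hV' : IsKleinFour (V.subgroupOf N) :=
    ⟨(Nat.card_congr e0.toEquiv).trans hV.card_four,
      (Monoid.exponent_eq_of_mulEquiv e0).trans hV.exponent_two⟩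
  have hC' : Subgroup.centralizer ((V.subgroupOf N : Subgroup N) : Set N) ≤ V.subgroupOf N := by
    intro x hx
    rw [Subgroup.mem_subgroupOf]
    apply hC
    rw [Subgroup.mem_centralizer_iff]
    intro y hy
    have := Subgroup.mem_centralizer_iff.mp hx ⟨y, Subgroup.le_normalizer hy⟩
      (by rw [SetLike.mem_coe, Subgroup.mem_subgroupOf]; exact hy)
    exact congrArg Subtype.val this
  refine ⟨?_, ?_⟩
  · obtain ⟨H, ⟨e⟩⟩ := klein_exists_A4_h9 (V.subgroupOf N) hC' h3
    exact ⟨H.map N.subtype,
      ⟨(H.equivMapOfInjective N.subtype N.subtype_injective).symm.trans e⟩⟩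
  · intro h12
    obtain ⟨e⟩ := klein_recog_S4_h9 (V.subgroupOf N) hC' h3 h12
    exact ⟨N, ⟨e⟩⟩
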