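import Cfsg.Agent.Helper9.SL2f

/-!
# Conjugacy classes of four-groups of PSL(2, q), q odd (helper9), part 2
-/

set_option autoImplicit false
open scoped MatrixGroups

namespace Cfsg.Agent.Helper9

theorem psl2_T_invol_h9 {F : Type*} [Field F] (h2 : (2 : F) ≠ 0) (y : SL(2, F))
    (hy : y ∈ sl2T_h9 F) :
    orderOf (QuotientGroup.mk y : Matrix.ProjectiveSpecialLinearGroup (Fin 2) F) = 2 ∧
    (QuotientGroup.mk (sl2J_h9 F) : Matrix.ProjectiveSpecialLinearGroup (Fin 2) F)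
      ≠ QuotientGroup.mk y ∧
    (QuotientGroup.mk (sl2J_h9 F) : Matrix.ProjectiveSpecialLinearGroup (Fin 2) F) *
      QuotientGroup.mk y = QuotientGroup.mk y * QuotientGroup.mk (sl2J_h9 F) := by
  have : (QuotientGroup.mk y : Matrix.ProjectiveSpecialLinearGroup (Fin 2) F) ∈
      {s : Matrix.ProjectiveSpecialLinearGroup (Fin 2) F | orderOf s = 2 ∧
      (QuotientGroup.mk (sl2J_h9 F) : Matrix.ProjectiveSpecialLinearGroup (Fin 2) F) ≠ s ∧
      (QuotientGroup.mk (sl2J_h9 F) : Matrix.ProjectiveSpecialLinearGroup (Fin 2) F) * s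
        = s * QuotientGroup.mk (sl2J_h9 F)} := by
    rw [psl2_invols_comm_J_h9 F h2]
    exact ⟨y, hy, rfl⟩
  exact this

theorem ne_one_of_orderOf_two_h9 {G : Type*} [Group G] (x : G) (hx : orderOf x = 2) : x ≠ 1 := by
  rintro rfl
  rw [orderOf_one] at hx
  omega

theorem psl2_klein_conj_sq_h9 {F : Type*} [Field F] (h2 : (2 : F) ≠ 0)
    (V W : Subgroup (Matrix.ProjectiveSpecialLinearGroup (Fin 2) F)) [hV : IsKleinFour V]
    [hW : IsKleinFour W] (y c : SL(2, F)) (hy : y ∈ sl2T_h9 F) (hc : c ∈ sl2S_h9 F)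
    (hV0 : (QuotientGroup.mk (sl2J_h9 F) : Matrix.ProjectiveSpecialLinearGroup (Fin 2) F) ∈ V)
    (hVy : (QuotientGroup.mk y : Matrix.ProjectiveSpecialLinearGroup (Fin 2) F) ∈ V)
    (hW0 : (QuotientGroup.mk (sl2J_h9 F) : Matrix.ProjectiveSpecialLinearGroup (Fin 2) F) ∈ W)
    (hWy : (QuotientGroup.mk (c * c * y) : Matrix.ProjectiveSpecialLinearGroup (Fin 2) F) ∈ W) :
    W = V.map (MulAut.conj
      (QuotientGroup.mk c : Matrix.ProjectiveSpecialLinearGroup (Fin 2) F)).toMonoidHom := by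
  have hccy : c * c * y ∈ sl2T_h9 F := by
    rw [mul_assoc]
    exact sl2_ST_mul_h9 _ _ hc (sl2_ST_mul_h9 _ _ hc hy)
  obtain ⟨ho, hne, -⟩ := psl2_T_invol_h9 h2 _ hccy
  haveI := klein_map_conj_h9 V
    (QuotientGroup.mk c : Matrix.ProjectiveSpecialLinearGroup (Fin 2) F)
  symm
  refine klein_eq_of_mem_h9 _ W _ _ (ne_one_of_orderOf_two_h9 _ (psl2J_order_h9 F h2))
    (ne_one_of_orderOf_two_h9 _ ho) hne ?_ ?_ hW0 hWy
  · have h := conj_mem_map_h9 V
      (QuotientGroup.mk c : Matrix.ProjectiveSpecialLinearGroup (Fin 2) F) _ hV0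
    have e : (QuotientGroup.mk c : Matrix.ProjectiveSpecialLinearGroup (Fin 2) F) *
        QuotientGroup.mk (sl2J_h9 F) * (QuotientGroup.mk c)⁻¹ = QuotientGroup.mk (sl2J_h9 F) := by
      rw [← QuotientGroup.mk_mul, (show c * sl2J_h9 F = sl2J_h9 F * c from hc),
        QuotientGroup.mk_mul, mul_inv_cancel_right]
    rwa [e] at h
  · have h := conj_mem_map_h9 V
      (QuotientGroup.mk c : Matrix.ProjectiveSpecialLinearGroup (Fin 2) F) _ hVy
    have e : (QuotientGroup.mk c : Matrix.ProjectiveSpecialLinearGroup (Fin 2) F) *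
        QuotientGroup.mk y * (QuotientGroup.mk c)⁻¹ = QuotientGroup.mk (c * c * y) := by
      rw [← QuotientGroup.mk_inv, ← QuotientGroup.mk_mul, ← QuotientGroup.mk_mul,
        sl2_conj_ST_h9 c y hc hy]
    rwa [e] at h

theorem psl2_klein_normal_form_h9 {F : Type*} [Field F] [Fintype F]
    (hF : Fintype.card F % 2 = 1) (h2 : (2 : F) ≠ 0)
    (W : Subgroup (Matrix.ProjectiveSpecialLinearGroup (Fin 2) F)) [hW : IsKleinFour W] :
    ∃ g : Matrix.ProjectiveSpecialLinearGroup (Fin 2) F, ∃ y ∈ sl2T_h9 F,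
      (QuotientGroup.mk (sl2J_h9 F) : Matrix.ProjectiveSpecialLinearGroup (Fin 2) F) ∈
        W.map (MulAut.conj g).toMonoidHom ∧
      (QuotientGroup.mk y : Matrix.ProjectiveSpecialLinearGroup (Fin 2) F) ∈
        W.map (MulAut.conj g).toMonoidHom := by
  have hnt : ∃ t ∈ W, t ≠ 1 := by
    by_contra hcon
    have hbot : W = ⊥ := by
      rw [Subgroup.eq_bot_iff_forall]
      intro x hx
      by_contra hx1
      exact hcon ⟨x, hx, hx1⟩
    have h4 := hW.card_four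
    rw [hbot] at h4
    simp at h4
  obtain ⟨t, htW, ht1⟩ := hnt
  have hto : orderOf t = 2 := orderOf_eq_prime (by rw [sq]; exact klein_sq_h9 W t htW) ht1
  obtain ⟨u, rfl, huu⟩ := psl2_invol_lift_h9 h2 t hto
  obtain ⟨P, hP⟩ := sl2_conj_J_h9 hF h2 u huu
  haveI hK := klein_map_conj_h9 W
    (QuotientGroup.mk P⁻¹ : Matrix.ProjectiveSpecialLinearGroup (Fin 2) F)
  have h0 : (QuotientGroup.mk (sl2J_h9 F) : Matrix.ProjectiveSpecialLinearGroup (Fin 2) F) ∈
      W.map (MulAut.conj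
        (QuotientGroup.mk P⁻¹ : Matrix.ProjectiveSpecialLinearGroup (Fin 2) F)).toMonoidHom := by
    have h := conj_mem_map_h9 W
      (QuotientGroup.mk P⁻¹ : Matrix.ProjectiveSpecialLinearGroup (Fin 2) F) _ htW
    have e : (QuotientGroup.mk P⁻¹ : Matrix.ProjectiveSpecialLinearGroup (Fin 2) F) *
        QuotientGroup.mk u * (QuotientGroup.mk P⁻¹)⁻¹ = QuotientGroup.mk (sl2J_h9 F) := by
      rw [← QuotientGroup.mk_inv, ← QuotientGroup.mk_mul, ← QuotientGroup.mk_mul, hP]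
      congr 1
      group
    rwa [e] at h
  have hex : ∃ s ∈ W.map (MulAut.conj
      (QuotientGroup.mk P⁻¹ : Matrix.ProjectiveSpecialLinearGroup (Fin 2) F)).toMonoidHom,
      s ≠ 1 ∧ s ≠ QuotientGroup.mk (sl2J_h9 F) := by
    have h4 : ((W.map (MulAut.conj
        (QuotientGroup.mk P⁻¹ : Matrix.ProjectiveSpecialLinearGroup (Fin 2) F)).toMonoidHom :
          Subgroup (Matrix.ProjectiveSpecialLinearGroup (Fin 2) F)) :
        Set (Matrix.ProjectiveSpecialLinearGroup (Fin 2) F)).ncard = 4 := hK.card_four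
    have h2' : ({1, QuotientGroup.mk (sl2J_h9 F)} :
        Set (Matrix.ProjectiveSpecialLinearGroup (Fin 2) F)).ncard ≤ 2 :=
      (Set.ncard_insert_le _ _).trans (by rw [Set.ncard_singleton])
    obtain ⟨s, hs, hsn⟩ := Set.exists_mem_notMem_of_ncard_lt_ncard
      (s := ({1, QuotientGroup.mk (sl2J_h9 F)} :
        Set (Matrix.ProjectiveSpecialLinearGroup (Fin 2) F))) (by rw [h4]; omega) (Set.toFinite _)
    exact ⟨s, hs, fun h => hsn (by rw [h]; simp), fun h => hsn (by rw [h]; simp)⟩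
  obtain ⟨s, hsW, hs1, hsJ⟩ := hex
  have hso : orderOf s = 2 := orderOf_eq_prime (by rw [sq]; exact klein_sq_h9 _ s hsW) hs1
  have hcomm : (QuotientGroup.mk (sl2J_h9 F) : Matrix.ProjectiveSpecialLinearGroup (Fin 2) F) * s
      = s * QuotientGroup.mk (sl2J_h9 F) := klein_comm_h9 _ _ _ h0 hsW
  have hmem : s ∈ {s : Matrix.ProjectiveSpecialLinearGroup (Fin 2) F | orderOf s = 2 ∧
      (QuotientGroup.mk (sl2J_h9 F) : Matrix.ProjectiveSpecialLinearGroup (Fin 2) F) ≠ s ∧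
      (QuotientGroup.mk (sl2J_h9 F) : Matrix.ProjectiveSpecialLinearGroup (Fin 2) F) * s
        = s * QuotientGroup.mk (sl2J_h9 F)} := ⟨hso, fun h => hsJ h.symm, hcomm⟩
  rw [psl2_invols_comm_J_h9 F h2] at hmem
  obtain ⟨y, hy, rfl⟩ := hmem
  exact ⟨_, y, hy, h0, hsW⟩

/-- two four-groups containing `J̄` whose second generators differ by `z ∈ S` which is a square or
`e` times a square are conjugate. -/
theorem psl2_klein_conj_of_dichotomy_h9 {F : Type*} [Field F] (h2 : (2 : F) ≠ 0)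
    (V W : Subgroup (Matrix.ProjectiveSpecialLinearGroup (Fin 2) F)) [hV : IsKleinFour V]
    [hW : IsKleinFour W] (y c e : SL(2, F)) (hy : y ∈ sl2T_h9 F) (hc : c ∈ sl2S_h9 F)
    (he : e ∈ sl2S_h9 F)
    (hV0 : (QuotientGroup.mk (sl2J_h9 F) : Matrix.ProjectiveSpecialLinearGroup (Fin 2) F) ∈ V)
    (hVy : (QuotientGroup.mk (e * y) : Matrix.ProjectiveSpecialLinearGroup (Fin 2) F) ∈ V)
    (hW0 : (QuotientGroup.mk (sl2J_h9 F) : Matrix.ProjectiveSpecialLinearGroup (Fin 2) F) ∈ W)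
    (hWy : (QuotientGroup.mk (c * c * e * y) : Matrix.ProjectiveSpecialLinearGroup (Fin 2) F) ∈ W) :
    W = V.map (MulAut.conj
      (QuotientGroup.mk c : Matrix.ProjectiveSpecialLinearGroup (Fin 2) F)).toMonoidHom := by
  apply psl2_klein_conj_sq_h9 h2 V W (e * y) c (sl2_ST_mul_h9 _ _ he hy) hc hV0 hVy hW0
  rw [← mul_assoc]; exact hWy

theorem psl2_klein_all_conj_h9 {F : Type*} [Field F] [Fintype F]
    (hF : Fintype.card F % 2 = 1) (h2 : (2 : F) ≠ 0)
    (hJ : ¬ ∃ c ∈ sl2S_h9 F, c * c = sl2J_h9 F)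
    (V W : Subgroup (Matrix.ProjectiveSpecialLinearGroup (Fin 2) F)) [hV : IsKleinFour V]
    [hW : IsKleinFour W] :
    ∃ g : Matrix.ProjectiveSpecialLinearGroup (Fin 2) F,
      W = V.map (MulAut.conj g).toMonoidHom := by
  obtain ⟨gV, yV, hyV, hV0, hVy⟩ := psl2_klein_normal_form_h9 hF h2 V
  obtain ⟨gW, yW, hyW, hW0, hWy⟩ := psl2_klein_normal_form_h9 hF h2 W
  haveI := klein_map_conj_h9 V gV
  haveI := klein_map_conj_h9 W gW
  obtain ⟨z, hz, hzy⟩ := sl2T_quot_h9 yW yV hyW hyV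
  have key : ∃ c : SL(2, F), W.map (MulAut.conj gW).toMonoidHom =
      (V.map (MulAut.conj gV).toMonoidHom).map (MulAut.conj
        (QuotientGroup.mk c : Matrix.ProjectiveSpecialLinearGroup (Fin 2) F)).toMonoidHom := by
    rcases (sl2S_sq_dichotomy_h9 h2).2 (sl2J_h9 F) sl2S_J_h9 hJ z hz with ⟨c, hc, hcz⟩ | ⟨c, hc, hcz⟩
    · refine ⟨c, psl2_klein_conj_sq_h9 h2 _ _ yV c hyV hc hV0 hVy hW0 ?_⟩
      rw [hcz, hzy]; exact hWy
    · refine ⟨c, psl2_klein_conj_of_dichotomy_h9 h2 _ _ yV c (sl2J_h9 F) hyV hc sl2S_J_h9 hV0 ?_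
        hW0 ?_⟩
      · rw [QuotientGroup.mk_mul]
        exact Subgroup.mul_mem _ hV0 hVy
      · rw [hcz, hzy]; exact hWy
  obtain ⟨c, hc⟩ := key
  have h1 : ∃ g : Matrix.ProjectiveSpecialLinearGroup (Fin 2) F,
      W.map (MulAut.conj gW).toMonoidHom = V.map (MulAut.conj g).toMonoidHom :=
    sconj_trans_h9 ⟨gV, rfl⟩ ⟨_, hc⟩
  exact sconj_trans_h9 h1 (sconj_symm_h9 ⟨gW, rfl⟩)

theorem psl2_klein_two_classes_h9 {F : Type*} [Field F] [Fintype F]
    (hF : Fintype.card F % 2 = 1) (h2 : (2 : F) ≠ 0)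
    (c₀ : SL(2, F)) (hc₀ : c₀ ∈ sl2S_h9 F) (hcc : c₀ * c₀ = sl2J_h9 F) :
    ∃ V₁ V₂ : Subgroup (Matrix.ProjectiveSpecialLinearGroup (Fin 2) F),
      IsKleinFour V₁ ∧ IsKleinFour V₂ ∧
      (¬ ∃ g : Matrix.ProjectiveSpecialLinearGroup (Fin 2) F,
        V₂ = V₁.map (MulAut.conj g).toMonoidHom) ∧
      ∀ W : Subgroup (Matrix.ProjectiveSpecialLinearGroup (Fin 2) F), IsKleinFour W →
        (∃ g : Matrix.ProjectiveSpecialLinearGroup (Fin 2) F,
          W = V₁.map (MulAut.conj g).toMonoidHom) ∨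
        (∃ g : Matrix.ProjectiveSpecialLinearGroup (Fin 2) F,
          W = V₂.map (MulAut.conj g).toMonoidHom) := by
  obtain ⟨⟨e, he, hne⟩, hdich⟩ := sl2S_sq_dichotomy_h9 (F := F) h2
  obtain ⟨y₁, hy₁⟩ := sl2T_nonempty_h9 (F := F) hF
  obtain ⟨ho1, hne1, hcomm1⟩ := psl2_T_invol_h9 h2 y₁ hy₁
  have hey : e * y₁ ∈ sl2T_h9 F := sl2_ST_mul_h9 _ _ he hy₁
  obtain ⟨ho2, hne2, hcomm2⟩ := psl2_T_invol_h9 h2 _ hey
  obtain ⟨V₁, hV₁, hV₁0, hV₁y⟩ := exists_klein_of_comm_invols_h9 _ _ (psl2J_order_h9 F h2) ho1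
    hne1 hcomm1
  obtain ⟨V₂, hV₂, hV₂0, hV₂y⟩ := exists_klein_of_comm_invols_h9 _ _ (psl2J_order_h9 F h2) ho2
    hne2 hcomm2
  have hall : ∀ W : Subgroup (Matrix.ProjectiveSpecialLinearGroup (Fin 2) F), IsKleinFour W →
      (∃ g : Matrix.ProjectiveSpecialLinearGroup (Fin 2) F,
        W = V₁.map (MulAut.conj g).toMonoidHom) ∨
      (∃ g : Matrix.ProjectiveSpecialLinearGroup (Fin 2) F,
        W = V₂.map (MulAut.conj g).toMonoidHom) := by
    intro W hW
    obtain ⟨gW, yW, hyW, hW0, hWy⟩ := psl2_klein_normal_form_h9 hF h2 W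
    haveI := klein_map_conj_h9 W gW
    obtain ⟨z, hz, hzy⟩ := sl2T_quot_h9 yW y₁ hyW hy₁
    rcases hdich e he hne z hz with ⟨c, hc, hcz⟩ | ⟨c, hc, hcz⟩
    · left
      have h := psl2_klein_conj_sq_h9 h2 V₁ (W.map (MulAut.conj gW).toMonoidHom) y₁ c hy₁ hc
        hV₁0 hV₁y hW0 (by rw [hcz, hzy]; exact hWy)
      exact sconj_trans_h9 ⟨_, h⟩ (sconj_symm_h9 ⟨gW, rfl⟩)
    · right
      have h := psl2_klein_conj_of_dichotomy_h9 h2 V₂ (W.map (MulAut.conj gW).toMonoidHom) y₁ c e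
        hy₁ hc he hV₂0 hV₂y hW0 (by rw [hcz, hzy]; exact hWy)
      exact sconj_trans_h9 ⟨_, h⟩ (sconj_symm_h9 ⟨gW, rfl⟩)
  refine ⟨V₁, V₂, hV₁, hV₂, ?_, hall⟩
  intro hconj
  -- then every four-group is conjugate to `V₁`, so `|N(V₁)| = 12`
  have hall' : ∀ W : Subgroup (Matrix.ProjectiveSpecialLinearGroup (Fin 2) F), IsKleinFour W ↔
      ∃ g : Matrix.ProjectiveSpecialLinearGroup (Fin 2) F,
        W = V₁.map (MulAut.conj g).toMonoidHom := by
    intro W
    constructor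
    · intro hW
      rcases hall W hW with h | h
      · exact h
      · exact sconj_trans_h9 hconj h
    · rintro ⟨g, rfl⟩
      exact klein_map_conj_h9 V₁ g
  have hcount := psl2_klein_count_h9 F hF h2
  have horb := card_sconj_mul_normalizer_h9 V₁
  rw [← Nat.card_congr (Equiv.subtypeEquivRight hall')] at horb
  have hpos : 0 < Nat.card {V : Subgroup (Matrix.ProjectiveSpecialLinearGroup (Fin 2) F) //
      IsKleinFour V} := by
    haveI : Nonempty {V : Subgroup (Matrix.ProjectiveSpecialLinearGroup (Fin 2) F) //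
      IsKleinFour V} := ⟨⟨V₁, hV₁⟩⟩
    exact Nat.card_pos
  have h12 : Nat.card (Subgroup.normalizer
      (V₁ : Set (Matrix.ProjectiveSpecialLinearGroup (Fin 2) F))) = 12 := by
    have : Nat.card {V : Subgroup (Matrix.ProjectiveSpecialLinearGroup (Fin 2) F) //
        IsKleinFour V} * Nat.card (Subgroup.normalizer
          (V₁ : Set (Matrix.ProjectiveSpecialLinearGroup (Fin 2) F))) =
        Nat.card {V : Subgroup (Matrix.ProjectiveSpecialLinearGroup (Fin 2) F) //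
          IsKleinFour V} * 12 := by
      rw [horb, ← hcount]; ring
    exact Nat.eq_of_mul_eq_mul_left hpos this
  -- but `π c₀` normalizes `V₁` and has order 4
  have hnorm : (QuotientGroup.mk c₀ : Matrix.ProjectiveSpecialLinearGroup (Fin 2) F) ∈
      Subgroup.normalizer (V₁ : Set (Matrix.ProjectiveSpecialLinearGroup (Fin 2) F)) := by
    rw [Subgroup.mem_normalizer_iff_map_conj_eq]
    have h := psl2_klein_conj_sq_h9 h2 V₁ V₁ y₁ c₀ hy₁ hc₀ hV₁0 hV₁y hV₁0 (by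
      rw [hcc, QuotientGroup.mk_mul]
      exact Subgroup.mul_mem _ hV₁0 hV₁y)
    exact h.symm
  refine klein_normalizer_ne_twelve_h9 V₁ _ hnorm ?_ ?_ h12
  · rw [← QuotientGroup.mk_pow, QuotientGroup.eq_one_iff, sl2_center_h9]
    right
    have : c₀ ^ 4 = (c₀ * c₀) * (c₀ * c₀) := by
      rw [show (4 : ℕ) = 2 + 2 from rfl, pow_add, sq]
    rw [this, hcc, sl2J_sq_h9]
  · rw [← QuotientGroup.mk_mul, hcc]
    exact ne_one_of_orderOf_two_h9 _ (psl2J_order_h9 F h2)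

end Cfsg.Agent.Helper9
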