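import Cfsg.Agent.Helper9.Klein1

/-!
# Counting Klein four-subgroups when all involutions are conjugate (helper9)
-/

set_option autoImplicit false

namespace Cfsg.Agent.Helper9

theorem orderOf_conj_eq_h9 {G : Type*} [Group G] (g s : G) :
    orderOf (g * s * g⁻¹) = orderOf s :=
  orderOf_injective (MulAut.conj g).toMonoidHom (MulAut.conj g).injective s

theorem orderOf_conj_eq'_h9 {G : Type*} [Group G] (g s : G) :
    orderOf (g⁻¹ * s * g) = orderOf s := by
  have := orderOf_conj_eq_h9 g⁻¹ s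
  rwa [inv_inv] at this

theorem card_conj_mul_centralizer_h9 {G : Type*} [Group G] [Finite G] (g₀ : G) :
    Nat.card {x : G // IsConj g₀ x} * Nat.card (Subgroup.centralizer ({g₀} : Set G))
      = Nat.card G := by
  classical
  haveI : Fintype G := Fintype.ofFinite G
  rw [Nat.card_eq_fintype_card, Nat.card_eq_fintype_card, Nat.card_eq_fintype_card,
    Fintype.card_subtype, Fintype.card_subtype]
  rw [← Finset.card_univ (α := G),
    Finset.card_eq_sum_card_image (fun c : G => c * g₀ * c⁻¹) Finset.univ,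
    Finset.sum_const_nat (m := (Finset.univ.filter
      (fun x : G => x ∈ Subgroup.centralizer ({g₀} : Set G))).card)]
  · congr 2
    ext y
    simp only [Finset.mem_image, Finset.mem_univ, true_and, Finset.mem_filter, isConj_iff]
  · intro y hy
    obtain ⟨c₀, -, rfl⟩ := Finset.mem_image.mp hy
    apply Finset.card_bij (fun c _ => c₀⁻¹ * c)
    · intro c hc
      simp only [Finset.mem_filter, Finset.mem_univ, true_and] at hc ⊢
      rw [Subgroup.mem_centralizer_singleton_iff]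
      calc c₀⁻¹ * c * g₀ = c₀⁻¹ * (c * g₀ * c⁻¹) * c := by group
        _ = c₀⁻¹ * (c₀ * g₀ * c₀⁻¹) * c := by rw [hc]
        _ = g₀ * (c₀⁻¹ * c) := by group
    · intro a _ b _ h
      exact mul_left_cancel h
    · intro b hb
      simp only [Finset.mem_filter, Finset.mem_univ, true_and] at hb
      rw [Subgroup.mem_centralizer_singleton_iff] at hb
      refine ⟨c₀ * b, ?_, by group⟩
      simp only [Finset.mem_filter, Finset.mem_univ, true_and]
      calc c₀ * b * g₀ * (c₀ * b)⁻¹ = c₀ * (b * g₀) * b⁻¹ * c₀⁻¹ := by group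
        _ = c₀ * (g₀ * b) * b⁻¹ * c₀⁻¹ := by rw [hb]
        _ = c₀ * g₀ * c₀⁻¹ := by group

theorem klein_count_h9 {G : Type*} [Group G] [Finite G] (t₀ : G) (ht₀ : orderOf t₀ = 2)
    (hconj : ∀ t : G, orderOf t = 2 → IsConj t₀ t) (m : ℕ)
    (hm : Nat.card {s : G // orderOf s = 2 ∧ t₀ ≠ s ∧ t₀ * s = s * t₀} = m)
    (hC : Nat.card (Subgroup.centralizer ({t₀} : Set G)) = 2 * m) :
    12 * Nat.card {V : Subgroup G // IsKleinFour V} = Nat.card G := by
  classical
  haveI : Fintype G := Fintype.ofFinite G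
  have hm' : ∀ t : G, orderOf t = 2 →
      Nat.card {s : G // orderOf s = 2 ∧ t ≠ s ∧ t * s = s * t} = m := by
    intro t ht
    obtain ⟨g, rfl⟩ := isConj_iff.mp (hconj t ht)
    rw [← hm]
    refine Nat.card_congr
      { toFun := fun s => ⟨g⁻¹ * s.1 * g, ?_⟩
        invFun := fun s => ⟨g * s.1 * g⁻¹, ?_⟩
        left_inv := fun s => Subtype.ext (by group)
        right_inv := fun s => Subtype.ext (by group) }
    · obtain ⟨s, h1, h2, h3⟩ := s
      show orderOf (g⁻¹ * s * g) = 2 ∧ t₀ ≠ g⁻¹ * s * g ∧ t₀ * (g⁻¹ * s * g) = g⁻¹ * s * g * t₀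
      refine ⟨?_, ?_, ?_⟩
      · rw [orderOf_conj_eq'_h9]; exact h1
      · intro h
        apply h2
        calc g * t₀ * g⁻¹ = g * (g⁻¹ * s * g) * g⁻¹ := congrArg (fun x => g * x * g⁻¹) h
          _ = s := by group
      · calc t₀ * (g⁻¹ * s * g) = g⁻¹ * (g * t₀ * g⁻¹ * s) * g := by group
          _ = g⁻¹ * (s * (g * t₀ * g⁻¹)) * g := by rw [h3]
          _ = g⁻¹ * s * g * t₀ := by group
    · obtain ⟨s, h1, h2, h3⟩ := s
      show orderOf (g * s * g⁻¹) = 2 ∧ g * t₀ * g⁻¹ ≠ g * s * g⁻¹ ∧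
        g * t₀ * g⁻¹ * (g * s * g⁻¹) = g * s * g⁻¹ * (g * t₀ * g⁻¹)
      refine ⟨?_, ?_, ?_⟩
      · rw [orderOf_conj_eq_h9]; exact h1
      · intro h
        apply h2
        calc t₀ = g⁻¹ * (g * t₀ * g⁻¹) * g := by group
          _ = g⁻¹ * (g * s * g⁻¹) * g := congrArg (fun x => g⁻¹ * x * g) h
          _ = s := by group
      · calc g * t₀ * g⁻¹ * (g * s * g⁻¹) = g * (t₀ * s) * g⁻¹ := by group
          _ = g * (s * t₀) * g⁻¹ := by rw [h3]
          _ = g * s * g⁻¹ * (g * t₀ * g⁻¹) := by group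
  have hpairs : Nat.card {p : G × G // orderOf p.1 = 2 ∧ orderOf p.2 = 2 ∧ p.1 ≠ p.2 ∧
      p.1 * p.2 = p.2 * p.1} = Nat.card {t : G // orderOf t = 2} * m := by
    have e : {p : G × G // orderOf p.1 = 2 ∧ orderOf p.2 = 2 ∧ p.1 ≠ p.2 ∧
        p.1 * p.2 = p.2 * p.1} ≃
        Σ t : {t : G // orderOf t = 2}, {s : G // orderOf s = 2 ∧ t.1 ≠ s ∧ t.1 * s = s * t.1} :=
      { toFun := fun p => ⟨⟨p.1.1, p.2.1⟩, ⟨p.1.2, p.2.2.1, p.2.2.2.1, p.2.2.2.2⟩⟩
        invFun := fun x => ⟨(x.1.1, x.2.1), x.1.2, x.2.2.1, x.2.2.2.1, x.2.2.2.2⟩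
        left_inv := fun p => rfl
        right_inv := fun x => rfl }
    rw [Nat.card_congr e, Nat.card_sigma,
      Finset.sum_congr rfl (fun t _ => hm' t.1 t.2), Finset.sum_const, Finset.card_univ,
      smul_eq_mul, Nat.card_eq_fintype_card]
  have hI : Nat.card {t : G // orderOf t = 2} = Nat.card {x : G // IsConj t₀ x} := by
    apply Nat.card_congr
    refine Equiv.subtypeEquivRight (fun t => ⟨hconj t, fun h => ?_⟩)
    obtain ⟨g, rfl⟩ := isConj_iff.mp h
    rw [orderOf_conj_eq_h9]; exact ht₀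
  have hcl := card_conj_mul_centralizer_h9 t₀
  have h6 := klein_pairs_h9 (G := G)
  rw [hpairs, hI] at h6
  rw [hC] at hcl
  calc 12 * Nat.card {V : Subgroup G // IsKleinFour V}
      = 2 * (6 * Nat.card {V : Subgroup G // IsKleinFour V}) := by ring
    _ = 2 * (Nat.card {x : G // IsConj t₀ x} * m) := by rw [h6]
    _ = Nat.card {x : G // IsConj t₀ x} * (2 * m) := by ring
    _ = Nat.card G := hcl

end Cfsg.Agent.Helper9
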