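import Cfsg.Agent.Helper9.SL2d
import Cfsg.Agent.Helper9.Klein2

/-!
# Involutions and four-groups of PSL(2, q), q odd (helper9)
-/

set_option autoImplicit false
open scoped MatrixGroups

namespace Cfsg.Agent.Helper9

theorem sl2_center_h9 {F : Type*} [Field F] (z : SL(2, F)) :
    z ∈ Subgroup.center SL(2, F) ↔ z = 1 ∨ z = -1 := by
  rw [Matrix.SpecialLinearGroup.mem_center_iff]
  constructor
  · rintro ⟨r, hr2, hr⟩
    rw [Fintype.card_fin] at hr2
    have hr' : r = 1 ∨ r = -1 := by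
      have : (r - 1) * (r + 1) = 0 := by linear_combination hr2
      rcases mul_eq_zero.mp this with h | h
      · left; linear_combination h
      · right; linear_combination h
    rcases hr' with rfl | rfl
    · left; apply Subtype.ext; rw [← hr]; simp
    · right; apply Subtype.ext; rw [← hr]; exact sl2_scalar_neg_one_h9 (F := F)
  · rintro (rfl | rfl)
    · exact ⟨1, by simp, by simp⟩
    · exact ⟨-1, by simp, sl2_scalar_neg_one_h9 (F := F)⟩

theorem psl2_mk_eq_iff_h9 {F : Type*} [Field F] (x y : SL(2, F)) :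
    (QuotientGroup.mk x : Matrix.ProjectiveSpecialLinearGroup (Fin 2) F) = QuotientGroup.mk y ↔
      x = y ∨ x = -y := by
  rw [QuotientGroup.eq, sl2_center_h9]
  constructor
  · rintro (h | h)
    · left; exact inv_mul_eq_one.mp h
    · right
      have : y = x * (-1) := by rw [← h]; group
      rw [this]; simp
  · rintro (rfl | rfl)
    · left; group
    · right
      rw [inv_mul_eq_iff_eq_mul]; simp

theorem sl2_ne_neg_h9 {F : Type*} [Field F] (h2 : (2 : F) ≠ 0) (x : SL(2, F)) : x ≠ -x := by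
  intro h
  obtain ⟨-, hdet⟩ := sl2_entries_h9 x
  obtain ⟨n00, n01, n10, n11⟩ := sl2_neg_entries_h9 x
  have e00 : x.1 0 0 = (-x).1 0 0 := by rw [← h]
  have e01 : x.1 0 1 = (-x).1 0 1 := by rw [← h]
  rw [n00] at e00
  rw [n01] at e01
  have ha : x.1 0 0 = 0 := by
    have : 2 * x.1 0 0 = 0 := by linear_combination e00
    exact (mul_eq_zero.mp this).resolve_left h2
  have hb : x.1 0 1 = 0 := by
    have : 2 * x.1 0 1 = 0 := by linear_combination e01
    exact (mul_eq_zero.mp this).resolve_left h2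
  rw [ha, hb] at hdet
  simp at hdet

/-- the elements of `SL(2, F)` commuting with `J`. -/
def sl2S_h9 (F : Type*) [Field F] : Set SL(2, F) := {g | g * sl2J_h9 F = sl2J_h9 F * g}

/-- the elements of `SL(2, F)` anticommuting with `J`. -/
def sl2T_h9 (F : Type*) [Field F] : Set SL(2, F) := {g | g * sl2J_h9 F = -(sl2J_h9 F * g)}

theorem mem_sl2S_h9 {F : Type*} [Field F] (g : SL(2, F)) :
    g ∈ sl2S_h9 F ↔ g * sl2J_h9 F = sl2J_h9 F * g := Iff.rfl

theorem mem_sl2T_h9 {F : Type*} [Field F] (g : SL(2, F)) :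
    g ∈ sl2T_h9 F ↔ g * sl2J_h9 F = -(sl2J_h9 F * g) := Iff.rfl

theorem sl2S_neg_h9 {F : Type*} [Field F] (g : SL(2, F)) (hg : g ∈ sl2S_h9 F) :
    -g ∈ sl2S_h9 F := by
  rw [mem_sl2S_h9] at hg ⊢
  rw [neg_mul, mul_neg, hg]

theorem sl2T_neg_h9 {F : Type*} [Field F] (g : SL(2, F)) (hg : g ∈ sl2T_h9 F) :
    -g ∈ sl2T_h9 F := by
  rw [mem_sl2T_h9] at hg ⊢
  rw [neg_mul, mul_neg, hg]

theorem sl2_ST_disjoint_h9 {F : Type*} [Field F] (h2 : (2 : F) ≠ 0) (g : SL(2, F))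
    (hs : g ∈ sl2S_h9 F) (ht : g ∈ sl2T_h9 F) : False := by
  rw [mem_sl2S_h9] at hs
  rw [mem_sl2T_h9, ← hs] at ht
  exact sl2_ne_neg_h9 h2 _ ht

theorem sl2S_ncard_h9 {F : Type*} [Field F] [Fintype F] :
    (sl2S_h9 F).ncard = circN_h9 F 1 := sl2_centralizer_J_ncard_h9

theorem sl2T_ncard_h9 {F : Type*} [Field F] [Fintype F] (hF : Fintype.card F % 2 = 1) :
    (sl2T_h9 F).ncard = circN_h9 F 1 := by
  have h : (sl2T_h9 F).ncard = circN_h9 F (-1) := sl2_anti_J_ncard_h9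
  rw [h, circN_eq_one_h9 hF (-1) (neg_ne_zero.mpr one_ne_zero)]

theorem sl2ST_ncard_h9 {F : Type*} [Field F] [Fintype F] (hF : Fintype.card F % 2 = 1)
    (h2 : (2 : F) ≠ 0) : (sl2S_h9 F ∪ sl2T_h9 F).ncard = 2 * circN_h9 F 1 := by
  have hdisj : Disjoint (sl2S_h9 F) (sl2T_h9 F) := by
    rw [Set.disjoint_left]
    intro g hs ht
    exact sl2_ST_disjoint_h9 h2 g hs ht
  rw [Set.ncard_union_eq hdisj (Set.toFinite _) (Set.toFinite _), sl2S_ncard_h9,
    sl2T_ncard_h9 hF]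
  ring

theorem psl2J_order_h9 (F : Type*) [Field F] (h2 : (2 : F) ≠ 0) :
    orderOf (QuotientGroup.mk (sl2J_h9 F) : Matrix.ProjectiveSpecialLinearGroup (Fin 2) F) = 2 := by
  obtain ⟨j00, j01, j10, j11⟩ := sl2J_entries_h9 F
  apply orderOf_eq_prime
  · rw [sq, ← QuotientGroup.mk_mul, sl2J_sq_h9, QuotientGroup.eq_one_iff, sl2_center_h9]
    right; rfl
  · rw [Ne, QuotientGroup.eq_one_iff, sl2_center_h9]
    rintro (h | h)
    · have e : (sl2J_h9 F).1 0 0 = (1 : SL(2, F)).1 0 0 := by rw [h]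
      rw [j00, (sl2_one_entries_h9 (F := F)).1] at e
      exact zero_ne_one e
    · have e : (sl2J_h9 F).1 0 0 = (-1 : SL(2, F)).1 0 0 := by rw [h]
      rw [j00, (sl2_neg_entries_h9 (1 : SL(2, F))).1, (sl2_one_entries_h9 (F := F)).1] at e
      have : (1 : F) = 0 := by linear_combination e
      exact one_ne_zero this

theorem psl2_image_ncard_h9 {F : Type*} [Field F] [Fintype F] (h2 : (2 : F) ≠ 0)
    (X : Set SL(2, F)) (hX : ∀ x ∈ X, -x ∈ X) :
    2 * ((QuotientGroup.mk : SL(2, F) → Matrix.ProjectiveSpecialLinearGroup (Fin 2) F) '' X).ncard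
      = X.ncard := by
  classical
  haveI : Fintype SL(2, F) := Fintype.ofFinite _
  haveI : Fintype (Matrix.ProjectiveSpecialLinearGroup (Fin 2) F) := Fintype.ofFinite _
  rw [Set.ncard_eq_toFinset_card' X, Set.ncard_eq_toFinset_card' (_ '' X), Set.toFinset_image,
    Finset.card_eq_sum_card_image
      (QuotientGroup.mk : SL(2, F) → Matrix.ProjectiveSpecialLinearGroup (Fin 2) F) X.toFinset,
    Finset.sum_const_nat (m := 2), mul_comm]
  intro b hb
  obtain ⟨x₀, hx₀, rfl⟩ := Finset.mem_image.mp hb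
  rw [Set.mem_toFinset] at hx₀
  have hfib : X.toFinset.filter (fun a =>
      (QuotientGroup.mk a : Matrix.ProjectiveSpecialLinearGroup (Fin 2) F) = QuotientGroup.mk x₀)
      = {x₀, -x₀} := by
    ext a
    simp only [Finset.mem_filter, Set.mem_toFinset, Finset.mem_insert, Finset.mem_singleton]
    rw [psl2_mk_eq_iff_h9]
    constructor
    · rintro ⟨-, h⟩; exact h
    · rintro (rfl | rfl)
      · exact ⟨hx₀, Or.inl rfl⟩
      · exact ⟨hX _ hx₀, Or.inr rfl⟩
  rw [hfib, Finset.card_pair (sl2_ne_neg_h9 h2 x₀)]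

theorem psl2_centralizer_J_h9 (F : Type*) [Field F] :
    ((Subgroup.centralizer ({(QuotientGroup.mk (sl2J_h9 F) :
      Matrix.ProjectiveSpecialLinearGroup (Fin 2) F)} :
        Set (Matrix.ProjectiveSpecialLinearGroup (Fin 2) F)) :
      Subgroup (Matrix.ProjectiveSpecialLinearGroup (Fin 2) F)) :
      Set (Matrix.ProjectiveSpecialLinearGroup (Fin 2) F))
      = QuotientGroup.mk '' (sl2S_h9 F ∪ sl2T_h9 F) := by
  ext g
  obtain ⟨g, rfl⟩ := QuotientGroup.mk_surjective g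
  rw [SetLike.mem_coe, Subgroup.mem_centralizer_singleton_iff, ← QuotientGroup.mk_mul,
    ← QuotientGroup.mk_mul, psl2_mk_eq_iff_h9]
  constructor
  · intro h
    exact ⟨g, h, rfl⟩
  · rintro ⟨g', hg', hgg'⟩
    rw [psl2_mk_eq_iff_h9] at hgg'
    rcases hgg' with rfl | rfl
    · exact hg'
    · rcases hg' with h | h
      · left
        have := sl2S_neg_h9 _ h
        rwa [neg_neg] at this
      · right
        have := sl2T_neg_h9 _ h
        rwa [neg_neg] at this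

theorem psl2_invols_comm_J_h9 (F : Type*) [Field F] (h2 : (2 : F) ≠ 0) :
    {s : Matrix.ProjectiveSpecialLinearGroup (Fin 2) F | orderOf s = 2 ∧
      (QuotientGroup.mk (sl2J_h9 F) : Matrix.ProjectiveSpecialLinearGroup (Fin 2) F) ≠ s ∧
      (QuotientGroup.mk (sl2J_h9 F) : Matrix.ProjectiveSpecialLinearGroup (Fin 2) F) * s
        = s * QuotientGroup.mk (sl2J_h9 F)}
      = QuotientGroup.mk '' (sl2T_h9 F) := by
  have hJJ := sl2J_sq_h9 F
  have hJS : sl2J_h9 F ∈ sl2S_h9 F := rfl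
  have h1S : (1 : SL(2, F)) ∈ sl2S_h9 F := by rw [mem_sl2S_h9, one_mul, mul_one]
  ext s
  constructor
  · rintro ⟨hs, hne, hcomm⟩
    obtain ⟨y, rfl, hyy⟩ := psl2_invol_lift_h9 h2 s hs
    rw [← QuotientGroup.mk_mul, ← QuotientGroup.mk_mul, psl2_mk_eq_iff_h9] at hcomm
    refine ⟨y, ?_, rfl⟩
    rcases hcomm with h | h
    · exfalso
      apply hne
      rw [psl2_mk_eq_iff_h9]
      have hJinv : (sl2J_h9 F)⁻¹ = -sl2J_h9 F := by
        rw [inv_eq_iff_mul_eq_one, mul_neg, hJJ, neg_neg]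
      have h1 : (y * (sl2J_h9 F)⁻¹) * (y * (sl2J_h9 F)⁻¹) = 1 := by
        have hc : (sl2J_h9 F)⁻¹ * y = y * (sl2J_h9 F)⁻¹ := by
          rw [inv_mul_eq_iff_eq_mul, ← mul_assoc, h, mul_inv_cancel_right]
        calc (y * (sl2J_h9 F)⁻¹) * (y * (sl2J_h9 F)⁻¹)
            = y * ((sl2J_h9 F)⁻¹ * y) * (sl2J_h9 F)⁻¹ := by group
          _ = y * (y * (sl2J_h9 F)⁻¹) * (sl2J_h9 F)⁻¹ := by rw [hc]
          _ = (y * y) * ((sl2J_h9 F)⁻¹ * (sl2J_h9 F)⁻¹) := by group
          _ = 1 := by rw [hyy, hJinv, neg_mul_neg, hJJ]; simp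
      rcases sl2_invol_h9 h2 _ h1 with h' | h'
      · left
        exact (mul_inv_eq_one.mp h').symm
      · right
        rw [mul_inv_eq_iff_eq_mul] at h'
        rw [h']; simp
    · rw [mem_sl2T_h9, h, neg_neg]
  · rintro ⟨y, hy, rfl⟩
    have hy' : y * sl2J_h9 F = -(sl2J_h9 F * y) := hy
    obtain ⟨-, h11⟩ := (sl2_anti_J_iff_h9 y).mp hy
    have hyy : y * y = -1 := (sl2_sq_eq_neg_one_iff_h9 y).mpr (by rw [h11]; ring)
    refine ⟨?_, ?_, ?_⟩
    · apply orderOf_eq_prime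
      · rw [sq, ← QuotientGroup.mk_mul, hyy, QuotientGroup.eq_one_iff, sl2_center_h9]
        right; rfl
      · rw [Ne, QuotientGroup.eq_one_iff, sl2_center_h9]
        rintro (rfl | rfl)
        · exact sl2_ST_disjoint_h9 h2 _ h1S hy
        · exact sl2_ST_disjoint_h9 h2 _ (sl2S_neg_h9 _ h1S) hy
    · rw [Ne, psl2_mk_eq_iff_h9]
      rintro (rfl | h)
      · exact sl2_ST_disjoint_h9 h2 _ hJS hy
      · have hyJ : y = -sl2J_h9 F := by rw [h, neg_neg]
        rw [hyJ] at hy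
        exact sl2_ST_disjoint_h9 h2 _ (sl2S_neg_h9 _ hJS) hy
    · rw [← QuotientGroup.mk_mul, ← QuotientGroup.mk_mul, psl2_mk_eq_iff_h9]
      right
      rw [hy', neg_neg]

theorem psl2_klein_count_h9 (F : Type*) [Field F] [Fintype F] (hF : Fintype.card F % 2 = 1)
    (h2 : (2 : F) ≠ 0) :
    12 * Nat.card {V : Subgroup (Matrix.ProjectiveSpecialLinearGroup (Fin 2) F) // IsKleinFour V}
      = Nat.card (Matrix.ProjectiveSpecialLinearGroup (Fin 2) F) := by
  have hconj : ∀ t : Matrix.ProjectiveSpecialLinearGroup (Fin 2) F, orderOf t = 2 →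
      IsConj (QuotientGroup.mk (sl2J_h9 F) : Matrix.ProjectiveSpecialLinearGroup (Fin 2) F) t := by
    intro t ht
    obtain ⟨u, rfl, huu⟩ := psl2_invol_lift_h9 h2 t ht
    obtain ⟨P, hP⟩ := sl2_conj_J_h9 hF h2 u huu
    rw [isConj_iff]
    exact ⟨QuotientGroup.mk P, by rw [hP]; rfl⟩
  have hT := psl2_image_ncard_h9 h2 (sl2T_h9 F) sl2T_neg_h9
  have hST := psl2_image_ncard_h9 h2 (sl2S_h9 F ∪ sl2T_h9 F) (by
    rintro x (h | h)
    · exact Or.inl (sl2S_neg_h9 x h)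
    · exact Or.inr (sl2T_neg_h9 x h))
  rw [sl2T_ncard_h9 hF] at hT
  rw [sl2ST_ncard_h9 hF h2] at hST
  apply klein_count_h9 _ (psl2J_order_h9 F h2) hconj
    ((QuotientGroup.mk : SL(2, F) → Matrix.ProjectiveSpecialLinearGroup (Fin 2) F) ''
      (sl2T_h9 F)).ncard
  · rw [← psl2_invols_comm_J_h9 F h2]; rfl
  · have e : Nat.card (Subgroup.centralizer ({(QuotientGroup.mk (sl2J_h9 F) :
        Matrix.ProjectiveSpecialLinearGroup (Fin 2) F)} :
          Set (Matrix.ProjectiveSpecialLinearGroup (Fin 2) F))) =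
        ((QuotientGroup.mk : SL(2, F) → Matrix.ProjectiveSpecialLinearGroup (Fin 2) F) ''
          (sl2S_h9 F ∪ sl2T_h9 F)).ncard := by
      rw [← psl2_centralizer_J_h9]; rfl
    rw [e]
    omega

end Cfsg.Agent.Helper9
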