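import Mathlib

/-!
# Elements of order 4 in SL(2, q), q odd (helper9)
-/

set_option autoImplicit false
open scoped MatrixGroups

namespace Cfsg.Agent.Helper9

theorem ff_sq_add_sq_h9 {F : Type*} [Field F] [Fintype F] (hF : Fintype.card F % 2 = 1) (c : F) :
    ∃ a b : F, a ^ 2 + b ^ 2 = c := by
  classical
  obtain ⟨a, b, h⟩ := FiniteField.exists_root_sum_quadratic (R := F)
    (f := Polynomial.X ^ 2) (g := Polynomial.X ^ 2 - Polynomial.C c)
    (Polynomial.degree_X_pow 2) (Polynomial.degree_X_pow_sub_C (by decide) _) hF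
  refine ⟨a, b, ?_⟩
  simp only [Polynomial.eval_pow, Polynomial.eval_X, Polynomial.eval_sub, Polynomial.eval_C] at h
  linear_combination h

/-- the matrix `[[0, -1], [1, 0]]` in `SL(2, F)`. -/
def sl2J_h9 (F : Type*) [Field F] : SL(2, F) :=
  ⟨!![0, -1; 1, 0], by simp [Matrix.det_fin_two]⟩

theorem sl2J_val_h9 (F : Type*) [Field F] : (sl2J_h9 F).1 = !![0, -1; 1, 0] := rfl

/-- entries of an element of `SL(2, F)`. -/
theorem sl2_entries_h9 {F : Type*} [Field F] (x : SL(2, F)) :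
    x.1 = !![x.1 0 0, x.1 0 1; x.1 1 0, x.1 1 1] ∧
      x.1 0 0 * x.1 1 1 - x.1 0 1 * x.1 1 0 = 1 := by
  refine ⟨?_, ?_⟩
  · ext i j
    fin_cases i <;> fin_cases j <;> rfl
  · have := x.2
    rw [Matrix.det_fin_two] at this
    exact this

theorem sl2_ext_h9 {F : Type*} [Field F] (x y : SL(2, F)) (h00 : x.1 0 0 = y.1 0 0)
    (h01 : x.1 0 1 = y.1 0 1) (h10 : x.1 1 0 = y.1 1 0) (h11 : x.1 1 1 = y.1 1 1) : x = y := by
  apply Subtype.ext
  ext i j
  fin_cases i <;> fin_cases j <;> assumption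

theorem sl2_mul_entries_h9 {F : Type*} [Field F] (x y : SL(2, F)) :
    (x * y).1 0 0 = x.1 0 0 * y.1 0 0 + x.1 0 1 * y.1 1 0 ∧
    (x * y).1 0 1 = x.1 0 0 * y.1 0 1 + x.1 0 1 * y.1 1 1 ∧
    (x * y).1 1 0 = x.1 1 0 * y.1 0 0 + x.1 1 1 * y.1 1 0 ∧
    (x * y).1 1 1 = x.1 1 0 * y.1 0 1 + x.1 1 1 * y.1 1 1 := by
  refine ⟨?_, ?_, ?_, ?_⟩ <;>
    simp [Matrix.SpecialLinearGroup.coe_mul, Matrix.mul_apply, Fin.sum_univ_two]

theorem sl2_neg_entries_h9 {F : Type*} [Field F] (x : SL(2, F)) :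
    (-x).1 0 0 = -x.1 0 0 ∧ (-x).1 0 1 = -x.1 0 1 ∧ (-x).1 1 0 = -x.1 1 0 ∧
    (-x).1 1 1 = -x.1 1 1 := by
  refine ⟨?_, ?_, ?_, ?_⟩ <;> simp [Matrix.SpecialLinearGroup.coe_neg]

theorem sl2_one_entries_h9 {F : Type*} [Field F] :
    (1 : SL(2, F)).1 0 0 = 1 ∧ (1 : SL(2, F)).1 0 1 = 0 ∧ (1 : SL(2, F)).1 1 0 = 0 ∧
    (1 : SL(2, F)).1 1 1 = 1 := by
  refine ⟨?_, ?_, ?_, ?_⟩ <;> simp

/-- `x² = -1` iff `tr x = 0`, for `x ∈ SL(2, F)`. -/
theorem sl2_sq_eq_neg_one_iff_h9 {F : Type*} [Field F] (x : SL(2, F)) :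
    x * x = -1 ↔ x.1 0 0 + x.1 1 1 = 0 := by
  obtain ⟨-, hdet⟩ := sl2_entries_h9 x
  obtain ⟨m00, m01, m10, m11⟩ := sl2_mul_entries_h9 x x
  obtain ⟨n00, n01, n10, n11⟩ := sl2_neg_entries_h9 (1 : SL(2, F))
  obtain ⟨o00, o01, o10, o11⟩ := sl2_one_entries_h9 (F := F)
  constructor
  · intro h
    have e00 : (x * x).1 0 0 = (-1 : SL(2, F)).1 0 0 := by rw [h]
    have e01 : (x * x).1 0 1 = (-1 : SL(2, F)).1 0 1 := by rw [h]
    have e10 : (x * x).1 1 0 = (-1 : SL(2, F)).1 1 0 := by rw [h]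
    have e11 : (x * x).1 1 1 = (-1 : SL(2, F)).1 1 1 := by rw [h]
    rw [m00, n00, o00] at e00
    rw [m01, n01, o01] at e01
    rw [m10, n10, o10] at e10
    rw [m11, n11, o11] at e11
    by_contra hne
    have hb : x.1 0 1 = 0 := by
      have : x.1 0 1 * (x.1 0 0 + x.1 1 1) = 0 := by linear_combination e01
      exact (mul_eq_zero.mp this).resolve_right hne
    have hc : x.1 1 0 = 0 := by
      have : x.1 1 0 * (x.1 0 0 + x.1 1 1) = 0 := by linear_combination e10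
      exact (mul_eq_zero.mp this).resolve_right hne
    rw [hb] at e00 hdet
    rw [hc] at e11
    -- a² = -1, d² = -1, a d = 1: (a + d)² = 0
    have : (x.1 0 0 + x.1 1 1) ^ 2 = 0 := by linear_combination e00 + e11 + 2 * hdet
    exact hne ((pow_eq_zero_iff (two_ne_zero)).mp this)
  · intro h
    have hd : x.1 1 1 = -x.1 0 0 := by linear_combination h
    apply sl2_ext_h9
    · rw [m00, n00, o00]; rw [hd] at hdet; linear_combination -hdet
    · rw [m01, n01, o01, hd]; ring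
    · rw [m10, n10, o10, hd]; ring
    · rw [m11, n11, o11]; rw [hd] at hdet ⊢; linear_combination -hdet

/-- the only involution of `SL(2, F)`, `2 ≠ 0`, is `-1`. -/
theorem sl2_invol_h9 {F : Type*} [Field F] (h2 : (2 : F) ≠ 0) (x : SL(2, F)) (hx : x * x = 1) :
    x = 1 ∨ x = -1 := by
  obtain ⟨-, hdet⟩ := sl2_entries_h9 x
  obtain ⟨m00, m01, m10, m11⟩ := sl2_mul_entries_h9 x x
  obtain ⟨n00, n01, n10, n11⟩ := sl2_neg_entries_h9 (1 : SL(2, F))
  obtain ⟨o00, o01, o10, o11⟩ := sl2_one_entries_h9 (F := F)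
  have e00 : (x * x).1 0 0 = (1 : SL(2, F)).1 0 0 := by rw [hx]
  have e01 : (x * x).1 0 1 = (1 : SL(2, F)).1 0 1 := by rw [hx]
  have e10 : (x * x).1 1 0 = (1 : SL(2, F)).1 1 0 := by rw [hx]
  have e11 : (x * x).1 1 1 = (1 : SL(2, F)).1 1 1 := by rw [hx]
  rw [m00, o00] at e00
  rw [m01, o01] at e01
  rw [m10, o10] at e10
  rw [m11, o11] at e11
  have hne : x.1 0 0 + x.1 1 1 ≠ 0 := by
    intro h
    have hd : x.1 1 1 = -x.1 0 0 := by linear_combination h
    rw [hd] at hdet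
    apply h2
    linear_combination (-1 : F) * e00 - hdet
  have hb : x.1 0 1 = 0 := by
    have : x.1 0 1 * (x.1 0 0 + x.1 1 1) = 0 := by linear_combination e01
    exact (mul_eq_zero.mp this).resolve_right hne
  have hc : x.1 1 0 = 0 := by
    have : x.1 1 0 * (x.1 0 0 + x.1 1 1) = 0 := by linear_combination e10
    exact (mul_eq_zero.mp this).resolve_right hne
  rw [hb] at e00 hdet
  rw [hc] at e11
  have hsq : (x.1 0 0 - 1) * (x.1 0 0 + 1) = 0 := by linear_combination e00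
  have had : x.1 1 1 = x.1 0 0 := by
    have : x.1 0 0 * (x.1 1 1 - x.1 0 0) = 0 := by linear_combination hdet - e00
    have ha : x.1 0 0 ≠ 0 := by
      intro h0
      rw [h0] at e00
      simp at e00
    have := (mul_eq_zero.mp this).resolve_left ha
    linear_combination this
  rcases mul_eq_zero.mp hsq with h | h
  · left
    have ha : x.1 0 0 = 1 := by linear_combination h
    apply sl2_ext_h9
    · rw [o00, ha]
    · rw [o01, hb]
    · rw [o10, hc]
    · rw [o11, had, ha]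
  · right
    have ha : x.1 0 0 = -1 := by linear_combination h
    apply sl2_ext_h9
    · rw [n00, o00, ha]
    · rw [n01, o01, hb, neg_zero]
    · rw [n10, o10, hc, neg_zero]
    · rw [n11, o11, had, ha]

theorem sl2_neg_one_sq_h9 {F : Type*} [Field F] : (-1 : SL(2, F)) * (-1) = 1 := by
  simp

theorem sl2_neg_one_ne_one_h9 {F : Type*} [Field F] (h2 : (2 : F) ≠ 0) : (-1 : SL(2, F)) ≠ 1 := by
  intro h
  have e00 : (-1 : SL(2, F)).1 0 0 = (1 : SL(2, F)).1 0 0 := by rw [h]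
  rw [(sl2_neg_entries_h9 (1 : SL(2, F))).1, (sl2_one_entries_h9 (F := F)).1] at e00
  apply h2
  linear_combination -e00

end Cfsg.Agent.Helper9
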