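import Cfsg.Agent.Helper9.SL2a

/-!
# Elements of order 4 in SL(2, q), q odd (helper9), part 2: conjugacy
-/

set_option autoImplicit false
open scoped MatrixGroups

namespace Cfsg.Agent.Helper9

theorem m2ext_h9 {F : Type*} {a b c d a' b' c' d' : F} (h1 : a = a') (h2 : b = b')
    (h3 : c = c') (h4 : d = d') :
    (!![a, b; c, d] : Matrix (Fin 2) (Fin 2) F) = !![a', b'; c', d'] := by
  subst h1 h2 h3 h4; rfl

theorem sl2_scalar_neg_one_h9 {F : Type*} [Field F] :
    Matrix.scalar (Fin 2) (-1 : F) = (-1 : SL(2, F)).1 := by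
  ext i j
  fin_cases i <;> fin_cases j <;> simp [Matrix.SpecialLinearGroup.coe_neg]

theorem sl2_order4_h9 {F : Type*} [Field F] (h2 : (2 : F) ≠ 0) (A : Subgroup SL(2, F))
    (hA : Nat.card A = 4) : ∃ x : SL(2, F), x * x = -1 ∧ A = Subgroup.zpowers x := by
  haveI : Finite A := Nat.finite_of_card_ne_zero (by omega)
  have h1 : ∃ x ∈ A, x * x ≠ 1 := by
    by_contra hcon
    have hcon' : ∀ x ∈ A, x * x = 1 := by
      intro x hx
      by_contra h
      exact hcon ⟨x, hx, h⟩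
    have hsub : (A : Set SL(2, F)) ⊆ {1, -1} := by
      intro x hx
      rcases sl2_invol_h9 h2 x (hcon' x hx) with h | h <;> simp [h]
    have h3 : (A : Set SL(2, F)).ncard ≤ 2 := by
      refine (Set.ncard_le_ncard hsub (Set.toFinite _)).trans ?_
      refine (Set.ncard_insert_le _ _).trans ?_
      rw [Set.ncard_singleton]
    have h4 : Nat.card A = (A : Set SL(2, F)).ncard := rfl
    omega
  obtain ⟨x, hxA, hx1⟩ := h1
  have hord : orderOf x ∣ 4 := hA ▸ Subgroup.orderOf_dvd_natCard A hxA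
  have hx4 : (x * x) * (x * x) = 1 := by
    have := orderOf_dvd_iff_pow_eq_one.mp hord
    rw [← this, show (4 : ℕ) = 2 + 2 from rfl, pow_add, sq]
  have hxx : x * x = -1 := (sl2_invol_h9 h2 (x * x) hx4).resolve_left hx1
  refine ⟨x, hxx, ?_⟩
  have ho : orderOf x = 2 ^ (1 + 1) := by
    apply orderOf_eq_prime_pow
    · rw [pow_one, sq]; exact hx1
    · have : x ^ 2 ^ (1 + 1) = (x * x) * (x * x) := by
        rw [show (2 : ℕ) ^ (1 + 1) = 2 + 2 from rfl, pow_add, sq]
      rw [this, hx4]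
  symm
  apply Subgroup.eq_of_le_of_card_ge (Subgroup.zpowers_le.mpr hxA)
  rw [Nat.card_zpowers, ho, hA]
  norm_num

theorem sl2_conj_J_h9 {F : Type*} [Field F] [Fintype F] (hF : Fintype.card F % 2 = 1)
    (h2 : (2 : F) ≠ 0) (x : SL(2, F)) (hx : x * x = -1) :
    ∃ P : SL(2, F), x = P * sl2J_h9 F * P⁻¹ := by
  have htr := (sl2_sq_eq_neg_one_iff_h9 x).mp hx
  obtain ⟨hxm, hdet⟩ := sl2_entries_h9 x
  generalize x.1 0 0 = a at hxm hdet htr
  generalize x.1 0 1 = b at hxm hdet htr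
  generalize x.1 1 0 = c at hxm hdet htr
  generalize x.1 1 1 = d at hxm hdet htr
  have hd : d = -a := by linear_combination htr
  subst hd
  have hq : a ^ 2 + b * c = -1 := by linear_combination -hdet
  have hw : ∃ w₁ w₂ : F, c * w₁ ^ 2 - 2 * a * w₁ * w₂ - b * w₂ ^ 2 = 1 := by
    by_cases hc : c = 0
    · have ha : a ≠ 0 := by
        rintro rfl
        rw [hc] at hq
        simp at hq
      refine ⟨-(1 + b) / (2 * a), 1, ?_⟩
      rw [hc]; field_simp; ring
    · obtain ⟨u, v, huv⟩ := ff_sq_add_sq_h9 hF c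
      refine ⟨(u + a * v) / c, v, ?_⟩
      field_simp
      linear_combination huv - v ^ 2 * hq
  obtain ⟨w₁, w₂, hw⟩ := hw
  have hPdet : (!![w₁, a * w₁ + b * w₂; w₂, c * w₁ - a * w₂] : Matrix (Fin 2) (Fin 2) F).det
      = 1 := by
    rw [Matrix.det_fin_two_of]; linear_combination hw
  obtain ⟨P, hP⟩ : ∃ P : SL(2, F), P.1 = !![w₁, a * w₁ + b * w₂; w₂, c * w₁ - a * w₂] :=
    ⟨⟨_, hPdet⟩, rfl⟩
  refine ⟨P, ?_⟩
  rw [eq_mul_inv_iff_mul_eq]
  apply Subtype.ext
  show x.1 * P.1 = P.1 * (sl2J_h9 F).1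
  rw [hP, sl2J_val_h9, hxm, Matrix.mul_fin_two, Matrix.mul_fin_two]
  apply m2ext_h9
  · ring
  · linear_combination w₁ * hq
  · ring
  · linear_combination w₂ * hq

theorem psl2_invol_lift_h9 {F : Type*} [Field F] (h2 : (2 : F) ≠ 0)
    (t : Matrix.ProjectiveSpecialLinearGroup (Fin 2) F) (ht : orderOf t = 2) :
    ∃ x : SL(2, F), (QuotientGroup.mk x : Matrix.ProjectiveSpecialLinearGroup (Fin 2) F) = t ∧
      x * x = -1 := by
  obtain ⟨x, rfl⟩ := QuotientGroup.mk_surjective t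
  have h1 : (QuotientGroup.mk (x * x) : Matrix.ProjectiveSpecialLinearGroup (Fin 2) F) = 1 := by
    have h0 := pow_orderOf_eq_one (QuotientGroup.mk x : Matrix.ProjectiveSpecialLinearGroup (Fin 2) F)
    rw [ht, sq] at h0
    rw [QuotientGroup.mk_mul]; exact h0
  rw [QuotientGroup.eq_one_iff, Matrix.SpecialLinearGroup.mem_center_iff] at h1
  obtain ⟨r, hr2, hr⟩ := h1
  rw [Fintype.card_fin] at hr2
  have hr' : r = 1 ∨ r = -1 := by
    have : (r - 1) * (r + 1) = 0 := by linear_combination hr2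
    rcases mul_eq_zero.mp this with h | h
    · left; linear_combination h
    · right; linear_combination h
  refine ⟨x, rfl, ?_⟩
  rcases hr' with rfl | rfl
  · exfalso
    have hxx : x * x = 1 := Subtype.ext (by rw [← hr]; simp)
    have hxc : x ∈ Subgroup.center SL(2, F) := by
      rcases sl2_invol_h9 h2 x hxx with h | h
      · rw [h]; exact Subgroup.one_mem _
      · rw [h, Matrix.SpecialLinearGroup.mem_center_iff]
        exact ⟨-1, by simp, sl2_scalar_neg_one_h9 (F := F)⟩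
    rw [(QuotientGroup.eq_one_iff x).mpr hxc, orderOf_one] at ht
    omega
  · apply Subtype.ext
    rw [← hr]; exact sl2_scalar_neg_one_h9 (F := F)

end Cfsg.Agent.Helper9
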