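import Mathlib
import Cfsg.Agent.Helper9.SL2a
import Cfsg.Agent.Helper9.SL2b

/-!
# Unipotent elements of SL(2, F) and p'-subgroups they normalize (helper9)
-/

set_option autoImplicit false
open scoped MatrixGroups

namespace Cfsg.Agent.Helper9

/-- the upper unitriangular matrix `[[1, u], [0, 1]]`. -/
def sl2E_h9 {F : Type*} [Field F] (u : F) : SL(2, F) :=
  ⟨!![1, u; 0, 1], by simp [Matrix.det_fin_two]⟩

theorem sl2E_entries_h9 {F : Type*} [Field F] (u : F) :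
    (sl2E_h9 u).1 0 0 = 1 ∧ (sl2E_h9 u).1 0 1 = u ∧ (sl2E_h9 u).1 1 0 = 0 ∧
      (sl2E_h9 u).1 1 1 = 1 := by
  refine ⟨?_, ?_, ?_, ?_⟩ <;> simp [sl2E_h9]

theorem sl2E_mul_h9 {F : Type*} [Field F] (u v : F) :
    sl2E_h9 u * sl2E_h9 v = sl2E_h9 (u + v) := by
  obtain ⟨m00, m01, m10, m11⟩ := sl2_mul_entries_h9 (sl2E_h9 u) (sl2E_h9 v)
  obtain ⟨a00, a01, a10, a11⟩ := sl2E_entries_h9 u
  obtain ⟨b00, b01, b10, b11⟩ := sl2E_entries_h9 v
  obtain ⟨c00, c01, c10, c11⟩ := sl2E_entries_h9 (u + v)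
  apply sl2_ext_h9
  · rw [m00, a00, a01, b00, b10, c00]; ring
  · rw [m01, a00, a01, b01, b11, c01]; ring
  · rw [m10, a10, a11, b00, b10, c10]; ring
  · rw [m11, a10, a11, b01, b11, c11]; ring

theorem sl2E_zero_h9 {F : Type*} [Field F] : sl2E_h9 (0 : F) = 1 := by
  obtain ⟨a00, a01, a10, a11⟩ := sl2E_entries_h9 (0 : F)
  obtain ⟨o00, o01, o10, o11⟩ := sl2_one_entries_h9 (F := F)
  apply sl2_ext_h9
  · rw [a00, o00]
  · rw [a01, o01]
  · rw [a10, o10]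
  · rw [a11, o11]

theorem sl2E_inv_h9 {F : Type*} [Field F] (u : F) : (sl2E_h9 u)⁻¹ = sl2E_h9 (-u) := by
  rw [inv_eq_iff_mul_eq_one, sl2E_mul_h9, add_neg_cancel, sl2E_zero_h9]

theorem sl2E_pow_h9 {F : Type*} [Field F] (u : F) (n : ℕ) :
    sl2E_h9 u ^ n = sl2E_h9 (n * u) := by
  induction n with
  | zero => simp [sl2E_zero_h9]
  | succ n ih =>
    rw [pow_succ, ih, sl2E_mul_h9]
    congr 1
    push_cast; ring

theorem sl2E_eq_one_iff_h9 {F : Type*} [Field F] (u : F) : sl2E_h9 u = 1 ↔ u = 0 := by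
  constructor
  · intro h
    have := (sl2E_entries_h9 u).2.1
    rw [h] at this
    rw [← this]; simp
  · rintro rfl; exact sl2E_zero_h9

/-- entries of the conjugate `E(u) x E(u)⁻¹`. -/
theorem sl2E_conj_entries_h9 {F : Type*} [Field F] (u : F) (x : SL(2, F)) :
    (sl2E_h9 u * x * (sl2E_h9 u)⁻¹).1 0 0 = x.1 0 0 + u * x.1 1 0 ∧
    (sl2E_h9 u * x * (sl2E_h9 u)⁻¹).1 0 1
      = x.1 0 1 + u * (x.1 1 1 - x.1 0 0) - u ^ 2 * x.1 1 0 ∧
    (sl2E_h9 u * x * (sl2E_h9 u)⁻¹).1 1 0 = x.1 1 0 ∧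
    (sl2E_h9 u * x * (sl2E_h9 u)⁻¹).1 1 1 = x.1 1 1 - u * x.1 1 0 := by
  rw [sl2E_inv_h9]
  obtain ⟨m00, m01, m10, m11⟩ := sl2_mul_entries_h9 (sl2E_h9 u * x) (sl2E_h9 (-u))
  obtain ⟨k00, k01, k10, k11⟩ := sl2_mul_entries_h9 (sl2E_h9 u) x
  obtain ⟨a00, a01, a10, a11⟩ := sl2E_entries_h9 u
  obtain ⟨b00, b01, b10, b11⟩ := sl2E_entries_h9 (-u)
  refine ⟨?_, ?_, ?_, ?_⟩
  · rw [m00, k00, k01, a00, a01, b00, b10]; ring
  · rw [m01, k00, k01, a00, a01, b01, b11]; ring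
  · rw [m10, k10, k11, a10, a11, b00, b10]; ring
  · rw [m11, k10, k11, a10, a11, b01, b11]; ring

/-- the centralizer of `E(u)`, `u ≠ 0`. -/
theorem sl2_comm_E_iff_h9 {F : Type*} [Field F] {u : F} (hu : u ≠ 0) (x : SL(2, F)) :
    sl2E_h9 u * x = x * sl2E_h9 u ↔ x.1 1 0 = 0 ∧ x.1 0 0 = x.1 1 1 := by
  obtain ⟨m00, m01, m10, m11⟩ := sl2_mul_entries_h9 (sl2E_h9 u) x
  obtain ⟨k00, k01, k10, k11⟩ := sl2_mul_entries_h9 x (sl2E_h9 u)
  obtain ⟨a00, a01, a10, a11⟩ := sl2E_entries_h9 u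
  constructor
  · intro h
    have e00 : (sl2E_h9 u * x).1 0 0 = (x * sl2E_h9 u).1 0 0 := by rw [h]
    have e01 : (sl2E_h9 u * x).1 0 1 = (x * sl2E_h9 u).1 0 1 := by rw [h]
    rw [m00, k00, a00, a01, a10] at e00
    rw [m01, k01, a00, a01, a11] at e01
    have h10 : x.1 1 0 = 0 := by
      have : u * x.1 1 0 = 0 := by linear_combination e00
      rcases mul_eq_zero.mp this with h | h
      · exact absurd h hu
      · exact h
    refine ⟨h10, ?_⟩
    have : u * (x.1 0 0 - x.1 1 1) = 0 := by linear_combination -e01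
    rcases mul_eq_zero.mp this with h | h
    · exact absurd h hu
    · exact sub_eq_zero.mp h
  · rintro ⟨h10, h00⟩
    apply sl2_ext_h9
    · rw [m00, k00, a00, a01, a10, h10]; ring
    · rw [m01, k01, a00, a01, a11, h00]; ring
    · rw [m10, k10, a10, a11, a00, h10]; ring
    · rw [m11, k11, a10, a11, a01, h10]; ring

theorem sl2_comm_E_transfer_h9 {F : Type*} [Field F] {u v : F} (hu : u ≠ 0) (x : SL(2, F))
    (h : sl2E_h9 u * x = x * sl2E_h9 u) : sl2E_h9 v * x = x * sl2E_h9 v := by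
  by_cases hv : v = 0
  · subst hv; rw [sl2E_zero_h9]; simp
  · exact (sl2_comm_E_iff_h9 hv x).mpr ((sl2_comm_E_iff_h9 hu x).mp h)

/-- a `p'`-element commuting with `E(u)`, `u ≠ 0`, is `±1` (odd characteristic `p`). -/
theorem sl2_comm_E_coprime_h9 {F : Type*} [Field F] {p : ℕ} [Fact p.Prime] [CharP F p]
    (hp : p ≠ 2) {u : F} (hu : u ≠ 0) (x : SL(2, F))
    (hx : sl2E_h9 u * x = x * sl2E_h9 u) (n : ℕ) (hn : x ^ n = 1) (hnp : n.Coprime p) :
    x = 1 ∨ x = -1 := by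
  have hpp := (Fact.out : p.Prime)
  have h2 : (2 : F) ≠ 0 := by
    intro h
    have : ((2 : ℕ) : F) = 0 := by exact_mod_cast h
    rw [CharP.cast_eq_zero_iff F p] at this
    exact hp ((Nat.prime_dvd_prime_iff_eq hpp Nat.prime_two).mp this)
  obtain ⟨h10, h00⟩ := (sl2_comm_E_iff_h9 hu x).mp hx
  obtain ⟨-, hdet⟩ := sl2_entries_h9 x
  rw [h10, ← h00] at hdet
  have hsq : (x.1 0 0 - 1) * (x.1 0 0 + 1) = 0 := by linear_combination hdet
  have key : ∀ (y : SL(2, F)) (t : F) (m : ℕ), y = sl2E_h9 t → y ^ m = 1 → m.Coprime p →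
      y = 1 := by
    intro y t m hy hm hmp
    rw [hy, sl2E_pow_h9, sl2E_eq_one_iff_h9] at hm
    rw [hy, sl2E_eq_one_iff_h9]
    rcases mul_eq_zero.mp hm with h | h
    · exfalso
      rw [CharP.cast_eq_zero_iff F p] at h
      have := Nat.Coprime.eq_one_of_dvd hmp.symm h
      exact hpp.one_lt.ne' this
    · exact h
  rcases mul_eq_zero.mp hsq with h | h
  · left
    have h0 : x.1 0 0 = 1 := by linear_combination h
    apply key x (x.1 0 1) n _ hn hnp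
    obtain ⟨a00, a01, a10, a11⟩ := sl2E_entries_h9 (x.1 0 1)
    apply sl2_ext_h9
    · rw [a00, h0]
    · rw [a01]
    · rw [a10, h10]
    · rw [a11, ← h00, h0]
  · right
    have h0 : x.1 0 0 = -1 := by linear_combination h
    obtain ⟨n00, n01, n10, n11⟩ := sl2_neg_entries_h9 x
    have : -x = 1 := by
      apply key (-x) (-x.1 0 1) (2 * n)
      · obtain ⟨a00, a01, a10, a11⟩ := sl2E_entries_h9 (-x.1 0 1)
        apply sl2_ext_h9
        · rw [a00, n00, h0]; ring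
        · rw [a01, n01]
        · rw [a10, n10, h10]; ring
        · rw [a11, n11, ← h00, h0]; ring
      · rw [pow_mul]
        have : (-x) ^ 2 = x ^ 2 := by
          rw [sq, sq]; simp
        rw [this, ← pow_mul, mul_comm, pow_mul, hn, one_pow]
      · apply Nat.Coprime.mul_left _ hnp
        rw [Nat.coprime_comm, Nat.Prime.coprime_iff_not_dvd hpp]
        intro h
        exact hp ((Nat.prime_dvd_prime_iff_eq hpp Nat.prime_two).mp h)
    rw [← this]; simp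

/-- if `x` commutes with its conjugate under `E(u)`, `u ≠ 0`, then it commutes with `E(u)`. -/
theorem sl2_comm_conj_E_h9 {F : Type*} [Field F] (h2 : (2 : F) ≠ 0) {u : F} (hu : u ≠ 0)
    (x : SL(2, F))
    (hx : x * (sl2E_h9 u * x * (sl2E_h9 u)⁻¹) = (sl2E_h9 u * x * (sl2E_h9 u)⁻¹) * x) :
    sl2E_h9 u * x = x * sl2E_h9 u := by
  obtain ⟨c00, c01, c10, c11⟩ := sl2E_conj_entries_h9 u x
  obtain ⟨m00, m01, m10, m11⟩ := sl2_mul_entries_h9 x (sl2E_h9 u * x * (sl2E_h9 u)⁻¹)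
  obtain ⟨k00, k01, k10, k11⟩ := sl2_mul_entries_h9 (sl2E_h9 u * x * (sl2E_h9 u)⁻¹) x
  have e10 : (x * (sl2E_h9 u * x * (sl2E_h9 u)⁻¹)).1 1 0
      = ((sl2E_h9 u * x * (sl2E_h9 u)⁻¹) * x).1 1 0 := by rw [hx]
  have e01 : (x * (sl2E_h9 u * x * (sl2E_h9 u)⁻¹)).1 0 1
      = ((sl2E_h9 u * x * (sl2E_h9 u)⁻¹) * x).1 0 1 := by rw [hx]
  rw [m10, k10, c00, c10, c11] at e10
  rw [m01, k01, c00, c01, c11] at e01
  have h10 : x.1 1 0 = 0 := by
    have : (2 * u) * (x.1 1 0 * x.1 1 0) = 0 := by linear_combination e10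
    rcases mul_eq_zero.mp this with h | h
    · rcases mul_eq_zero.mp h with h | h
      · exact absurd h h2
      · exact absurd h hu
    · exact mul_self_eq_zero.mp h
  rw [h10] at e01
  have h00 : x.1 0 0 = x.1 1 1 := by
    have : u * ((x.1 0 0 - x.1 1 1) * (x.1 0 0 - x.1 1 1)) = 0 := by linear_combination -e01
    rcases mul_eq_zero.mp this with h | h
    · exact absurd h hu
    · exact sub_eq_zero.mp (mul_self_eq_zero.mp h)
  exact (sl2_comm_E_iff_h9 hu x).mpr ⟨h10, h00⟩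

/-- normal form of a unipotent element. -/
theorem sl2_unip_conj_h9 {F : Type*} [Field F] (a : SL(2, F)) (htr : a.1 0 0 + a.1 1 1 = 2)
    (ha : a ≠ 1) : ∃ (P : SL(2, F)) (u : F), u ≠ 0 ∧ a = P * sl2E_h9 u * P⁻¹ := by
  obtain ⟨-, hdet⟩ := sl2_entries_h9 a
  by_cases hc : a.1 1 0 = 0
  · have h11 : a.1 1 1 = 2 - a.1 0 0 := by linear_combination htr
    rw [hc, h11] at hdet
    have h00 : a.1 0 0 = 1 := by
      have : (a.1 0 0 - 1) * (a.1 0 0 - 1) = 0 := by linear_combination -hdet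
      have := mul_self_eq_zero.mp this
      linear_combination this
    rw [h00] at h11
    refine ⟨1, a.1 0 1, ?_, ?_⟩
    · intro h0
      apply ha
      obtain ⟨o00, o01, o10, o11⟩ := sl2_one_entries_h9 (F := F)
      apply sl2_ext_h9
      · rw [o00, h00]
      · rw [o01, h0]
      · rw [o10, hc]
      · rw [o11, h11]; ring
    · rw [one_mul, inv_one, mul_one]
      obtain ⟨a00, a01, a10, a11⟩ := sl2E_entries_h9 (a.1 0 1)
      apply sl2_ext_h9
      · rw [a00, h00]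
      · rw [a01]
      · rw [a10, hc]
      · rw [a11, h11]; ring
  · obtain ⟨P, hP⟩ : ∃ P : SL(2, F), P.1 = !![a.1 0 0 - 1, -(a.1 1 0)⁻¹; a.1 1 0, 0] :=
      ⟨⟨_, by rw [Matrix.det_fin_two_of]; field_simp; ring⟩, rfl⟩
    have p00 : P.1 0 0 = a.1 0 0 - 1 := by rw [hP]; rfl
    have p01 : P.1 0 1 = -(a.1 1 0)⁻¹ := by rw [hP]; rfl
    have p10 : P.1 1 0 = a.1 1 0 := by rw [hP]; rfl
    have p11 : P.1 1 1 = 0 := by rw [hP]; rfl
    refine ⟨P, -(a.1 1 0)⁻¹, by simpa using hc, ?_⟩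
    rw [eq_mul_inv_iff_mul_eq]
    obtain ⟨m00, m01, m10, m11⟩ := sl2_mul_entries_h9 a P
    obtain ⟨k00, k01, k10, k11⟩ := sl2_mul_entries_h9 P (sl2E_h9 (-(a.1 1 0)⁻¹))
    obtain ⟨a00, a01, a10, a11⟩ := sl2E_entries_h9 (-(a.1 1 0)⁻¹)
    have h11 : a.1 1 1 = 2 - a.1 0 0 := by linear_combination htr
    rw [h11] at hdet
    apply sl2_ext_h9
    · rw [m00, k00, a00, a10, p00, p10]; linear_combination -hdet
    · rw [m01, k01, a01, a11, p00, p01, p11]; ring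
    · rw [m10, k10, a00, a10, p00, p10, h11]; ring
    · rw [m11, k11, a01, a11, p10, p11, p01, h11]; field_simp; ring
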