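import Mathlib
import Cfsg.Agent.Helper9.SL2h
import Cfsg.Agent.Helper9.SL2e

/-!
# p'-subgroups of SL(2, F) normalized by a unipotent element (helper9)
-/

set_option autoImplicit false
open scoped MatrixGroups Pointwise

namespace Cfsg.Agent.Helper9

/-- the automorphism of `R` induced by a normalizing element. -/
def normAut_h9 {G : Type*} [Group G] (R : Subgroup G) (a : G)
    (h1 : ∀ x ∈ R, a * x * a⁻¹ ∈ R) (h2 : ∀ x ∈ R, a⁻¹ * x * a ∈ R) : MulAut R :=
  { toFun := fun x => ⟨a * x.1 * a⁻¹, h1 x.1 x.2⟩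
    invFun := fun x => ⟨a⁻¹ * x.1 * a, h2 x.1 x.2⟩
    left_inv := fun x => Subtype.ext (by simp [mul_assoc])
    right_inv := fun x => Subtype.ext (by simp [mul_assoc])
    map_mul' := fun x y => Subtype.ext (by simp [mul_assoc]) }

theorem normAut_apply_h9 {G : Type*} [Group G] (R : Subgroup G) (a : G)
    (h1 : ∀ x ∈ R, a * x * a⁻¹ ∈ R) (h2 : ∀ x ∈ R, a⁻¹ * x * a ∈ R) (x : R) :
    ((normAut_h9 R a h1 h2 x : R) : G) = a * x.1 * a⁻¹ := rfl

theorem normAut_pow_h9 {G : Type*} [Group G] (R : Subgroup G) (a : G)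
    (h1 : ∀ x ∈ R, a * x * a⁻¹ ∈ R) (h2 : ∀ x ∈ R, a⁻¹ * x * a ∈ R) (n : ℕ) (x : R) :
    (((normAut_h9 R a h1 h2 ^ n) x : R) : G) = a ^ n * x.1 * (a ^ n)⁻¹ := by
  induction n generalizing x with
  | zero => simp
  | succ n ih =>
    rw [pow_succ, MulAut.mul_apply, ih, normAut_apply_h9, pow_succ]
    group

/-- a `p`-element normalizing a `p'`-subgroup normalizes one of its Sylow `r`-subgroups. -/
theorem exists_invariant_sylow_h9 {G : Type*} [Group G] [Finite G] (R : Subgroup G) (a : G)
    (h1 : ∀ x ∈ R, a * x * a⁻¹ ∈ R) (h2 : ∀ x ∈ R, a⁻¹ * x * a ∈ R) {p : ℕ} [Fact p.Prime]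
    (k : ℕ) (hak : a ^ (p ^ k) = 1) (hR : (Nat.card R).Coprime p) (r : ℕ) [Fact r.Prime] :
    ∃ S : Subgroup G, S ≤ R ∧ IsPGroup r S ∧ (r ∣ Nat.card R → S ≠ ⊥) ∧
      ∀ x ∈ S, a * x * a⁻¹ ∈ S := by
  have hpp := (Fact.out : p.Prime)
  set σ := normAut_h9 R a h1 h2 with hσ
  have hσk : σ ^ (p ^ k) = 1 := by
    ext x
    rw [normAut_pow_h9, hak]; simp
  have hZ : IsPGroup p (Subgroup.zpowers σ) := by
    rintro ⟨g, hg⟩
    obtain ⟨m, rfl⟩ := Subgroup.mem_zpowers_iff.mp hg
    refine ⟨k, Subtype.ext ?_⟩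
    show (σ ^ m) ^ (p ^ k) = 1
    rw [← zpow_natCast, ← zpow_mul, mul_comm, zpow_mul, zpow_natCast, hσk, one_zpow]
  have hcard : ¬ p ∣ Nat.card (Sylow r R) := by
    intro h
    have h3 : Nat.card (Sylow r R) ∣ Nat.card R :=
      (Sylow.card_dvd_index (default : Sylow r R)).trans (Subgroup.index_dvd_card _)
    have := Nat.Coprime.eq_one_of_dvd hR.symm (h.trans h3)
    exact hpp.one_lt.ne' this
  obtain ⟨S, hS⟩ := hZ.nonempty_fixed_point_of_prime_not_dvd_card (Sylow r R) hcard
  have hfix : σ • S = S := hS ⟨σ, Subgroup.mem_zpowers σ⟩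
  refine ⟨S.1.map R.subtype, Subgroup.map_subtype_le _, S.2.map _, ?_, ?_⟩
  · intro hdvd h
    exact S.ne_bot_of_dvd_card hdvd
      ((Subgroup.map_eq_bot_iff_of_injective _ R.subtype_injective).mp h)
  · rintro x ⟨y, hy, rfl⟩
    refine ⟨σ y, ?_, rfl⟩
    have : σ • y ∈ σ • S.1 := Subgroup.smul_mem_pointwise_smul y σ S.1 hy
    have h4 : (σ • S : Sylow r R).1 = σ • S.1 := rfl
    rw [← h4, hfix] at this
    exact this

/-- an element commuting with two anticommuting elements of `SL(2, F)` is `±1`. -/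
theorem sl2_comm_anti_scalar_h9 {F : Type*} [Field F] (h2 : (2 : F) ≠ 0) (w w' r : SL(2, F))
    (hw10 : w.1 1 0 ≠ 0) (hanti : w * w' = -(w' * w)) (hr1 : r * w = w * r)
    (hr2 : r * w' = w' * r) : r = 1 ∨ r = -1 := by
  obtain ⟨-, hdet⟩ := sl2_entries_h9 r
  obtain ⟨m00, m01, m10, m11⟩ := sl2_mul_entries_h9 r w
  obtain ⟨k00, k01, k10, k11⟩ := sl2_mul_entries_h9 w r
  have e00 : (r * w).1 0 0 = (w * r).1 0 0 := by rw [hr1]
  have e10 : (r * w).1 1 0 = (w * r).1 1 0 := by rw [hr1]
  rw [m00, k00] at e00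
  rw [m10, k10] at e10
  obtain ⟨o00, o01, o10, o11⟩ := sl2_one_entries_h9 (F := F)
  obtain ⟨n00, n01, n10, n11⟩ := sl2_neg_entries_h9 (1 : SL(2, F))
  by_cases ht : r.1 1 0 = 0
  · rw [ht] at e00 e10
    have h01 : r.1 0 1 = 0 := by
      have : r.1 0 1 * w.1 1 0 = 0 := by linear_combination e00
      rcases mul_eq_zero.mp this with h | h
      · exact h
      · exact absurd h hw10
    have h11 : r.1 1 1 = r.1 0 0 := by
      have : (r.1 1 1 - r.1 0 0) * w.1 1 0 = 0 := by linear_combination e10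
      rcases mul_eq_zero.mp this with h | h
      · exact sub_eq_zero.mp h
      · exact absurd h hw10
    rw [ht, h01, h11] at hdet
    have hsq : (r.1 0 0 - 1) * (r.1 0 0 + 1) = 0 := by linear_combination hdet
    rcases mul_eq_zero.mp hsq with h | h
    · left
      have h0 : r.1 0 0 = 1 := by linear_combination h
      apply sl2_ext_h9
      · rw [o00, h0]
      · rw [o01, h01]
      · rw [o10, ht]
      · rw [o11, h11, h0]
    · right
      have h0 : r.1 0 0 = -1 := by linear_combination h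
      apply sl2_ext_h9
      · rw [n00, o00, h0]
      · rw [n01, o01, h01]; ring
      · rw [n10, o10, ht]; ring
      · rw [n11, o11, h11, h0]
  · exfalso
    set t := r.1 1 0 / w.1 1 0 with ht_def
    have ht0 : t ≠ 0 := div_ne_zero ht hw10
    have r10 : r.1 1 0 = t * w.1 1 0 := by rw [ht_def]; field_simp
    have r01 : r.1 0 1 = t * w.1 0 1 := by
      apply mul_right_cancel₀ hw10
      rw [r10] at e00
      linear_combination e00
    set s := r.1 0 0 - t * w.1 0 0 with hs_def
    have r00 : r.1 0 0 = s + t * w.1 0 0 := by rw [hs_def]; ring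
    have r11 : r.1 1 1 = s + t * w.1 1 1 := by
      apply mul_right_cancel₀ hw10
      rw [r10, r00] at e10
      linear_combination e10
    obtain ⟨p00, p01, p10, p11⟩ := sl2_mul_entries_h9 r w'
    obtain ⟨q00, q01, q10, q11⟩ := sl2_mul_entries_h9 w' r
    obtain ⟨a00, a01, a10, a11⟩ := sl2_mul_entries_h9 w w'
    obtain ⟨b00, b01, b10, b11⟩ := sl2_mul_entries_h9 w' w
    have f00 : (r * w').1 0 0 = (w' * r).1 0 0 := by rw [hr2]
    have f01 : (r * w').1 0 1 = (w' * r).1 0 1 := by rw [hr2]
    have f10 : (r * w').1 1 0 = (w' * r).1 1 0 := by rw [hr2]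
    have f11 : (r * w').1 1 1 = (w' * r).1 1 1 := by rw [hr2]
    rw [p00, q00, r00, r01, r10] at f00
    rw [p01, q01, r00, r01, r11] at f01
    rw [p10, q10, r00, r10, r11] at f10
    rw [p11, q11, r01, r10, r11] at f11
    have hcomm : w * w' = w' * w := by
      apply sl2_ext_h9
      · rw [a00, b00]; apply mul_left_cancel₀ ht0; linear_combination f00
      · rw [a01, b01]; apply mul_left_cancel₀ ht0; linear_combination f01
      · rw [a10, b10]; apply mul_left_cancel₀ ht0; linear_combination f10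
      · rw [a11, b11]; apply mul_left_cancel₀ ht0; linear_combination f11
    rw [hcomm] at hanti
    exact sl2_ne_neg_h9 h2 _ hanti

/-- abstract reduction: an element commuting or anticommuting with each of two anticommuting
square roots of `-1` is one of the eight "quaternion units", once the common centralizer is
`±1`. -/
theorem quat_reduce_h9 {G : Type*} [Group G] [HasDistribNeg G] (w w' r : G)
    (hw : w * w = -1) (hw' : w' * w' = -1) (hanti : w * w' = -(w' * w))
    (H : ∀ r₀ : G, r₀ * w = w * r₀ → r₀ * w' = w' * r₀ → r₀ = 1 ∨ r₀ = -1)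
    (h1 : w * r = r * w ∨ w * r = -(r * w)) (h2 : w' * r = r * w' ∨ w' * r = -(r * w')) :
    r = 1 ∨ r = -1 ∨ r = w ∨ r = -w ∨ r = w' ∨ r = -w' ∨ r = w * w' ∨ r = -(w * w') := by
  have hwi : w⁻¹ = -w := by
    rw [inv_eq_iff_mul_eq_one, mul_neg, hw, neg_neg]
  have hwi' : w'⁻¹ = -w' := by
    rw [inv_eq_iff_mul_eq_one, mul_neg, hw', neg_neg]
  have hanti' : w' * w = -(w * w') := by rw [hanti, neg_neg]
  rcases h1 with h1 | h1 <;> rcases h2 with h2 | h2
  · rcases H r h1.symm h2.symm with h | h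
    · exact Or.inl h
    · exact Or.inr (Or.inl h)
  · -- commutes with w, anticommutes with w': r * w is central
    have c1 : (r * w) * w = w * (r * w) := by rw [← mul_assoc, h1]
    have c2 : (r * w) * w' = w' * (r * w) := by
      rw [← mul_assoc w', h2, mul_assoc, hanti, neg_mul, mul_neg, mul_assoc]
    rcases H (r * w) c1 c2 with h | h
    · right; right; right; left
      rw [← hwi]; exact eq_inv_of_mul_eq_one_left h
    · right; right; left
      have : r = -1 * w⁻¹ := by rw [← h]; group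
      rw [this, hwi]; simp
  · have c1 : (r * w') * w = w * (r * w') := by
      rw [← mul_assoc w, h1, mul_assoc, hanti', neg_mul, mul_neg, mul_assoc]
    have c2 : (r * w') * w' = w' * (r * w') := by rw [← mul_assoc, h2]
    rcases H (r * w') c1 c2 with h | h
    · right; right; right; right; right; left
      rw [← hwi']; exact eq_inv_of_mul_eq_one_left h
    · right; right; right; right; left
      have : r = -1 * w'⁻¹ := by rw [← h]; group
      rw [this, hwi']; simp
  · have c1 : (r * (w * w')) * w = w * (r * (w * w')) := by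
      rw [← mul_assoc w, h1]
      simp only [mul_assoc, neg_mul]
      rw [hanti']
      simp only [mul_neg]
    have c2 : (r * (w * w')) * w' = w' * (r * (w * w')) := by
      rw [← mul_assoc w', h2]
      simp only [mul_assoc, neg_mul]
      rw [← mul_assoc w' w w', hanti']
      simp only [neg_mul, mul_neg, neg_neg, mul_assoc]
    rcases H _ c1 c2 with h | h
    · right; right; right; right; right; right; right
      have : r = (w * w')⁻¹ := eq_inv_of_mul_eq_one_left h
      rw [this, mul_inv_rev, hwi, hwi', neg_mul_neg, hanti']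
    · right; right; right; right; right; right; left
      have : r = -1 * (w * w')⁻¹ := by rw [← h]; group
      rw [this, mul_inv_rev, hwi, hwi', neg_mul_neg, hanti']; simp
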