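import Mathlib
import Cfsg.Agent.Helper9.SL2g
import Cfsg.Agent.Helper9.SL2i
import Cfsg.Agent.Helper9.KleinRec

/-!
# Four-groups of PSL(2, q), q odd: normalizers contain A₄, and S₄ when 2 is a square (helper9)
-/

set_option autoImplicit false
open scoped MatrixGroups

namespace Cfsg.Agent.Helper9

theorem klein_elems_h9 {G : Type*} [Group G] (V : Subgroup G) [hV : IsKleinFour V] (t s : G)
    (ht : t ∈ V) (hs : s ∈ V) (ht1 : t ≠ 1) (hs1 : s ≠ 1) (hts : t ≠ s) (x : G) (hx : x ∈ V) :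
    x = 1 ∨ x = t ∨ x = s ∨ x = t * s := by
  by_cases hx1 : x = 1
  · exact Or.inl hx1
  by_cases hxt : x = t
  · exact Or.inr (Or.inl hxt)
  by_cases hxs : x = s
  · exact Or.inr (Or.inr (Or.inl hxs))
  · right; right; right
    have := IsKleinFour.eq_mul_of_ne_all (G := V) (x := ⟨t, ht⟩) (y := ⟨s, hs⟩) (z := ⟨x, hx⟩)
      (fun h => ht1 (congrArg Subtype.val h)) (fun h => hs1 (congrArg Subtype.val h))
      (fun h => hts (congrArg Subtype.val h)) (fun h => hx1 (congrArg Subtype.val h))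
      (fun h => hxt (congrArg Subtype.val h)) (fun h => hxs (congrArg Subtype.val h))
    exact congrArg Subtype.val this

theorem mem_normalizer_of_conj_mem_h9 {G : Type*} [Group G] (V : Subgroup G) [Finite V] (c : G)
    (h : ∀ x ∈ V, c * x * c⁻¹ ∈ V) : c ∈ Subgroup.normalizer (V : Set G) := by
  rw [Subgroup.mem_normalizer_iff]
  intro x
  refine ⟨h x, fun hx => ?_⟩
  let f : V → V := fun v => ⟨c * v.1 * c⁻¹, h v.1 v.2⟩
  have hf : Function.Injective f := by
    intro v w hvw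
    have : c * v.1 * c⁻¹ = c * w.1 * c⁻¹ := congrArg Subtype.val hvw
    apply Subtype.ext
    simpa using this
  obtain ⟨v, hv⟩ := (Finite.injective_iff_surjective.mp hf) ⟨c * x * c⁻¹, hx⟩
  have : c * v.1 * c⁻¹ = c * x * c⁻¹ := congrArg Subtype.val hv
  have hvx : v.1 = x := by simpa using this
  rw [← hvx]; exact v.2

theorem sl2_cube_h9 {F : Type*} [Field F] (x : SL(2, F)) (htr : x.1 0 0 + x.1 1 1 = 1) :
    x * x * x = -1 := by
  obtain ⟨-, hdet⟩ := sl2_entries_h9 x
  obtain ⟨m00, m01, m10, m11⟩ := sl2_mul_entries_h9 (x * x) x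
  obtain ⟨k00, k01, k10, k11⟩ := sl2_mul_entries_h9 x x
  obtain ⟨n00, n01, n10, n11⟩ := sl2_neg_entries_h9 (1 : SL(2, F))
  obtain ⟨o00, o01, o10, o11⟩ := sl2_one_entries_h9 (F := F)
  have h11 : x.1 1 1 = 1 - x.1 0 0 := by linear_combination htr
  rw [h11] at hdet
  apply sl2_ext_h9
  · rw [m00, k00, k01, n00, o00, h11]; linear_combination (-x.1 0 0 - 1) * hdet
  · rw [m01, k00, k01, n01, o01, h11]; linear_combination (-x.1 0 1) * hdet
  · rw [m10, k10, k11, n10, o10, h11]; linear_combination (-x.1 1 0) * hdet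
  · rw [m11, k10, k11, n11, o11, h11]; linear_combination (x.1 0 0 - 2) * hdet

/-- the "quaternion" `(1 + J + y + Jy)/2`, which cycles `J → y → Jy`. -/
theorem sl2_omega_h9 {F : Type*} [Field F] (h2 : (2 : F) ≠ 0) (y : SL(2, F))
    (hy : y ∈ sl2T_h9 F) :
    ∃ c : SL(2, F), c * sl2J_h9 F = y * c ∧ c * y = (sl2J_h9 F * y) * c ∧ c * c * c = -1 := by
  obtain ⟨h01, h11⟩ := (sl2_anti_J_iff_h9 y).mp hy
  obtain ⟨-, hdet⟩ := sl2_entries_h9 y
  rw [h11, h01] at hdet
  obtain ⟨h, hh⟩ : ∃ h : F, 2 * h = 1 := ⟨2⁻¹, mul_inv_cancel₀ h2⟩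
  obtain ⟨c, hc⟩ : ∃ c : SL(2, F), c.1 = !![h * (1 + y.1 0 0 - y.1 1 0),
      h * (-1 + y.1 0 0 + y.1 1 0); h * (1 + y.1 0 0 + y.1 1 0),
      h * (1 - y.1 0 0 + y.1 1 0)] :=
    ⟨⟨_, by
      rw [Matrix.det_fin_two_of]
      linear_combination (2 * h ^ 2) * hdet + (2 * h + 1) * hh⟩, rfl⟩
  have c00 : c.1 0 0 = h * (1 + y.1 0 0 - y.1 1 0) := by rw [hc]; rfl
  have c01 : c.1 0 1 = h * (-1 + y.1 0 0 + y.1 1 0) := by rw [hc]; rfl
  have c10 : c.1 1 0 = h * (1 + y.1 0 0 + y.1 1 0) := by rw [hc]; rfl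
  have c11 : c.1 1 1 = h * (1 - y.1 0 0 + y.1 1 0) := by rw [hc]; rfl
  obtain ⟨j00, j01, j10, j11⟩ := sl2J_entries_h9 F
  refine ⟨c, ?_, ?_, ?_⟩
  · obtain ⟨m00, m01, m10, m11⟩ := sl2_mul_entries_h9 c (sl2J_h9 F)
    obtain ⟨k00, k01, k10, k11⟩ := sl2_mul_entries_h9 y c
    apply sl2_ext_h9
    · rw [m00, k00, j00, j10, c00, c01, c10, h01]
      first | ring1 | linear_combination h * hdet | linear_combination (-h) * hdet
    · rw [m01, k01, j01, j11, c00, c01, c11, h01]
      first | ring1 | linear_combination h * hdet | linear_combination (-h) * hdet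
    · rw [m10, k10, j00, j10, c00, c10, c11, h11]
      first | ring1 | linear_combination h * hdet | linear_combination (-h) * hdet
    · rw [m11, k11, j01, j11, c01, c10, c11, h11]
      first | ring1 | linear_combination h * hdet | linear_combination (-h) * hdet
  · obtain ⟨m00, m01, m10, m11⟩ := sl2_mul_entries_h9 c y
    obtain ⟨k00, k01, k10, k11⟩ := sl2_mul_entries_h9 (sl2J_h9 F * y) c
    obtain ⟨l00, l01, l10, l11⟩ := sl2_mul_entries_h9 (sl2J_h9 F) y
    apply sl2_ext_h9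
    · rw [m00, k00, l00, l01, j00, j01, c00, c01, c10, h11]
      first | ring1 | linear_combination h * hdet | linear_combination (-h) * hdet
    · rw [m01, k01, l00, l01, j00, j01, c00, c01, c11, h01, h11]
      first | ring1 | linear_combination h * hdet | linear_combination (-h) * hdet
    · rw [m10, k10, l10, l11, j10, j11, c00, c10, c11, h01]
      first | ring1 | linear_combination h * hdet | linear_combination (-h) * hdet
    · rw [m11, k11, l10, l11, j10, j11, c01, c10, c11, h01, h11]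
      first | ring1 | linear_combination h * hdet | linear_combination (-h) * hdet
  · apply sl2_cube_h9
    rw [c00, c11]; linear_combination hh

theorem psl2_mk_neg_h9 {F : Type*} [Field F] (x : SL(2, F)) :
    (QuotientGroup.mk (-x) : Matrix.ProjectiveSpecialLinearGroup (Fin 2) F) = QuotientGroup.mk x :=
  (psl2_mk_eq_iff_h9 (-x) x).mpr (Or.inr rfl)

/-- a four-group of `PSL(2, F)` (`|F|` odd) which is self-centralizing, whose normalizer has
order divisible by 3, and not equal to 12 if `2` is a square. -/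
theorem psl2_klein_data_h9 {F : Type*} [Field F] [Fintype F] (hF : Fintype.card F % 2 = 1)
    (h2 : (2 : F) ≠ 0) :
    ∃ V : Subgroup (Matrix.ProjectiveSpecialLinearGroup (Fin 2) F), IsKleinFour V ∧
      Subgroup.centralizer (V : Set (Matrix.ProjectiveSpecialLinearGroup (Fin 2) F)) ≤ V ∧
      3 ∣ Nat.card (Subgroup.normalizer
        (V : Set (Matrix.ProjectiveSpecialLinearGroup (Fin 2) F))) ∧
      (IsSquare (2 : F) → Nat.card (Subgroup.normalizer
        (V : Set (Matrix.ProjectiveSpecialLinearGroup (Fin 2) F))) ≠ 12) := by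
  classical
  obtain ⟨y, hy⟩ := sl2T_nonempty_h9 (F := F) hF
  obtain ⟨ho1, hne1, hcomm1⟩ := psl2_T_invol_h9 h2 y hy
  obtain ⟨V, hV, hJV, hyV⟩ := exists_klein_of_comm_invols_h9 _ _ (psl2J_order_h9 F h2) ho1
    hne1 hcomm1
  haveI := hV
  haveI : Finite V := Nat.finite_of_card_ne_zero (by rw [hV.card_four]; norm_num)
  have hJ1 := ne_one_of_orderOf_two_h9 _ (psl2J_order_h9 F h2)
  have hy1 := ne_one_of_orderOf_two_h9 _ ho1
  have helems := klein_elems_h9 V _ _ hJV hyV hJ1 hy1 hne1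
  obtain ⟨j00, j01, j10, j11⟩ := sl2J_entries_h9 F
  have hanti : sl2J_h9 F * y = -(y * sl2J_h9 F) := by rw [(mem_sl2T_h9 y).mp hy, neg_neg]
  have hJJ : (QuotientGroup.mk (sl2J_h9 F) : Matrix.ProjectiveSpecialLinearGroup (Fin 2) F) *
      QuotientGroup.mk (sl2J_h9 F) = 1 := by
    rw [← QuotientGroup.mk_mul, sl2J_sq_h9, psl2_mk_neg_h9]; rfl
  refine ⟨V, hV, ?_, ?_, ?_⟩
  · -- centralizer
    intro xb hxb
    obtain ⟨x, rfl⟩ := QuotientGroup.mk_surjective xb
    have c1 := Subgroup.mem_centralizer_iff.mp hxb _ hJV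
    have c2 := Subgroup.mem_centralizer_iff.mp hxb _ hyV
    rw [← QuotientGroup.mk_mul, ← QuotientGroup.mk_mul, psl2_mk_eq_iff_h9] at c1 c2
    have := quat_reduce_h9 (sl2J_h9 F) y x (sl2J_sq_h9 F) (sl2T_sq_h9 y hy) hanti
      (fun r₀ e1 e2 => sl2_comm_anti_scalar_h9 h2 (sl2J_h9 F) y r₀
        (by rw [j10]; exact one_ne_zero) hanti e1 e2) c1 c2
    rcases this with h | h | h | h | h | h | h | h
    · rw [h]; exact V.one_mem
    · rw [h, psl2_mk_neg_h9]; exact V.one_mem
    · rw [h]; exact hJV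
    · rw [h, psl2_mk_neg_h9]; exact hJV
    · rw [h]; exact hyV
    · rw [h, psl2_mk_neg_h9]; exact hyV
    · rw [h, QuotientGroup.mk_mul]; exact V.mul_mem hJV hyV
    · rw [h, psl2_mk_neg_h9, QuotientGroup.mk_mul]; exact V.mul_mem hJV hyV
  · -- an element of order 3 in the normalizer
    obtain ⟨c, hc1, hc2, hc3⟩ := sl2_omega_h9 h2 y hy
    have hcJ : (QuotientGroup.mk c : Matrix.ProjectiveSpecialLinearGroup (Fin 2) F) *
        QuotientGroup.mk (sl2J_h9 F) * (QuotientGroup.mk c)⁻¹ = QuotientGroup.mk y := by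
      rw [mul_inv_eq_iff_eq_mul, ← QuotientGroup.mk_mul, ← QuotientGroup.mk_mul, hc1]
    have hcy : (QuotientGroup.mk c : Matrix.ProjectiveSpecialLinearGroup (Fin 2) F) *
        QuotientGroup.mk y * (QuotientGroup.mk c)⁻¹
          = QuotientGroup.mk (sl2J_h9 F) * QuotientGroup.mk y := by
      rw [mul_inv_eq_iff_eq_mul, ← QuotientGroup.mk_mul, ← QuotientGroup.mk_mul,
        ← QuotientGroup.mk_mul, hc2]
    have hcN : (QuotientGroup.mk c : Matrix.ProjectiveSpecialLinearGroup (Fin 2) F) ∈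
        Subgroup.normalizer (V : Set (Matrix.ProjectiveSpecialLinearGroup (Fin 2) F)) := by
      apply mem_normalizer_of_conj_mem_h9
      intro x hx
      rcases helems x hx with h | h | h | h
      · rw [h]; simp
      · rw [h, hcJ]; exact hyV
      · rw [h, hcy]; exact V.mul_mem hJV hyV
      · rw [h]
        have : (QuotientGroup.mk c : Matrix.ProjectiveSpecialLinearGroup (Fin 2) F) *
            (QuotientGroup.mk (sl2J_h9 F) * QuotientGroup.mk y) * (QuotientGroup.mk c)⁻¹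
            = (QuotientGroup.mk c * QuotientGroup.mk (sl2J_h9 F) * (QuotientGroup.mk c)⁻¹) *
              (QuotientGroup.mk c * QuotientGroup.mk y * (QuotientGroup.mk c)⁻¹) := by group
        rw [this, hcJ, hcy]; exact V.mul_mem hyV (V.mul_mem hJV hyV)
    have hord : orderOf (QuotientGroup.mk c : Matrix.ProjectiveSpecialLinearGroup (Fin 2) F)
        = 3 := by
      apply orderOf_eq_prime
      · rw [pow_succ, pow_succ, pow_one, ← QuotientGroup.mk_mul, ← QuotientGroup.mk_mul, hc3,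
          psl2_mk_neg_h9]; rfl
      · intro h
        rw [h] at hcJ
        apply hne1
        rw [← hcJ]; simp
    have := orderOf_dvd_natCard (⟨_, hcN⟩ : Subgroup.normalizer
      (V : Set (Matrix.ProjectiveSpecialLinearGroup (Fin 2) F)))
    rwa [Subgroup.orderOf_mk, hord] at this
  · intro hsq
    obtain ⟨c₀, hc₀S, hc₀⟩ := (sl2S_J_sq_iff_h9 h2).mpr hsq
    have hcJ : (QuotientGroup.mk c₀ : Matrix.ProjectiveSpecialLinearGroup (Fin 2) F) *
        QuotientGroup.mk (sl2J_h9 F) * (QuotientGroup.mk c₀)⁻¹ = QuotientGroup.mk (sl2J_h9 F) := by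
      rw [mul_inv_eq_iff_eq_mul, ← QuotientGroup.mk_mul, ← QuotientGroup.mk_mul,
        (mem_sl2S_h9 c₀).mp hc₀S]
    have hcy : (QuotientGroup.mk c₀ : Matrix.ProjectiveSpecialLinearGroup (Fin 2) F) *
        QuotientGroup.mk y * (QuotientGroup.mk c₀)⁻¹
          = QuotientGroup.mk (sl2J_h9 F) * QuotientGroup.mk y := by
      rw [← QuotientGroup.mk_inv, ← QuotientGroup.mk_mul, ← QuotientGroup.mk_mul,
        sl2_conj_ST_h9 c₀ y hc₀S hy, hc₀, QuotientGroup.mk_mul]
    apply klein_normalizer_ne_twelve_h9 V (QuotientGroup.mk c₀)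
    · apply mem_normalizer_of_conj_mem_h9
      intro x hx
      rcases helems x hx with h | h | h | h
      · rw [h]; simp
      · rw [h, hcJ]; exact hJV
      · rw [h, hcy]; exact V.mul_mem hJV hyV
      · rw [h]
        have : (QuotientGroup.mk c₀ : Matrix.ProjectiveSpecialLinearGroup (Fin 2) F) *
            (QuotientGroup.mk (sl2J_h9 F) * QuotientGroup.mk y) * (QuotientGroup.mk c₀)⁻¹
            = (QuotientGroup.mk c₀ * QuotientGroup.mk (sl2J_h9 F) * (QuotientGroup.mk c₀)⁻¹) *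
              (QuotientGroup.mk c₀ * QuotientGroup.mk y * (QuotientGroup.mk c₀)⁻¹) := by group
        rw [this, hcJ, hcy, ← mul_assoc, hJJ, one_mul]; exact hyV
    · rw [show (4 : ℕ) = 2 + 2 from rfl, pow_add, sq, ← QuotientGroup.mk_mul, hc₀, hJJ]
    · rw [← QuotientGroup.mk_mul, hc₀]; exact hJ1
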