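import Mathlib
import Cfsg.Agent.Helper9.KleinRec
import Cfsg.Agent.Helper9.SL2l

/-!
# Recognizing `A₅` from an exact factorization (helper9)
-/

set_option autoImplicit false

namespace Cfsg.Agent.Helper9

/-- if `x ^ n = 1` and `x ^ k * a ∈ A * ⟨x⟩` for all `a ∈ A`, then `|⟨A, x⟩| ≤ |A| n`. -/
theorem card_sup_zpowers_le_h9 {G : Type*} [Group G] [Finite G] (A : Subgroup G) (x : G) (n : ℕ)
    (hn : 0 < n) (hx : x ^ n = 1)
    (h : ∀ a ∈ A, ∀ k : ℕ, ∃ a' ∈ A, ∃ l : ℕ, x ^ k * a = a' * x ^ l) :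
    Nat.card (A ⊔ Subgroup.zpowers x : Subgroup G) ≤ Nat.card A * n := by
  classical
  let S : Subgroup G :=
    { carrier := {g | ∃ a ∈ A, ∃ l : ℕ, g = a * x ^ l}
      mul_mem' := by
        rintro _ _ ⟨a, ha, l, rfl⟩ ⟨a', ha', l', rfl⟩
        obtain ⟨a'', ha'', l'', e⟩ := h a' ha' l
        refine ⟨a * a'', A.mul_mem ha ha'', l'' + l', ?_⟩
        calc a * x ^ l * (a' * x ^ l') = a * (x ^ l * a') * x ^ l' := by group
          _ = a * (a'' * x ^ l'') * x ^ l' := by rw [e]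
          _ = a * a'' * x ^ (l'' + l') := by rw [pow_add]; group
      one_mem' := ⟨1, A.one_mem, 0, by simp⟩
      inv_mem' := by
        rintro _ ⟨a, ha, l, rfl⟩
        obtain ⟨a'', ha'', l'', e⟩ := h a⁻¹ (A.inv_mem ha) ((n - 1) * l)
        refine ⟨a'', ha'', l'', ?_⟩
        rw [← e, mul_inv_rev]
        congr 1
        apply inv_eq_of_mul_eq_one_right
        have hnl : l + (n - 1) * l = n * l := by
          obtain ⟨m, rfl⟩ : ∃ m, n = m + 1 := ⟨n - 1, by omega⟩
          simp only [Nat.add_sub_cancel]; ring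
        rw [← pow_add, hnl, pow_mul, hx, one_pow] }
  have hle : A ⊔ Subgroup.zpowers x ≤ S := by
    rw [sup_le_iff]
    refine ⟨fun a ha => ⟨a, ha, 0, by simp⟩, ?_⟩
    rw [Subgroup.zpowers_le]
    exact ⟨1, A.one_mem, 1, by simp⟩
  have hS : Nat.card S ≤ Nat.card A * n := by
    have hsurj : Function.Surjective (fun p : A × Fin n =>
        (⟨(p.1 : G) * x ^ (p.2 : ℕ), ⟨p.1, p.1.2, p.2, rfl⟩⟩ : S)) := by
      rintro ⟨_, a, ha, l, rfl⟩
      refine ⟨(⟨a, ha⟩, ⟨l % n, Nat.mod_lt _ hn⟩), ?_⟩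
      apply Subtype.ext
      show a * x ^ (l % n) = a * x ^ l
      congr 1
      conv_rhs => rw [← Nat.div_add_mod l n, pow_add, pow_mul, hx, one_pow, one_mul]
    have := Nat.card_le_card_of_surjective _ hsurj
    rwa [Nat.card_prod, Nat.card_fin] at this
  exact (Subgroup.card_le_of_le hle).trans hS

/-- the permuting property propagates from generators. -/
theorem permute_closure_h9 {G : Type*} [Group G] [Finite G] (T : Subgroup G) (x : G) (s : Set G)
    (hs : Subgroup.closure s = T)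
    (h : ∀ g ∈ s, ∀ k : ℕ, ∃ t ∈ T, ∃ l : ℕ, x ^ k * g = t * x ^ l) :
    ∀ t ∈ T, ∀ k : ℕ, ∃ t' ∈ T, ∃ l : ℕ, x ^ k * t = t' * x ^ l := by
  have hmul : ∀ a b : G, (∀ k : ℕ, ∃ t ∈ T, ∃ l : ℕ, x ^ k * a = t * x ^ l) →
      (∀ k : ℕ, ∃ t ∈ T, ∃ l : ℕ, x ^ k * b = t * x ^ l) →
      ∀ k : ℕ, ∃ t ∈ T, ∃ l : ℕ, x ^ k * (a * b) = t * x ^ l := by
    intro a b ha hb k
    obtain ⟨t, ht, l, e⟩ := ha k
    obtain ⟨t', ht', l', e'⟩ := hb l
    refine ⟨t * t', T.mul_mem ht ht', l', ?_⟩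
    rw [← mul_assoc, e, mul_assoc, e', mul_assoc]
  have hone : ∀ k : ℕ, ∃ t ∈ T, ∃ l : ℕ, x ^ k * 1 = t * x ^ l :=
    fun k => ⟨1, T.one_mem, k, by simp⟩
  have hpow : ∀ a : G, (∀ k : ℕ, ∃ t ∈ T, ∃ l : ℕ, x ^ k * a = t * x ^ l) → ∀ m : ℕ,
      ∀ k : ℕ, ∃ t ∈ T, ∃ l : ℕ, x ^ k * a ^ m = t * x ^ l := by
    intro a ha m
    induction m with
    | zero => simpa using hone
    | succ m ih => rw [pow_succ]; exact hmul _ _ ih ha
  intro t ht
  rw [← hs] at ht
  induction ht using Subgroup.closure_induction with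
  | mem g hg => exact h g hg
  | one => exact hone
  | mul a b _ _ iha ihb => exact hmul a b iha ihb
  | inv a _ iha =>
    have : a⁻¹ = a ^ (orderOf a - 1) := by
      apply inv_eq_of_mul_eq_one_right
      rw [← pow_succ', Nat.sub_add_cancel (orderOf_pos a), pow_orderOf_eq_one]
    rw [this]
    exact hpow a iha _

/-- a subgroup of order 60 of `S₅` is `A₅`. -/
theorem perm5_card_sixty_h9 (H : Subgroup (Equiv.Perm (Fin 5))) (hH : Nat.card H = 60) :
    H = alternatingGroup (Fin 5) := by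
  have hA : Nat.card (alternatingGroup (Fin 5)) = 60 := by
    have := two_mul_card_alternatingGroup (α := Fin 5)
    rw [Fintype.card_perm] at this
    rw [Nat.card_eq_fintype_card]
    have h120 : (Fintype.card (Fin 5)).factorial = 120 := by simp [Nat.factorial]
    rw [h120] at this
    omega
  have hidx : H.index = 2 := by
    have := Subgroup.card_mul_index H
    rw [hH, Nat.card_perm] at this
    have h120 : (Nat.card (Fin 5)).factorial = 120 := by simp [Nat.factorial]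
    rw [h120] at this
    omega
  symm
  apply Subgroup.eq_of_le_of_card_ge
  · rw [← Equiv.Perm.closure_three_cycles_eq_alternating, Subgroup.closure_le]
    intro σ hσ
    have h3 : σ ^ 3 = 1 := by
      have := hσ.orderOf
      rw [← this]; exact pow_orderOf_eq_one σ
    have h4 : σ = (σ ^ 2) ^ 2 := by
      rw [← pow_mul]
      show σ = σ ^ (3 + 1)
      rw [pow_add, h3, one_mul, pow_one]
    rw [h4]
    exact Subgroup.sq_mem_of_index_two hidx _
  · rw [hA, hH]

end Cfsg.Agent.Helper9
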