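import Mathlib
import Cfsg.Agent.Helper9.Ico3

/-!
# Recognizing `A₅`: order 60 with an `A₄`-like subgroup of index 5 (helper9)
-/

set_option autoImplicit false

namespace Cfsg.Agent.Helper9

/-- `H` of order 60 containing `T` of order 12 normalizing a self-centralizing four-group
`V ≤ T` is isomorphic to `A₅`. -/
theorem a5_recog_h9 {G : Type*} [Group G] [Finite G] (H T V : Subgroup G) [hV : IsKleinFour V]
    (hVT : V ≤ T) (hTH : T ≤ H) (hT : Nat.card T = 12) (hH : Nat.card H = 60)
    (hC : Subgroup.centralizer (V : Set G) ≤ V)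
    (hTN : T ≤ Subgroup.normalizer (V : Set G)) :
    Nonempty (H ≃* alternatingGroup (Fin 5)) := by
  classical
  haveI : Finite V := inferInstance
  have hN24 : Nat.card (Subgroup.normalizer (V : Set G)) ≤ 24 := by
    have h1 := klein_normalizer_card_le_h9 V
    have h2 : Nat.card (Subgroup.centralizer (V : Set G)) ≤ 4 := by
      rw [← hV.card_four]; exact Subgroup.card_le_of_le hC
    omega
  have hHN : ¬ H ≤ Subgroup.normalizer (V : Set G) := by
    intro h
    have := Subgroup.card_le_of_le h
    omega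
  -- involutions of `T` lie in `V`
  have hinvol : ∀ u ∈ T, u * u = 1 → u ∈ V := by
    intro u hu huu
    by_contra hne
    have hu2 : u ^ 2 = 1 := by rw [sq]; exact huu
    have hcard := card_sup_zpowers_le_h9 V u 2 (by norm_num) hu2 (by
      intro v hv k
      refine ⟨u ^ k * v * (u ^ k)⁻¹, ?_, k, by group⟩
      have hk : u ^ k ∈ Subgroup.normalizer (V : Set G) := Subgroup.pow_mem _ (hTN hu) k
      exact (Subgroup.mem_normalizer_iff.mp hk v).mp hv)
    rw [hV.card_four] at hcard
    have hle : V ⊔ Subgroup.zpowers u ≤ T :=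
      sup_le hVT (by rw [Subgroup.zpowers_le]; exact hu)
    have hdvd := Subgroup.card_dvd_of_le hle
    rw [hT] at hdvd
    have h4 : 4 ∣ Nat.card (V ⊔ Subgroup.zpowers u : Subgroup G) := by
      rw [← hV.card_four]; exact Subgroup.card_dvd_of_le le_sup_left
    have hlt : 4 < Nat.card (V ⊔ Subgroup.zpowers u : Subgroup G) := by
      by_contra hh
      rw [not_lt] at hh
      have := Subgroup.eq_of_le_of_card_ge (le_sup_left : V ≤ V ⊔ Subgroup.zpowers u)
        (by rw [hV.card_four]; exact hh)
      apply hne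
      rw [this]
      exact Subgroup.mem_sup_right (Subgroup.mem_zpowers u)
    have hc8 : Nat.card (V ⊔ Subgroup.zpowers u : Subgroup G) = 8 := by
      obtain ⟨m, hm⟩ := h4
      omega
    rw [hc8] at hdvd
    norm_num at hdvd
  -- the coset action
  let φ := MulAction.toPermHom H (H ⧸ T.subgroupOf H)
  have hidx : Nat.card (H ⧸ T.subgroupOf H) = 5 := by
    have h1 := Subgroup.card_eq_card_quotient_mul_card_subgroup (T.subgroupOf H)
    have h2 : Nat.card (T.subgroupOf H) = 12 := by
      rw [Nat.card_congr (Subgroup.subgroupOfEquivOfLe hTH).toEquiv, hT]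
    rw [hH, h2] at h1
    omega
  -- the kernel, as a subgroup of `G`
  have hkerT : φ.ker ≤ T.subgroupOf H := by
    have : φ.ker = (T.subgroupOf H).normalCore := (Subgroup.normalCore_eq_ker _).symm
    rw [this]; exact Subgroup.normalCore_le _
  have hKT : ∀ g : H, g ∈ φ.ker → (g : G) ∈ T := fun g hg => Subgroup.mem_subgroupOf.mp (hkerT hg)
  have hKconj : ∀ g : H, g ∈ φ.ker → ∀ h : H, h * g * h⁻¹ ∈ φ.ker :=
    fun g hg h => (MonoidHom.normal_ker φ).conj_mem g hg h
  -- Step 1: the kernel meets `V` trivially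
  have step1 : ∀ g : H, g ∈ φ.ker → (g : G) ∈ V → g = 1 := by
    intro g hg hgV
    by_contra hg1
    have hv1 : (g : G) ≠ 1 := fun h => hg1 (Subtype.ext h)
    -- all `H`-conjugates of `g` lie in `V`
    have hα : ∀ h ∈ H, h * (g : G) * h⁻¹ ∈ V := by
      intro h hh
      have h1 := hKT _ (hKconj g hg ⟨h, hh⟩)
      apply hinvol _ h1
      have : ((⟨h, hh⟩ * g * (⟨h, hh⟩ : H)⁻¹ : H) : G) = h * (g : G) * h⁻¹ := rfl
      rw [this]
      have hgg := klein_sq_h9 V _ hgV
      calc h * (g : G) * h⁻¹ * (h * (g : G) * h⁻¹) = h * ((g : G) * (g : G)) * h⁻¹ := by group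
        _ = 1 := by rw [hgg]; group
    -- an element of order 3 of `T`
    haveI : Fact (Nat.Prime 3) := ⟨by norm_num⟩
    obtain ⟨c, hc⟩ := exists_prime_orderOf_dvd_card' (G := T) 3 (by rw [hT]; norm_num)
    have hcH : (c : G) ∈ H := hTH c.2
    have hc3 : (c : G) ^ 3 = 1 := by
      have := pow_orderOf_eq_one c
      rw [hc] at this
      exact_mod_cast congrArg Subtype.val this
    have hc1 : (c : G) ≠ 1 := by
      intro h
      have : c = 1 := Subtype.ext h
      rw [this, orderOf_one] at hc
      norm_num at hc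
    have hu1V := hα c hcH
    have hne : (c : G) * (g : G) * (c : G)⁻¹ ≠ (g : G) := by
      intro hfix
      -- then `c` centralizes `V`
      have hcent : (c : G) ∈ Subgroup.centralizer (V : Set G) := by
        rw [Subgroup.mem_centralizer_iff]
        intro a ha
        have hcN := hTN c.2
        have haV : (c : G) * a * (c : G)⁻¹ ∈ V := (Subgroup.mem_normalizer_iff.mp hcN a).mp ha
        suffices hfa : (c : G) * a * (c : G)⁻¹ = a by
          calc a * (c : G) = ((c : G) * a * (c : G)⁻¹) * (c : G) := by rw [hfa]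
            _ = (c : G) * a := by group
        by_cases ha1 : a = 1
        · rw [ha1]; group
        by_cases hag : a = (g : G)
        · rw [hag]; exact hfix
        have helems := klein_elems_h9 V (g : G) a hgV ha hv1 ha1 (fun h => hag h.symm)
        rcases helems _ haV with h | h | h | h
        · exfalso; apply ha1
          have : a = (c : G)⁻¹ * ((c : G) * a * (c : G)⁻¹) * (c : G) := by group
          rw [this, h]; group
        · exfalso; apply hag
          have : a = (c : G)⁻¹ * ((c : G) * a * (c : G)⁻¹) * (c : G) := by group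
          have e1 : (c : G)⁻¹ * (g : G) * (c : G) = (g : G) := by
            calc (c : G)⁻¹ * (g : G) * (c : G)
                = (c : G)⁻¹ * ((c : G) * (g : G) * (c : G)⁻¹) * (c : G) := by rw [hfix]
              _ = (g : G) := by group
          rw [this, h, e1]
        · exact h
        · exfalso
          -- conj twice gives back `a`, conj three times is the identity
          have h2 : (c : G) * ((c : G) * a * (c : G)⁻¹) * (c : G)⁻¹ = a := by
            rw [h]
            calc (c : G) * ((g : G) * a) * (c : G)⁻¹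
                = ((c : G) * (g : G) * (c : G)⁻¹) * ((c : G) * a * (c : G)⁻¹) := by group
              _ = (g : G) * ((g : G) * a) := by rw [hfix, h]
              _ = ((g : G) * (g : G)) * a := by group
              _ = a := by rw [klein_sq_h9 V _ hgV, one_mul]
          have h3 : (c : G) ^ 3 * a * ((c : G) ^ 3)⁻¹ = (c : G) * a * (c : G)⁻¹ := by
            calc (c : G) ^ 3 * a * ((c : G) ^ 3)⁻¹
                = (c : G) * ((c : G) * ((c : G) * a * (c : G)⁻¹) * (c : G)⁻¹) * (c : G)⁻¹ := by
                  rw [pow_succ, pow_succ, pow_one]; group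
              _ = (c : G) * a * (c : G)⁻¹ := by rw [h2]
          rw [hc3] at h3
          have h5 : a = (g : G) * a := by
            rw [← h, ← h3]; group
          apply hv1
          calc (g : G) = ((g : G) * a) * a⁻¹ := by group
            _ = 1 := by rw [← h5]; group
      have hcV := hC hcent
      have hcc := klein_sq_h9 V _ hcV
      apply hc1
      calc (c : G) = (c : G) ^ 3 * ((c : G) * (c : G))⁻¹ := by
            rw [pow_succ, pow_succ, pow_one]; group
        _ = 1 := by rw [hc3, hcc]; group
    have hu11 : (c : G) * (g : G) * (c : G)⁻¹ ≠ 1 := by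
      intro h
      apply hv1
      have : (g : G) = (c : G)⁻¹ * ((c : G) * (g : G) * (c : G)⁻¹) * (c : G) := by group
      rw [this, h]; group
    have helems := klein_elems_h9 V (g : G) ((c : G) * (g : G) * (c : G)⁻¹) hgV hu1V hv1 hu11
      (fun h => hne h.symm)
    apply hHN
    intro h hh
    apply mem_normalizer_of_conj_mem_h9
    intro a ha
    have hconj_u : h * ((c : G) * (g : G) * (c : G)⁻¹) * h⁻¹ ∈ V := by
      have := hα (h * (c : G)) (H.mul_mem hh hcH)
      have e : h * (c : G) * (g : G) * (h * (c : G))⁻¹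
          = h * ((c : G) * (g : G) * (c : G)⁻¹) * h⁻¹ := by group
      rwa [e] at this
    rcases helems a ha with h1 | h1 | h1 | h1
    · rw [h1]; simp
    · rw [h1]; exact hα h hh
    · rw [h1]; exact hconj_u
    · rw [h1]
      have e : h * ((g : G) * ((c : G) * (g : G) * (c : G)⁻¹)) * h⁻¹
          = (h * (g : G) * h⁻¹) * (h * ((c : G) * (g : G) * (c : G)⁻¹) * h⁻¹) := by group
      rw [e]
      exact V.mul_mem (hα h hh) hconj_u
  -- Step 2: the kernel is trivial
  have hker : Function.Injective φ := by
    rw [injective_iff_map_eq_one]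
    intro k hk
    have hkker : k ∈ φ.ker := hk
    apply step1 k hkker
    apply hC
    rw [Subgroup.mem_centralizer_iff]
    intro v hv
    have hvH : v ∈ H := hTH (hVT hv)
    -- the commutator lies in the kernel and in `V`
    have hcomm_ker : (⟨v, hvH⟩ : H) * k⁻¹ * (⟨v, hvH⟩ : H)⁻¹ ∈ φ.ker :=
      hKconj _ (φ.ker.inv_mem hkker) _
    have h1 : k * ((⟨v, hvH⟩ : H) * k⁻¹ * (⟨v, hvH⟩ : H)⁻¹) ∈ φ.ker :=
      φ.ker.mul_mem hkker hcomm_ker
    have hkN := hTN (hKT k hkker)
    have h2 : (k : G) * v * (k : G)⁻¹ ∈ V := (Subgroup.mem_normalizer_iff.mp hkN v).mp hv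
    have h3 : ((k * ((⟨v, hvH⟩ : H) * k⁻¹ * (⟨v, hvH⟩ : H)⁻¹) : H) : G) ∈ V := by
      have e : ((k * ((⟨v, hvH⟩ : H) * k⁻¹ * (⟨v, hvH⟩ : H)⁻¹) : H) : G)
          = ((k : G) * v * (k : G)⁻¹) * v⁻¹ := by
        show (k : G) * (v * (k : G)⁻¹ * v⁻¹) = _
        group
      rw [e]
      exact V.mul_mem h2 (V.inv_mem hv)
    have h4 := step1 _ h1 h3
    have h5 : (k : G) * (v * (k : G)⁻¹ * v⁻¹) = 1 := congrArg Subtype.val h4
    calc v * (k : G) = ((k : G) * (v * (k : G)⁻¹ * v⁻¹))⁻¹ * ((k : G) * v) := by group
      _ = (k : G) * v := by rw [h5]; group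
  -- conclusion
  let e : (H ⧸ T.subgroupOf H) ≃ Fin 5 := Finite.equivFinOfCardEq hidx
  let ψ : H →* Equiv.Perm (Fin 5) := (Equiv.permCongrHom e).toMonoidHom.comp φ
  have hψ : Function.Injective ψ := (Equiv.permCongrHom e).injective.comp hker
  have hr : Nat.card ψ.range = 60 := by
    rw [← hH]
    exact Nat.card_congr (MonoidHom.ofInjective hψ).toEquiv.symm
  have hrA := perm5_card_sixty_h9 ψ.range hr
  exact ⟨(MonoidHom.ofInjective hψ).trans (MulEquiv.subgroupCongr hrA)⟩

end Cfsg.Agent.Helper9
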