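import Mathlib
import Cfsg.Agent.Helper9.Ico2
import Cfsg.Agent.Helper9.Ico4

/-!
# The binary icosahedral group inside `SL(2, F)` (helper9)
-/

set_option autoImplicit false
open scoped MatrixGroups

namespace Cfsg.Agent.Helper9

/-- the element `X` of order 5. -/
def icoX_h9 {F : Type*} [Field F] {α β τ : F}
    (hc : α ^ 2 - τ * α + β ^ 2 + β + 1 = 0) : SL(2, F) :=
  ⟨icoM_h9 α β τ 0 1 0 0, by rw [icoM_det_h9 hc]; ring⟩

/-- the element `Y` of order 4 anticommuting with `J`. -/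
def icoY_h9 {F : Type*} [Field F] {α β τ : F}
    (hc : α ^ 2 - τ * α + β ^ 2 + β + 1 = 0) (hτ : τ ^ 2 + τ - 1 = 0) : SL(2, F) :=
  ⟨icoM_h9 α β τ (1 + (-1) * τ) (-2 * τ) τ 0, by
    rw [icoM_det_h9 hc]; linear_combination (2 * τ) * hτ⟩

/-- the element `C` of order 3. -/
def icoC_h9 {F : Type*} [Field F] {α β τ : F}
    (hc : α ^ 2 - τ * α + β ^ 2 + β + 1 = 0) (hτ : τ ^ 2 + τ - 1 = 0) : SL(2, F) :=
  ⟨icoM_h9 α β τ (-1) τ (-τ) (-τ), by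
    rw [icoM_det_h9 hc]; linear_combination τ * hτ⟩

theorem icoM_W_h9 {F : Type*} [Field F] (α β τ : F) :
    (sl2J_h9 F).1 = icoM_h9 α β τ 0 0 1 0 := by
  rw [sl2J_val_h9]
  unfold icoM_h9
  ext i j
  fin_cases i <;> fin_cases j <;> simp

section rels
variable {F : Type*} [Field F] {α β τ : F}
  (hc : α ^ 2 - τ * α + β ^ 2 + β + 1 = 0) (hτ : τ ^ 2 + τ - 1 = 0)

theorem icoX_pow5_h9 (hτ : τ ^ 2 + τ - 1 = 0) : icoX_h9 hc ^ 5 = 1 := by
  apply Subtype.ext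
  simp only [Matrix.SpecialLinearGroup.coe_pow, Matrix.SpecialLinearGroup.coe_one]
  exact ico_Xpow5_h9 hc hτ

theorem icoC_pow3_h9 : icoC_h9 hc hτ ^ 3 = 1 := by
  apply Subtype.ext
  simp only [Matrix.SpecialLinearGroup.coe_pow, Matrix.SpecialLinearGroup.coe_one]
  exact ico_Cpow3_h9 hc hτ

theorem icoY_mem_T_h9 : icoY_h9 hc hτ ∈ sl2T_h9 F := by
  rw [mem_sl2T_h9]
  apply Subtype.ext
  simp only [Matrix.SpecialLinearGroup.coe_mul, Matrix.SpecialLinearGroup.coe_neg]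
  rw [icoM_W_h9 α β τ]
  exact ico_YW_h9 hc hτ

theorem icoC_J_h9 : icoC_h9 hc hτ * sl2J_h9 F = icoY_h9 hc hτ * icoC_h9 hc hτ := by
  apply Subtype.ext
  simp only [Matrix.SpecialLinearGroup.coe_mul]
  rw [icoM_W_h9 α β τ]
  exact ico_CW_h9 hc hτ

theorem icoC_Y_h9 : icoC_h9 hc hτ * icoY_h9 hc hτ
    = sl2J_h9 F * icoY_h9 hc hτ * icoC_h9 hc hτ := by
  apply Subtype.ext
  simp only [Matrix.SpecialLinearGroup.coe_mul]
  rw [icoM_W_h9 α β τ]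
  exact ico_CY_h9 hc hτ

theorem icoD_W1_h9 : icoX_h9 hc * sl2J_h9 F = -(icoC_h9 hc hτ ^ 2 * icoX_h9 hc ^ 2) := by
  apply Subtype.ext
  simp only [Matrix.SpecialLinearGroup.coe_mul, Matrix.SpecialLinearGroup.coe_neg,
    Matrix.SpecialLinearGroup.coe_pow]
  rw [icoM_W_h9 α β τ]
  exact ico_DW1_h9 hc hτ

theorem icoD_W2_h9 : icoX_h9 hc ^ 2 * sl2J_h9 F = icoC_h9 hc hτ * icoX_h9 hc := by
  apply Subtype.ext
  simp only [Matrix.SpecialLinearGroup.coe_mul, Matrix.SpecialLinearGroup.coe_neg,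
    Matrix.SpecialLinearGroup.coe_pow]
  rw [icoM_W_h9 α β τ]
  exact ico_DW2_h9 hc hτ

theorem icoD_W3_h9 : icoX_h9 hc ^ 3 * sl2J_h9 F
    = icoY_h9 hc hτ * icoC_h9 hc hτ * icoX_h9 hc ^ 4 := by
  apply Subtype.ext
  simp only [Matrix.SpecialLinearGroup.coe_mul, Matrix.SpecialLinearGroup.coe_neg,
    Matrix.SpecialLinearGroup.coe_pow]
  rw [icoM_W_h9 α β τ]
  exact ico_DW3_h9 hc hτ

theorem icoD_W4_h9 : icoX_h9 hc ^ 4 * sl2J_h9 F
    = sl2J_h9 F * icoC_h9 hc hτ ^ 2 * icoX_h9 hc ^ 3 := by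
  apply Subtype.ext
  simp only [Matrix.SpecialLinearGroup.coe_mul, Matrix.SpecialLinearGroup.coe_neg,
    Matrix.SpecialLinearGroup.coe_pow]
  rw [icoM_W_h9 α β τ]
  exact ico_DW4_h9 hc hτ

theorem icoD_C1_h9 : icoX_h9 hc * icoC_h9 hc hτ
    = icoY_h9 hc hτ * icoC_h9 hc hτ * icoX_h9 hc ^ 3 := by
  apply Subtype.ext
  simp only [Matrix.SpecialLinearGroup.coe_mul, Matrix.SpecialLinearGroup.coe_neg,
    Matrix.SpecialLinearGroup.coe_pow]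
  exact ico_DC1_h9 hc hτ

theorem icoD_C2_h9 : icoX_h9 hc ^ 2 * icoC_h9 hc hτ
    = sl2J_h9 F * icoC_h9 hc hτ ^ 2 * icoX_h9 hc ^ 2 := by
  apply Subtype.ext
  simp only [Matrix.SpecialLinearGroup.coe_mul, Matrix.SpecialLinearGroup.coe_neg,
    Matrix.SpecialLinearGroup.coe_pow]
  rw [icoM_W_h9 α β τ]
  exact ico_DC2_h9 hc hτ

theorem icoD_C3_h9 : icoX_h9 hc ^ 3 * icoC_h9 hc hτ = sl2J_h9 F * icoX_h9 hc ^ 4 := by
  apply Subtype.ext
  simp only [Matrix.SpecialLinearGroup.coe_mul, Matrix.SpecialLinearGroup.coe_neg,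
    Matrix.SpecialLinearGroup.coe_pow]
  rw [icoM_W_h9 α β τ]
  exact ico_DC3_h9 hc hτ

theorem icoD_C4_h9 : icoX_h9 hc ^ 4 * icoC_h9 hc hτ = -(icoC_h9 hc hτ ^ 2 * icoX_h9 hc) := by
  apply Subtype.ext
  simp only [Matrix.SpecialLinearGroup.coe_mul, Matrix.SpecialLinearGroup.coe_neg,
    Matrix.SpecialLinearGroup.coe_pow]
  exact ico_DC4_h9 hc hτ

theorem icoX_ne_h9 : icoX_h9 hc ≠ 1 ∧ icoX_h9 hc ≠ -1 := by
  have h01 : (icoX_h9 hc).1 0 1 = β := by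
    show icoM_h9 α β τ 0 1 0 0 0 1 = β
    unfold icoM_h9; simp
  have h10 : (icoX_h9 hc).1 1 0 = β + 1 := by
    show icoM_h9 α β τ 0 1 0 0 1 0 = β + 1
    unfold icoM_h9; simp
  constructor
  · intro h
    rw [h] at h01 h10
    simp at h01 h10
    rw [← h01] at h10
    simp at h10
  · intro h
    rw [h] at h01 h10
    simp at h01 h10
    rw [← h01] at h10
    simp at h10

end rels

end Cfsg.Agent.Helper9
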