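import Mathlib
import Cfsg.Agent.Helper9.SL2i

/-!
# p'-subgroups of SL(2, F) normalized by a unipotent element: the quaternion structure (helper9)
-/

set_option autoImplicit false
open scoped MatrixGroups Pointwise

namespace Cfsg.Agent.Helper9

/-- anticommutation of `w` (`w² = -1`) with its conjugate under `E(u)` pins down `w₁₀`. -/
theorem sl2_anti_conj_E_h9 {F : Type*} [Field F] (u : F) (w : SL(2, F)) (hw : w * w = -1)
    (hanti : w * (sl2E_h9 u * w * (sl2E_h9 u)⁻¹) = -((sl2E_h9 u * w * (sl2E_h9 u)⁻¹) * w)) :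
    u ^ 2 * (w.1 1 0) ^ 2 = -2 := by
  have htr := (sl2_sq_eq_neg_one_iff_h9 w).mp hw
  obtain ⟨c00, c01, c10, c11⟩ := sl2E_conj_entries_h9 u w
  obtain ⟨m00, -, -, -⟩ := sl2_mul_entries_h9 w (sl2E_h9 u * w * (sl2E_h9 u)⁻¹)
  obtain ⟨k00, -, -, -⟩ := sl2_mul_entries_h9 (sl2E_h9 u * w * (sl2E_h9 u)⁻¹) w
  obtain ⟨n00, -, -, -⟩ := sl2_neg_entries_h9 ((sl2E_h9 u * w * (sl2E_h9 u)⁻¹) * w)
  have e : (w * (sl2E_h9 u * w * (sl2E_h9 u)⁻¹)).1 0 0
      = (-((sl2E_h9 u * w * (sl2E_h9 u)⁻¹) * w)).1 0 0 := by rw [hanti]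
  rw [m00, n00, k00, c00, c01, c10] at e
  obtain ⟨-, hdet⟩ := sl2_entries_h9 w
  have h11 : w.1 1 1 = -w.1 0 0 := by linear_combination htr
  rw [h11] at e hdet
  linear_combination -e - 2 * hdet

theorem sl2_pprime_norm_h9 {F : Type*} [Field F] [Fintype F] {p : ℕ} [Fact p.Prime] [CharP F p]
    (hp : p ≠ 2) (u : F) (hu : u ≠ 0) (a : SL(2, F)) (ha : a = sl2E_h9 u)
    (R : Subgroup SL(2, F)) (hR : (Nat.card R).Coprime p)
    (h1 : ∀ x ∈ R, a * x * a⁻¹ ∈ R) (h2 : ∀ x ∈ R, a⁻¹ * x * a ∈ R)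
    (hnt : ∃ x ∈ R, a * x * a⁻¹ ≠ x) :
    p = 3 ∧ ∃ w ∈ R, w * w = -1 ∧ w * (a * w * a⁻¹) = -((a * w * a⁻¹) * w) ∧
      ∀ r ∈ R, r = 1 ∨ r = -1 ∨ r = w ∨ r = -w ∨ r = a * w * a⁻¹ ∨
        r = -(a * w * a⁻¹) ∨ r = w * (a * w * a⁻¹) ∨ r = -(w * (a * w * a⁻¹)) := by
  classical
  have hpp := (Fact.out : p.Prime)
  have h2F : (2 : F) ≠ 0 := by
    intro h
    have : ((2 : ℕ) : F) = 0 := by exact_mod_cast h
    rw [CharP.cast_eq_zero_iff F p] at this
    exact hp ((Nat.prime_dvd_prime_iff_eq hpp Nat.prime_two).mp this)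
  have hpow : ∀ x ∈ R, x ^ Nat.card R = 1 := by
    intro x hx
    have := pow_card_eq_one' (G := R) (x := ⟨x, hx⟩)
    exact congrArg Subtype.val this
  have F1 : ∀ x ∈ R, a * x = x * a → x = 1 ∨ x = -1 := by
    intro x hx h
    rw [ha] at h
    exact sl2_comm_E_coprime_h9 hp hu x h _ (hpow x hx) hR
  have F2 : ∀ x ∈ R, x * (a * x * a⁻¹) = (a * x * a⁻¹) * x → x = 1 ∨ x = -1 := by
    intro x hx h
    apply F1 x hx
    rw [ha] at h ⊢
    exact sl2_comm_conj_E_h9 h2F hu x h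
  have hap : a ^ p = 1 := by
    rw [ha, sl2E_pow_h9, CharP.cast_eq_zero, zero_mul, sl2E_zero_h9]
  have hconj_neg : ∀ (b y : SL(2, F)), b * (-y) * b⁻¹ = -(b * y * b⁻¹) := by
    intro b y; simp
  -- R is a 2-group
  have h2grp : IsPGroup 2 R := by
    have hcard : Nat.card R = 2 ^ (Nat.card R).primeFactorsList.length := by
      apply Nat.eq_prime_pow_of_unique_prime_dvd Nat.card_pos.ne'
      intro r hr hdvd
      by_contra hr2
      haveI : Fact r.Prime := ⟨hr⟩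
      obtain ⟨S, hSR, hSp, hSne, hSinv⟩ :=
        exists_invariant_sylow_h9 R a h1 h2 1 (by rw [pow_one]; exact hap) hR r
      have hSne := hSne hdvd
      haveI : Nontrivial S := (Subgroup.nontrivial_iff_ne_bot S).mpr hSne
      haveI := hSp.center_nontrivial
      obtain ⟨z, hz⟩ := exists_ne (1 : Subgroup.center S)
      have hzS : (z.1 : SL(2, F)) ∈ S := z.1.2
      have hcomm : (z.1 : SL(2, F)) * (a * z.1 * a⁻¹) = (a * z.1 * a⁻¹) * z.1 := by
        have := Subgroup.mem_center_iff.mp z.2 ⟨a * z.1 * a⁻¹, hSinv _ hzS⟩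
        exact (congrArg Subtype.val this).symm
      have hz1 : (z.1 : SL(2, F)) ≠ 1 := by
        intro h; apply hz; exact Subtype.ext (Subtype.ext h)
      rcases F2 _ (hSR hzS) hcomm with h | h
      · exact hz1 h
      · obtain ⟨j, hj⟩ := hSp z.1
        have hj' : (z.1 : SL(2, F)) ^ (r ^ j) = 1 := congrArg Subtype.val hj
        have hsq : (z.1 : SL(2, F)) ^ 2 = 1 := by rw [h, sq]; simp
        have hg : (z.1 : SL(2, F)) ^ (Nat.gcd 2 (r ^ j)) = 1 := pow_gcd_eq_one.mpr ⟨hsq, hj'⟩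
        have : Nat.gcd 2 (r ^ j) = 1 :=
          Nat.Coprime.pow_right _ ((Nat.coprime_primes Nat.prime_two hr).mpr (Ne.symm hr2))
        rw [this, pow_one] at hg
        exact hz1 hg
    exact IsPGroup.of_card hcard
  have hZ : ∀ x : R, x ∈ Subgroup.center R → (x : SL(2, F)) = 1 ∨ (x : SL(2, F)) = -1 := by
    intro x hx
    apply F2 x.1 x.2
    have := Subgroup.mem_center_iff.mp hx ⟨a * x.1 * a⁻¹, h1 x.1 x.2⟩
    exact (congrArg Subtype.val this).symm
  obtain ⟨x0, hx0R, hx0⟩ := hnt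
  have hx0c : (⟨x0, hx0R⟩ : R) ∉ Subgroup.center R := by
    intro hc
    rcases hZ _ hc with h | h
    · apply hx0; rw [show x0 = 1 from h]; simp
    · apply hx0; rw [show x0 = -1 from h]; simp
  haveI : Nontrivial (R ⧸ Subgroup.center R) :=
    ⟨⟨QuotientGroup.mk ⟨x0, hx0R⟩, 1, fun h => hx0c ((QuotientGroup.eq_one_iff _).mp h)⟩⟩
  have hQ : IsPGroup 2 (R ⧸ Subgroup.center R) := h2grp.to_quotient _
  haveI := hQ.center_nontrivial
  obtain ⟨z, hz⟩ := exists_ne (1 : Subgroup.center (R ⧸ Subgroup.center R))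
  obtain ⟨w, hw⟩ := QuotientGroup.mk_surjective z.1
  have hwc : w ∉ Subgroup.center R := by
    intro hc
    apply hz
    apply Subtype.ext
    rw [← hw]; exact (QuotientGroup.eq_one_iff _).mpr hc
  have hW : ∀ r : R, w * r * w⁻¹ * r⁻¹ ∈ Subgroup.center R := by
    intro r
    rw [← QuotientGroup.eq_one_iff]
    have := Subgroup.mem_center_iff.mp z.2 (QuotientGroup.mk r)
    simp only [QuotientGroup.mk_mul, QuotientGroup.mk_inv, hw]
    rw [← this]; group
  have hW' : ∀ r ∈ R, w.1 * r = r * w.1 ∨ w.1 * r = -(r * w.1) := by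
    intro r hr
    rcases hZ _ (hW ⟨r, hr⟩) with h | h
    · left
      have h' : w.1 * r * w.1⁻¹ * r⁻¹ = 1 := h
      have := mul_inv_eq_one.mp h'
      exact mul_inv_eq_iff_eq_mul.mp this
    · right
      have h' : w.1 * r * w.1⁻¹ * r⁻¹ = -1 := h
      have h3 : w.1 * r * w.1⁻¹ = -1 * r := mul_inv_eq_iff_eq_mul.mp h'
      have h4 := mul_inv_eq_iff_eq_mul.mp h3
      rw [h4]; simp
  obtain ⟨ww, hwwR⟩ := w
  simp only at hW' hwc
  have hww1 : ww ≠ 1 := by
    intro h; apply hwc; rw [Subgroup.mem_center_iff]; intro g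
    apply Subtype.ext
    show g.1 * ww = ww * g.1
    rw [h]; simp
  have hwwn : ww ≠ -1 := by
    intro h; apply hwc; rw [Subgroup.mem_center_iff]; intro g
    apply Subtype.ext
    show g.1 * ww = ww * g.1
    rw [h]; simp
  have hsq : ww * ww = -1 := by
    have hc : (⟨ww, hwwR⟩ : R) * ⟨ww, hwwR⟩ ∈ Subgroup.center R := by
      rw [Subgroup.mem_center_iff]
      intro g
      apply Subtype.ext
      show g.1 * (ww * ww) = ww * ww * g.1
      rcases hW' g.1 g.2 with h | h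
      · rw [← mul_assoc, ← h, mul_assoc, ← h, mul_assoc]
      · have h' : g.1 * ww = -(ww * g.1) := by rw [h, neg_neg]
        rw [← mul_assoc, h', neg_mul, mul_assoc, h', mul_neg, neg_neg, mul_assoc]
    rcases hZ _ hc with h | h
    · exfalso
      have h' : ww * ww = 1 := h
      rcases sl2_invol_h9 h2F ww h' with h | h
      · exact hww1 h
      · exact hwwn h
    · exact h
  have hw'R : a * ww * a⁻¹ ∈ R := h1 ww hwwR
  have hanti : ww * (a * ww * a⁻¹) = -((a * ww * a⁻¹) * ww) := by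
    rcases hW' _ hw'R with h | h
    · exfalso
      rcases F2 ww hwwR h with h | h
      · exact hww1 h
      · exact hwwn h
    · exact h
  have hsq' : (a * ww * a⁻¹) * (a * ww * a⁻¹) = -1 := by
    have : a * ww * a⁻¹ * (a * ww * a⁻¹) = a * (ww * ww) * a⁻¹ := by group
    rw [this, hsq]; simp
  have hW'' : ∀ r ∈ R, (a * ww * a⁻¹) * r = r * (a * ww * a⁻¹) ∨
      (a * ww * a⁻¹) * r = -(r * (a * ww * a⁻¹)) := by
    intro r hr
    have hr' := h2 r hr
    have e1 : (a * ww * a⁻¹) * r = a * (ww * (a⁻¹ * r * a)) * a⁻¹ := by group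
    have e2 : r * (a * ww * a⁻¹) = a * ((a⁻¹ * r * a) * ww) * a⁻¹ := by group
    rcases hW' _ hr' with h | h
    · left; rw [e1, e2, h]
    · right; rw [e1, e2, h]; simp
  have hw10 : ww.1 1 0 ≠ 0 := by
    intro h0
    have hanti' := hanti
    rw [ha] at hanti'
    have := sl2_anti_conj_E_h9 u ww hsq hanti'
    rw [h0] at this
    have h3 : (2 : F) = 0 := by linear_combination this
    exact h2F h3
  have Hc : ∀ r₀ : SL(2, F), r₀ * ww = ww * r₀ → r₀ * (a * ww * a⁻¹) = (a * ww * a⁻¹) * r₀ →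
      r₀ = 1 ∨ r₀ = -1 :=
    fun r₀ c1 c2 => sl2_comm_anti_scalar_h9 h2F ww _ r₀ hw10 hanti c1 c2
  have hall : ∀ r ∈ R, r = 1 ∨ r = -1 ∨ r = ww ∨ r = -ww ∨ r = a * ww * a⁻¹ ∨
      r = -(a * ww * a⁻¹) ∨ r = ww * (a * ww * a⁻¹) ∨ r = -(ww * (a * ww * a⁻¹)) :=
    fun r hr => quat_reduce_h9 ww _ r hsq hsq' hanti Hc (hW' r hr) (hW'' r hr)
  refine ⟨?_, ww, hwwR, hsq, hanti, hall⟩
  -- p = 3
  have key : ∀ (x : SL(2, F)) (n : ℕ), x ∈ R → x ≠ 1 → x ≠ -1 →
      (a ^ n * x * (a ^ n)⁻¹ = x ∨ a ^ n * x * (a ^ n)⁻¹ = -x) → ((2 * n : ℕ) : F) = 0 := by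
    intro x n hxR hx1 hxn h
    by_contra hne
    have h2n : a ^ (2 * n) * x = x * a ^ (2 * n) := by
      have : a ^ (2 * n) * x * (a ^ (2 * n))⁻¹ = x := by
        rw [two_mul, pow_add]
        have e : a ^ n * a ^ n * x * (a ^ n * a ^ n)⁻¹
            = a ^ n * (a ^ n * x * (a ^ n)⁻¹) * (a ^ n)⁻¹ := by group
        rw [e]
        rcases h with h | h
        · rw [h, h]
        · rw [h, hconj_neg, h, neg_neg]
      exact mul_inv_eq_iff_eq_mul.mp this
    rw [ha, sl2E_pow_h9] at h2n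
    have hne' : ((2 * n : ℕ) : F) * u ≠ 0 := mul_ne_zero hne hu
    have := sl2_comm_E_transfer_h9 (v := u) hne' x h2n
    rw [← ha] at this
    rcases F1 x hxR this with h | h
    · exact hx1 h
    · exact hxn h
  have hw'1 : a * ww * a⁻¹ ≠ 1 := by
    intro h; apply hww1
    have : ww = a⁻¹ * (a * ww * a⁻¹) * a := by group
    rw [this, h]; simp
  have hw'n : a * ww * a⁻¹ ≠ -1 := by
    intro h; apply hwwn
    have : ww = a⁻¹ * (a * ww * a⁻¹) * a := by group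
    rw [this, h]; simp
  have hw''R : a * (a * ww * a⁻¹) * a⁻¹ ∈ R := h1 _ hw'R
  have e2 : a * (a * ww * a⁻¹) * a⁻¹ = a ^ 2 * ww * (a ^ 2)⁻¹ := by
    rw [sq]; group
  have e3 : a ^ 3 * ww * (a ^ 3)⁻¹ = a * (a * (a * ww * a⁻¹) * a⁻¹) * a⁻¹ := by
    have h3 : a ^ 3 = a * a * a := by rw [pow_succ, pow_succ, pow_one]
    rw [h3]; group
  have hdvd : ∀ m : ℕ, ((m : ℕ) : F) = 0 → p ∣ m := fun m h => (CharP.cast_eq_zero_iff F p m).mp h
  have hcyc : (a * ww * a⁻¹) * (ww * (a * ww * a⁻¹)) = ww := by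
    rw [← mul_assoc, ← neg_neg (a * ww * a⁻¹ * ww), ← hanti, neg_mul, mul_assoc, hsq']
    simp
  have h6 : ((2 * 3 : ℕ) : F) = 0 → p = 3 := by
    intro h
    have h3 := hdvd _ h
    rcases (Nat.Prime.dvd_mul hpp).mp h3 with h | h
    · exact absurd ((Nat.prime_dvd_prime_iff_eq hpp Nat.prime_two).mp h) hp
    · exact (Nat.prime_dvd_prime_iff_eq hpp Nat.prime_three).mp h
  rcases hall _ hw''R with h | h | h | h | h | h | h | h
  · exfalso; apply hw'1
    have : a * ww * a⁻¹ = a⁻¹ * (a * (a * ww * a⁻¹) * a⁻¹) * a := by group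
    rw [this, h]; simp
  · exfalso; apply hw'n
    have : a * ww * a⁻¹ = a⁻¹ * (a * (a * ww * a⁻¹) * a⁻¹) * a := by group
    rw [this, h]; simp
  · exfalso
    have := hdvd _ (key ww 2 hwwR hww1 hwwn (Or.inl (by rw [← e2, h])))
    rcases (Nat.Prime.dvd_mul hpp).mp this with h | h
    · exact hp ((Nat.prime_dvd_prime_iff_eq hpp Nat.prime_two).mp h)
    · exact hp ((Nat.prime_dvd_prime_iff_eq hpp Nat.prime_two).mp h)
  · exfalso
    have := hdvd _ (key ww 2 hwwR hww1 hwwn (Or.inr (by rw [← e2, h])))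
    rcases (Nat.Prime.dvd_mul hpp).mp this with h | h
    · exact hp ((Nat.prime_dvd_prime_iff_eq hpp Nat.prime_two).mp h)
    · exact hp ((Nat.prime_dvd_prime_iff_eq hpp Nat.prime_two).mp h)
  · exfalso
    have := hdvd _ (key _ 1 hw'R hw'1 hw'n (Or.inl (by rw [pow_one]; exact h)))
    rcases (Nat.Prime.dvd_mul hpp).mp this with h | h
    · exact hp ((Nat.prime_dvd_prime_iff_eq hpp Nat.prime_two).mp h)
    · exact hpp.one_lt.ne' (Nat.dvd_one.mp h)
  · exfalso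
    have := hdvd _ (key _ 1 hw'R hw'1 hw'n (Or.inr (by rw [pow_one]; exact h)))
    rcases (Nat.Prime.dvd_mul hpp).mp this with h | h
    · exact hp ((Nat.prime_dvd_prime_iff_eq hpp Nat.prime_two).mp h)
    · exact hpp.one_lt.ne' (Nat.dvd_one.mp h)
  · apply h6
    apply key ww 3 hwwR hww1 hwwn
    left
    rw [e3, h]
    have : a * (ww * (a * ww * a⁻¹)) * a⁻¹ = (a * ww * a⁻¹) * (a * (a * ww * a⁻¹) * a⁻¹) := by
      group
    rw [this, h, hcyc]
  · apply h6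
    apply key ww 3 hwwR hww1 hwwn
    left
    rw [e3, h, hconj_neg]
    have : a * (ww * (a * ww * a⁻¹)) * a⁻¹ = (a * ww * a⁻¹) * (a * (a * ww * a⁻¹) * a⁻¹) := by
      group
    rw [this, h, mul_neg, neg_neg, hcyc]
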