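import Mathlib
import Cfsg.Agent.Helper9.SL2j
import Cfsg.Agent.Helper9.Recog
import Cfsg.Agent.S0242

/-!
# p'-subgroups of SL(2, F) normalized by a unipotent element: SL(2, 3) (helper9)
-/

set_option autoImplicit false
open scoped MatrixGroups Pointwise

namespace Cfsg.Agent.Helper9

/-- conjugation by an invertible matrix, as an endomorphism of `SL(2, F)`. -/
def sl2ConjM_h9 {F : Type*} [Field F] (M N : Matrix (Fin 2) (Fin 2) F) (h1 : M * N = 1)
    (h2 : N * M = 1) : SL(2, F) →* SL(2, F) where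
  toFun g := ⟨M * g.1 * N, by
    rw [Matrix.det_mul, Matrix.det_mul, mul_right_comm, ← Matrix.det_mul, h1, Matrix.det_one,
      one_mul, g.2]⟩
  map_one' := Subtype.ext (by simp [h1])
  map_mul' g h := Subtype.ext (by
    show M * (g.1 * h.1) * N = M * g.1 * N * (M * h.1 * N)
    calc M * (g.1 * h.1) * N = M * g.1 * 1 * h.1 * N := by simp [mul_assoc]
      _ = M * g.1 * (N * M) * h.1 * N := by rw [h2]
      _ = M * g.1 * N * (M * h.1 * N) := by simp [mul_assoc])

theorem sl2ConjM_injective_h9 {F : Type*} [Field F] (M N : Matrix (Fin 2) (Fin 2) F)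
    (h1 : M * N = 1) (h2 : N * M = 1) : Function.Injective (sl2ConjM_h9 M N h1 h2) := by
  intro g h hgh
  have e : M * g.1 * N = M * h.1 * N := congrArg Subtype.val hgh
  apply Subtype.ext
  calc g.1 = (N * M) * g.1 * (N * M) := by rw [h2]; simp
    _ = N * (M * g.1 * N) * M := by simp [mul_assoc]
    _ = N * (M * h.1 * N) * M := by rw [e]
    _ = (N * M) * h.1 * (N * M) := by simp [mul_assoc]
    _ = h.1 := by rw [h2]; simp

theorem sl2ConjM_eq_of_h9 {F : Type*} [Field F] (M N : Matrix (Fin 2) (Fin 2) F)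
    (h1 : M * N = 1) (h2 : N * M = 1) (x y : SL(2, F)) (h : x.1 * M = M * y.1) :
    sl2ConjM_h9 M N h1 h2 y = x := by
  apply Subtype.ext
  show M * y.1 * N = x.1
  rw [← h, mul_assoc, h1, mul_one]

theorem sl2_card_three_h9 : Nat.card SL(2, ZMod 3) = 24 := by
  have h := Cfsg.Agent.S0242.result (F := ZMod 3) (q := 3) (by simp [ZMod.card]) 2 (by norm_num)
  rw [Fin.prod_univ_two] at h
  norm_num at h
  rw [Nat.card_eq_fintype_card]
  omega

theorem sl2_unip_trace_h9 {F : Type*} [Field F] {p : ℕ} [Fact p.Prime] [CharP F p]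
    (a : SL(2, F)) (k : ℕ) (hak : a ^ (p ^ k) = 1) : a.1 0 0 + a.1 1 1 = 2 := by
  have h1 : (a.1 - 1) ^ (p ^ k) = a.1 ^ (p ^ k) - 1 ^ (p ^ k) :=
    sub_pow_char_pow_of_commute _ _ (Commute.one_right _)
  have h2 : a.1 ^ (p ^ k) = 1 := by
    have := congrArg Subtype.val hak
    simpa using this
  rw [h2, one_pow, sub_self] at h1
  have h3 : IsNilpotent (a.1 - 1) := ⟨_, h1⟩
  have h4 := (Matrix.isNilpotent_trace_of_isNilpotent h3).eq_zero
  rw [Matrix.trace_sub, Matrix.trace_fin_two, Matrix.trace_one] at h4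
  simp at h4
  linear_combination h4

theorem sl2_map_entry_h9 {A B : Type*} [CommRing A] [CommRing B] (f : A →+* B) (g : SL(2, A))
    (i j : Fin 2) : (Matrix.SpecialLinearGroup.map f g).1 i j = f (g.1 i j) := rfl

theorem sl2_map_injective_h9 {A B : Type*} [CommRing A] [CommRing B] (f : A →+* B)
    (hf : Function.Injective f) :
    Function.Injective (Matrix.SpecialLinearGroup.map (n := Fin 2) f) := by
  intro g h hgh
  apply Subtype.ext
  ext i j
  apply hf
  rw [← sl2_map_entry_h9, ← sl2_map_entry_h9, hgh]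

theorem sl2_mulM_eq_h9 {F : Type*} [Field F] (x y : SL(2, F)) (u c : F)
    (h00 : x.1 0 0 * u = u * y.1 0 0 + c * y.1 1 0)
    (h01 : x.1 0 0 * c + x.1 0 1 = u * y.1 0 1 + c * y.1 1 1)
    (h10 : x.1 1 0 * u = y.1 1 0) (h11 : x.1 1 0 * c + x.1 1 1 = y.1 1 1) :
    x.1 * !![u, c; 0, 1] = !![u, c; 0, 1] * y.1 := by
  ext i j
  fin_cases i <;> fin_cases j
  · simp [Matrix.mul_apply, Fin.sum_univ_two]; linear_combination h00
  · simp [Matrix.mul_apply, Fin.sum_univ_two]; linear_combination h01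
  · simp [Matrix.mul_apply, Fin.sum_univ_two]; linear_combination h10
  · simp [Matrix.mul_apply, Fin.sum_univ_two]; linear_combination h11

/-- the final structure theorem in normal form. -/
theorem sl2_pprime_final_h9 {F : Type*} [Field F] [Fintype F] {p : ℕ} [Fact p.Prime] [CharP F p]
    (hp : p ≠ 2) (u : F) (hu : u ≠ 0) (a : SL(2, F)) (ha : a = sl2E_h9 u)
    (R : Subgroup SL(2, F)) (hR : (Nat.card R).Coprime p)
    (h1 : ∀ x ∈ R, a * x * a⁻¹ ∈ R) (h2 : ∀ x ∈ R, a⁻¹ * x * a ∈ R)
    (hnt : ∃ x ∈ R, a * x * a⁻¹ ≠ x) :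
    p = 3 ∧ Nonempty (R ≃* QuaternionGroup 2) ∧
      Nonempty (↥(R ⊔ Subgroup.zpowers a) ≃* SL(2, ZMod 3)) := by
  classical
  obtain ⟨hp3, w, hwR, hsq, hanti, hall⟩ := sl2_pprime_norm_h9 hp u hu a ha R hR h1 h2 hnt
  subst hp3
  have h2F : (2 : F) ≠ 0 := by
    intro h
    have : ((2 : ℕ) : F) = 0 := by exact_mod_cast h
    rw [CharP.cast_eq_zero_iff F 3] at this
    omega
  have h3F : (3 : F) = 0 := by
    have : ((3 : ℕ) : F) = 0 := CharP.cast_eq_zero F 3
    exact_mod_cast this
  have hw'R : a * w * a⁻¹ ∈ R := h1 w hwR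
  have hsq' : (a * w * a⁻¹) * (a * w * a⁻¹) = -1 := by
    have : a * w * a⁻¹ * (a * w * a⁻¹) = a * (w * w) * a⁻¹ := by group
    rw [this, hsq]; simp
  have hwi : w⁻¹ = -w := by
    rw [inv_eq_iff_mul_eq_one, mul_neg, hsq, neg_neg]
  have hw2 : w ^ 2 = -1 := by rw [sq, hsq]
  have hord : orderOf w = 4 := by
    have := orderOf_eq_prime_pow (x := w) (p := 2) (n := 1) (by
      rw [pow_one, hw2]; exact sl2_neg_one_ne_one_h9 h2F) (by
      show w ^ 2 ^ 2 = 1
      rw [pow_two, pow_mul, hw2]; simp)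
    simpa using this
  have hnot : a * w * a⁻¹ ∉ Subgroup.zpowers w := by
    intro hmem
    obtain ⟨k, hk⟩ := Subgroup.mem_zpowers_iff.mp hmem
    have hc : w * (a * w * a⁻¹) = (a * w * a⁻¹) * w := by
      rw [← hk]
      exact ((Commute.refl w).zpow_right k).eq
    rw [hc] at hanti
    exact sl2_ne_neg_h9 h2F _ hanti
  -- card R = 8
  have hcard8 : Nat.card R = 8 := by
    have hle : Nat.card R ≤ 8 := by
      let f : Fin 8 → SL(2, F) := ![1, -1, w, -w, a * w * a⁻¹, -(a * w * a⁻¹),
        w * (a * w * a⁻¹), -(w * (a * w * a⁻¹))]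
      have hsub : (R : Set SL(2, F)) ⊆ ↑(Finset.univ.image f) := by
        intro r hr
        rw [Finset.coe_image, Finset.coe_univ, Set.image_univ]
        rcases hall r hr with h | h | h | h | h | h | h | h
        · exact ⟨0, h.symm⟩
        · exact ⟨1, h.symm⟩
        · exact ⟨2, h.symm⟩
        · exact ⟨3, h.symm⟩
        · exact ⟨4, h.symm⟩
        · exact ⟨5, h.symm⟩
        · exact ⟨6, h.symm⟩
        · exact ⟨7, h.symm⟩
      calc Nat.card R = (R : Set SL(2, F)).ncard := rfl
        _ ≤ (↑(Finset.univ.image f) : Set SL(2, F)).ncard :=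
            Set.ncard_le_ncard hsub (Finset.finite_toSet _)
        _ = (Finset.univ.image f).card := Set.ncard_coe_finset _
        _ ≤ (Finset.univ : Finset (Fin 8)).card := Finset.card_image_le
        _ = 8 := by simp
    have hZw : Subgroup.zpowers w ≤ R := by
      rw [Subgroup.zpowers_le]; exact hwR
    have h4 : Nat.card (Subgroup.zpowers w) = 4 := by rw [Nat.card_zpowers, hord]
    have hdvd : 4 ∣ Nat.card R := by
      rw [← h4]; exact Subgroup.card_dvd_of_le hZw
    have hne : Nat.card R ≠ 4 := by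
      intro h
      have : Subgroup.zpowers w = R := by
        apply Subgroup.eq_of_le_of_card_ge hZw
        rw [h4, h]
      apply hnot
      rw [this]; exact hw'R
    have hpos : 0 < Nat.card R := Nat.card_pos
    obtain ⟨m, hm⟩ := hdvd
    omega
  refine ⟨rfl, ?_, ?_⟩
  · -- quaternion
    refine quaternion_equiv_of 2 (⟨w, hwR⟩ : R) ⟨a * w * a⁻¹, hw'R⟩ ?_ ?_ ?_ ?_ ?_
    · rw [← Subgroup.orderOf_coe]; exact hord
    · apply Subtype.ext
      show (a * w * a⁻¹) * (a * w * a⁻¹) = w ^ 2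
      rw [hsq', hw2]
    · apply Subtype.ext
      show (a * w * a⁻¹) * w * (a * w * a⁻¹)⁻¹ = w⁻¹
      rw [mul_inv_eq_iff_eq_mul, hwi, neg_mul, hanti, neg_neg]
    · intro hmem
      apply hnot
      obtain ⟨k, hk⟩ := Subgroup.mem_zpowers_iff.mp hmem
      refine Subgroup.mem_zpowers_iff.mpr ⟨k, ?_⟩
      have := congrArg Subtype.val hk
      simpa using this
    · rw [hcard8]
  · -- SL(2,3)
    have hanti' := hanti
    rw [ha] at hanti'
    have hγ := sl2_anti_conj_E_h9 u w hsq hanti'
    have htr := (sl2_sq_eq_neg_one_iff_h9 w).mp hsq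
    obtain ⟨-, hdet⟩ := sl2_entries_h9 w
    have h11 : w.1 1 1 = -w.1 0 0 := by linear_combination htr
    rw [h11] at hdet
    set ε := u * w.1 1 0 with hε
    have hε2 : ε * ε = 1 := by
      rw [hε]; linear_combination hγ - h3F
    have hγ0 : w.1 1 0 ≠ 0 := by
      intro h0
      rw [hε, h0, mul_zero, mul_zero] at hε2
      exact zero_ne_one hε2
    set c := ε * w.1 0 0 * u with hc
    let M : Matrix (Fin 2) (Fin 2) F := !![u, c; 0, 1]
    let N : Matrix (Fin 2) (Fin 2) F := !![u⁻¹, -(u⁻¹ * c); 0, 1]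
    have hMN : M * N = 1 := by
      ext i j
      fin_cases i <;> fin_cases j <;> simp [M, N, Matrix.mul_apply, Fin.sum_univ_two, hu]
    have hNM : N * M = 1 := by
      ext i j
      fin_cases i <;> fin_cases j <;> simp [M, N, Matrix.mul_apply, Fin.sum_univ_two, hu]
    let f : ZMod 3 →+* F := ZMod.castHom (dvd_refl 3) F
    let ψ : SL(2, ZMod 3) →* SL(2, F) :=
      (sl2ConjM_h9 M N hMN hNM).comp (Matrix.SpecialLinearGroup.map f)
    have hψinj : Function.Injective ψ :=
      (sl2ConjM_injective_h9 M N hMN hNM).comp (sl2_map_injective_h9 f f.injective)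
    have haψ : a ∈ ψ.range := by
      refine ⟨sl2E_h9 1, ?_⟩
      show sl2ConjM_h9 M N hMN hNM (Matrix.SpecialLinearGroup.map f (sl2E_h9 1)) = a
      apply sl2ConjM_eq_of_h9
      obtain ⟨a00, a01, a10, a11⟩ := sl2E_entries_h9 u
      obtain ⟨b00, b01, b10, b11⟩ := sl2E_entries_h9 (1 : ZMod 3)
      rw [ha]
      ext i j
      fin_cases i <;> fin_cases j <;>
        simp [M, Matrix.mul_apply, Fin.sum_univ_two, sl2_map_entry_h9, a00, a01, a10, a11,
          b00, b01, b10, b11]
      ring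
    have hwψ : w ∈ ψ.range := by
      have hβ : w.1 0 0 * c + w.1 0 1 = -(u * ε) := by
        apply mul_right_cancel₀ hγ0
        rw [hc, hε]
        linear_combination (w.1 0 0 ^ 2 + 1) * hγ - hdet - (w.1 0 0 ^ 2 + 1) * h3F
      have hε' : ε = 1 ∨ ε = -1 := by
        have : (ε - 1) * (ε + 1) = 0 := by linear_combination hε2
        rcases mul_eq_zero.mp this with h | h
        · left; linear_combination h
        · right; linear_combination h
      obtain ⟨j00, j01, j10, j11⟩ := sl2J_entries_h9 (ZMod 3)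
      rcases hε' with he | he
      · refine ⟨sl2J_h9 (ZMod 3), ?_⟩
        show sl2ConjM_h9 M N hMN hNM (Matrix.SpecialLinearGroup.map f (sl2J_h9 _)) = w
        apply sl2ConjM_eq_of_h9
        apply sl2_mulM_eq_h9
        · rw [sl2_map_entry_h9, sl2_map_entry_h9, j00, j10, map_zero, map_one, hc, he]; ring
        · rw [sl2_map_entry_h9, sl2_map_entry_h9, j01, j11, map_zero, map_neg, map_one, hβ, he]
          ring
        · rw [sl2_map_entry_h9, j10, map_one]; linear_combination he - hε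
        · rw [sl2_map_entry_h9, j11, map_zero, h11, hc]
          have : w.1 1 0 * (ε * w.1 0 0 * u) = ε * ε * w.1 0 0 := by rw [hε]; ring
          rw [this, hε2]; ring
      · obtain ⟨n00, n01, n10, n11⟩ := sl2_neg_entries_h9 (sl2J_h9 (ZMod 3))
        refine ⟨-sl2J_h9 (ZMod 3), ?_⟩
        show sl2ConjM_h9 M N hMN hNM (Matrix.SpecialLinearGroup.map f (-sl2J_h9 _)) = w
        apply sl2ConjM_eq_of_h9
        apply sl2_mulM_eq_h9
        · rw [sl2_map_entry_h9, sl2_map_entry_h9, n00, n10, j00, j10, map_neg, map_neg, map_zero,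
            map_one, hc, he]; ring
        · rw [sl2_map_entry_h9, sl2_map_entry_h9, n01, n11, j01, j11, map_neg, map_neg, map_neg,
            map_zero, map_one, hβ, he]
          ring
        · rw [sl2_map_entry_h9, n10, j10, map_neg, map_one]; linear_combination he - hε
        · rw [sl2_map_entry_h9, n11, j11, map_neg, map_zero, h11, hc]
          have : w.1 1 0 * (ε * w.1 0 0 * u) = ε * ε * w.1 0 0 := by rw [hε]; ring
          rw [this, hε2]; ring
    have hw'ψ : a * w * a⁻¹ ∈ ψ.range :=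
      ψ.range.mul_mem (ψ.range.mul_mem haψ hwψ) (ψ.range.inv_mem haψ)
    have hnegψ : (-1 : SL(2, F)) ∈ ψ.range := by
      rw [← hsq]; exact ψ.range.mul_mem hwψ hwψ
    have hneg : ∀ x ∈ ψ.range, -x ∈ ψ.range := by
      intro x hx
      have : -x = (-1) * x := by simp
      rw [this]; exact ψ.range.mul_mem hnegψ hx
    have hRT : R ≤ ψ.range := by
      intro r hr
      rcases hall r hr with h | h | h | h | h | h | h | h
      · rw [h]; exact ψ.range.one_mem
      · rw [h]; exact hnegψ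
      · rw [h]; exact hwψ
      · rw [h]; exact hneg _ hwψ
      · rw [h]; exact hw'ψ
      · rw [h]; exact hneg _ hw'ψ
      · rw [h]; exact ψ.range.mul_mem hwψ hw'ψ
      · rw [h]; exact hneg _ (ψ.range.mul_mem hwψ hw'ψ)
    have hHT : R ⊔ Subgroup.zpowers a ≤ ψ.range :=
      sup_le hRT (by rw [Subgroup.zpowers_le]; exact haψ)
    have hTcard : Nat.card ψ.range = 24 := by
      rw [← sl2_card_three_h9]
      exact Nat.card_congr (MonoidHom.ofInjective hψinj).toEquiv.symm
    have hHcard : 24 ≤ Nat.card ↥(R ⊔ Subgroup.zpowers a) := by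
      have h8 : 8 ∣ Nat.card ↥(R ⊔ Subgroup.zpowers a) := by
        rw [← hcard8]; exact Subgroup.card_dvd_of_le le_sup_left
      have h3 : 3 ∣ Nat.card ↥(R ⊔ Subgroup.zpowers a) := by
        have : Nat.card (Subgroup.zpowers a) = 3 := by
          rw [Nat.card_zpowers]
          apply orderOf_eq_prime
          · rw [ha, sl2E_pow_h9]
            have : ((3 : ℕ) : F) * u = 0 := by rw [CharP.cast_eq_zero F 3, zero_mul]
            rw [this, sl2E_zero_h9]
          · rw [ha]; intro h; exact hu ((sl2E_eq_one_iff_h9 u).mp h)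
        rw [← this]; exact Subgroup.card_dvd_of_le le_sup_right
      have := Nat.Coprime.mul_dvd_of_dvd_of_dvd (by norm_num : Nat.Coprime 8 3) h8 h3
      exact Nat.le_of_dvd Nat.card_pos this
    have hEq : R ⊔ Subgroup.zpowers a = ψ.range :=
      Subgroup.eq_of_le_of_card_ge hHT (by rw [hTcard]; exact hHcard)
    exact ⟨(MulEquiv.subgroupCongr hEq).trans (MonoidHom.ofInjective hψinj).symm⟩
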