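import Mathlib
import Cfsg.Agent.Helper9.SL2l
import Cfsg.Agent.Helper9.SL2h

/-!
# SL(2, F) in characteristic 2: A₄ subgroups (helper9)
-/

set_option autoImplicit false
open scoped MatrixGroups

namespace Cfsg.Agent.Helper9

theorem sl2_neg_one_char_two_h9 {F : Type*} [Field F] (h2 : (2 : F) = 0) :
    (-1 : SL(2, F)) = 1 := by
  obtain ⟨n00, n01, n10, n11⟩ := sl2_neg_entries_h9 (1 : SL(2, F))
  obtain ⟨o00, o01, o10, o11⟩ := sl2_one_entries_h9 (F := F)
  apply sl2_ext_h9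
  · rw [n00, o00]; linear_combination (-1 : F) * h2
  · rw [n01, o01]; ring
  · rw [n10, o10]; ring
  · rw [n11, o11]; linear_combination (-1 : F) * h2

theorem sl2_neg_char_two_h9 {F : Type*} [Field F] (h2 : (2 : F) = 0) (x : SL(2, F)) :
    -x = x := by
  have : -x = (-1) * x := by simp
  rw [this, sl2_neg_one_char_two_h9 h2, one_mul]

theorem psl2_mk_inj_char_two_h9 {F : Type*} [Field F] (h2 : (2 : F) = 0) (x y : SL(2, F)) :
    (QuotientGroup.mk x : Matrix.ProjectiveSpecialLinearGroup (Fin 2) F) = QuotientGroup.mk y ↔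
      x = y := by
  rw [psl2_mk_eq_iff_h9, sl2_neg_char_two_h9 h2, or_self]

/-- the obstruction to `A₄` in characteristic 2: a cube root of unity. -/
theorem sl2_char_two_cube_root_h9 {F : Type*} [Field F] (h2 : (2 : F) = 0) (T G : SL(2, F))
    (hT : T * T = 1) (hT1 : T ≠ 1) (hG : G * G * G = 1) (hS : G * T * G⁻¹ ≠ T)
    (hcomm : T * (G * T * G⁻¹) = (G * T * G⁻¹) * T) : ∃ l : F, l ^ 3 = 1 ∧ l ≠ 1 := by
  obtain ⟨o00, o01, o10, o11⟩ := sl2_one_entries_h9 (F := F)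
  -- trace of T
  have htr : T.1 0 0 + T.1 1 1 = 2 := by
    rw [h2]
    by_contra hne
    obtain ⟨m00, m01, m10, m11⟩ := sl2_mul_entries_h9 T T
    have e00 : (T * T).1 0 0 = (1 : SL(2, F)).1 0 0 := by rw [hT]
    have e01 : (T * T).1 0 1 = (1 : SL(2, F)).1 0 1 := by rw [hT]
    have e10 : (T * T).1 1 0 = (1 : SL(2, F)).1 1 0 := by rw [hT]
    have e11 : (T * T).1 1 1 = (1 : SL(2, F)).1 1 1 := by rw [hT]
    rw [m00, o00] at e00
    rw [m01, o01] at e01
    rw [m10, o10] at e10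
    rw [m11, o11] at e11
    have h01 : T.1 0 1 = 0 := by
      have : T.1 0 1 * (T.1 0 0 + T.1 1 1) = 0 := by linear_combination e01
      rcases mul_eq_zero.mp this with h | h
      · exact h
      · exact absurd h hne
    have h10 : T.1 1 0 = 0 := by
      have : T.1 1 0 * (T.1 0 0 + T.1 1 1) = 0 := by linear_combination e10
      rcases mul_eq_zero.mp this with h | h
      · exact h
      · exact absurd h hne
    rw [h01, h10] at e00 e11
    have h00 : T.1 0 0 = 1 := by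
      have : (T.1 0 0 - 1) * (T.1 0 0 - 1) = 0 := by linear_combination e00 - (T.1 0 0 - 1) * h2
      linear_combination mul_self_eq_zero.mp this
    have h11 : T.1 1 1 = 1 := by
      have : (T.1 1 1 - 1) * (T.1 1 1 - 1) = 0 := by linear_combination e11 - (T.1 1 1 - 1) * h2
      linear_combination mul_self_eq_zero.mp this
    apply hT1
    apply sl2_ext_h9
    · rw [o00, h00]
    · rw [o01, h01]
    · rw [o10, h10]
    · rw [o11, h11]
  obtain ⟨P, u, hu, hTP⟩ := sl2_unip_conj_h9 T htr hT1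
  -- transport
  obtain ⟨g, hg⟩ : ∃ g : SL(2, F), g = P⁻¹ * G * P := ⟨_, rfl⟩
  obtain ⟨s, hs⟩ : ∃ s : SL(2, F), s = g * sl2E_h9 u * g⁻¹ := ⟨_, rfl⟩
  have hsG : s = P⁻¹ * (G * T * G⁻¹) * P := by rw [hs, hg, hTP]; group
  have hEu : sl2E_h9 u = P⁻¹ * T * P := by rw [hTP]; group
  have hscomm : sl2E_h9 u * s = s * sl2E_h9 u := by
    rw [hsG, hEu]
    have e1 : P⁻¹ * T * P * (P⁻¹ * (G * T * G⁻¹) * P) = P⁻¹ * (T * (G * T * G⁻¹)) * P := by group
    have e2 : P⁻¹ * (G * T * G⁻¹) * P * (P⁻¹ * T * P) = P⁻¹ * ((G * T * G⁻¹) * T) * P := by group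
    rw [e1, e2, hcomm]
  have hsne : s ≠ sl2E_h9 u := by
    intro h
    apply hS
    rw [hsG, hEu] at h
    have : G * T * G⁻¹ = P * (P⁻¹ * (G * T * G⁻¹) * P) * P⁻¹ := by group
    rw [this, h]; group
  have hg3 : g * g * g = 1 := by
    rw [hg]
    have : P⁻¹ * G * P * (P⁻¹ * G * P) * (P⁻¹ * G * P) = P⁻¹ * (G * G * G) * P := by group
    rw [this, hG]; group
  obtain ⟨s10, s00⟩ := (sl2_comm_E_iff_h9 hu s).mp hscomm
  obtain ⟨-, hdets⟩ := sl2_entries_h9 s
  rw [s10, ← s00] at hdets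
  have hs00 : s.1 0 0 = 1 := by
    have : (s.1 0 0 - 1) * (s.1 0 0 - 1) = 0 := by linear_combination hdets - (s.1 0 0 - 1) * h2
    linear_combination mul_self_eq_zero.mp this
  obtain ⟨a00, a01, a10, a11⟩ := sl2E_entries_h9 u
  have hs01u : s.1 0 1 ≠ u := by
    intro h
    apply hsne
    apply sl2_ext_h9
    · rw [a00, hs00]
    · rw [a01, h]
    · rw [a10, s10]
    · rw [a11, ← s00, hs00]
  have hs010 : s.1 0 1 ≠ 0 := by
    intro h
    have hs1 : s = 1 := by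
      apply sl2_ext_h9
      · rw [o00, hs00]
      · rw [o01, h]
      · rw [o10, s10]
      · rw [o11, ← s00, hs00]
    rw [hs, mul_inv_eq_one] at hs1
    have : sl2E_h9 u = 1 := by simpa using hs1
    exact hu ((sl2E_eq_one_iff_h9 u).mp this)
  -- the relation g E(u) = s g
  have hrel : g * sl2E_h9 u = s * g := by rw [hs]; group
  obtain ⟨m00, m01, m10, m11⟩ := sl2_mul_entries_h9 g (sl2E_h9 u)
  obtain ⟨k00, k01, k10, k11⟩ := sl2_mul_entries_h9 s g
  have e00 : (g * sl2E_h9 u).1 0 0 = (s * g).1 0 0 := by rw [hrel]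
  have e01 : (g * sl2E_h9 u).1 0 1 = (s * g).1 0 1 := by rw [hrel]
  rw [m00, k00, a00, a10, hs00] at e00
  rw [m01, k01, a01, a11, hs00] at e01
  have hg10 : g.1 1 0 = 0 := by
    have : s.1 0 1 * g.1 1 0 = 0 := by linear_combination -e00
    rcases mul_eq_zero.mp this with h | h
    · exact absurd h hs010
    · exact h
  obtain ⟨-, hdetg⟩ := sl2_entries_h9 g
  rw [hg10] at hdetg
  refine ⟨g.1 0 0, ?_, ?_⟩
  · obtain ⟨p00, p01, p10, p11⟩ := sl2_mul_entries_h9 (g * g) g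
    obtain ⟨q00, q01, q10, q11⟩ := sl2_mul_entries_h9 g g
    have e : (g * g * g).1 0 0 = (1 : SL(2, F)).1 0 0 := by rw [hg3]
    rw [p00, q00, hg10, o00] at e
    linear_combination e
  · intro h1
    apply hs01u
    rw [h1] at e01 hdetg
    have hg11 : g.1 1 1 = 1 := by linear_combination hdetg
    rw [hg11] at e01
    linear_combination -e01

theorem sl2_inv_entries_h9 {F : Type*} [Field F] (x : SL(2, F)) :
    (x⁻¹).1 0 0 = x.1 1 1 ∧ (x⁻¹).1 0 1 = -x.1 0 1 ∧ (x⁻¹).1 1 0 = -x.1 1 0 ∧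
      (x⁻¹).1 1 1 = x.1 0 0 := by
  refine ⟨?_, ?_, ?_, ?_⟩ <;>
    simp [Matrix.SpecialLinearGroup.coe_inv, Matrix.adjugate_fin_two]

theorem add_pow_four_char_two_h9 {F : Type*} [Field F] (h2 : (2 : F) = 0) (s t : F) :
    (s + t) ^ 4 = s ^ 4 + t ^ 4 := by
  linear_combination (2 * s ^ 3 * t + 3 * s ^ 2 * t ^ 2 + 2 * s * t ^ 3) * h2

/-- the `F₄`-rational points of `SL(2, F)` in characteristic 2. -/
def sl2F4_h9 {F : Type*} [Field F] (h2 : (2 : F) = 0) : Subgroup SL(2, F) where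
  carrier := {x | (x.1 0 0) ^ 4 = x.1 0 0 ∧ (x.1 0 1) ^ 4 = x.1 0 1 ∧
    (x.1 1 0) ^ 4 = x.1 1 0 ∧ (x.1 1 1) ^ 4 = x.1 1 1}
  mul_mem' := by
    rintro x y ⟨x00, x01, x10, x11⟩ ⟨y00, y01, y10, y11⟩
    obtain ⟨m00, m01, m10, m11⟩ := sl2_mul_entries_h9 x y
    refine ⟨?_, ?_, ?_, ?_⟩
    · rw [m00, add_pow_four_char_two_h9 h2, mul_pow, mul_pow, x00, y00, x01, y10]
    · rw [m01, add_pow_four_char_two_h9 h2, mul_pow, mul_pow, x00, y01, x01, y11]
    · rw [m10, add_pow_four_char_two_h9 h2, mul_pow, mul_pow, x10, y00, x11, y10]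
    · rw [m11, add_pow_four_char_two_h9 h2, mul_pow, mul_pow, x10, y01, x11, y11]
  one_mem' := by
    obtain ⟨o00, o01, o10, o11⟩ := sl2_one_entries_h9 (F := F)
    refine ⟨?_, ?_, ?_, ?_⟩
    · rw [o00]; ring
    · rw [o01]; ring
    · rw [o10]; ring
    · rw [o11]; ring
  inv_mem' := by
    rintro x ⟨x00, x01, x10, x11⟩
    obtain ⟨i00, i01, i10, i11⟩ := sl2_inv_entries_h9 x
    refine ⟨?_, ?_, ?_, ?_⟩
    · rw [i00, x11]
    · rw [i01]; linear_combination x01 + x.1 0 1 * h2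
    · rw [i10]; linear_combination x10 + x.1 1 0 * h2
    · rw [i11, x00]

theorem mem_sl2F4_h9 {F : Type*} [Field F] (h2 : (2 : F) = 0) (x : SL(2, F)) :
    x ∈ sl2F4_h9 h2 ↔ (x.1 0 0) ^ 4 = x.1 0 0 ∧ (x.1 0 1) ^ 4 = x.1 0 1 ∧
      (x.1 1 0) ^ 4 = x.1 1 0 ∧ (x.1 1 1) ^ 4 = x.1 1 1 := Iff.rfl

theorem sl2E_mem_F4_h9 {F : Type*} [Field F] (h2 : (2 : F) = 0) (t : F) (ht : t ^ 4 = t) :
    sl2E_h9 t ∈ sl2F4_h9 h2 := by
  obtain ⟨a00, a01, a10, a11⟩ := sl2E_entries_h9 t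
  refine ⟨?_, ?_, ?_, ?_⟩
  · rw [a00]; ring
  · rw [a01]; exact ht
  · rw [a10]; ring
  · rw [a11]; ring

/-- `A₄ ≤ SL(2, F)` in characteristic 2 when `F` has a primitive cube root of unity. -/
theorem sl2_char_two_A4_h9 {F : Type*} [Field F] [Fintype F] (h2 : (2 : F) = 0) (ω : F)
    (hω3 : ω ^ 3 = 1) (hω1 : ω ≠ 1) :
    ∃ H : Subgroup SL(2, F), Nonempty (H ≃* alternatingGroup (Fin 4)) := by
  classical
  have hω : ω ^ 2 + ω + 1 = 0 := by
    have : (ω - 1) * (ω ^ 2 + ω + 1) = 0 := by linear_combination hω3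
    rcases mul_eq_zero.mp this with h | h
    · exact absurd (sub_eq_zero.mp h) hω1
    · exact h
  have hω0 : ω ≠ 0 := by
    rintro rfl
    norm_num at hω3
  have hω4 : ω ^ 4 = ω := by linear_combination ω * hω3
  obtain ⟨D, hD⟩ : ∃ D : SL(2, F), D.1 = !![ω, 0; 0, ω ^ 2] :=
    ⟨⟨_, by rw [Matrix.det_fin_two_of]; linear_combination hω3⟩, rfl⟩
  have d00 : D.1 0 0 = ω := by rw [hD]; rfl
  have d01 : D.1 0 1 = 0 := by rw [hD]; rfl
  have d10 : D.1 1 0 = 0 := by rw [hD]; rfl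
  have d11 : D.1 1 1 = ω ^ 2 := by rw [hD]; rfl
  have hDmem : D ∈ sl2F4_h9 h2 := by
    refine ⟨?_, ?_, ?_, ?_⟩
    · rw [d00]; exact hω4
    · rw [d01]; ring
    · rw [d10]; ring
    · rw [d11]; linear_combination (ω ^ 5 + ω ^ 2) * hω3
  obtain ⟨a00, a01, a10, a11⟩ := sl2E_entries_h9 (1 : F)
  obtain ⟨b00, b01, b10, b11⟩ := sl2E_entries_h9 ω
  obtain ⟨o00, o01, o10, o11⟩ := sl2_one_entries_h9 (F := F)
  let G₀ := sl2F4_h9 h2
  let e1 : G₀ := ⟨sl2E_h9 1, sl2E_mem_F4_h9 h2 1 (by ring)⟩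
  let eω : G₀ := ⟨sl2E_h9 ω, sl2E_mem_F4_h9 h2 ω hω4⟩
  let dd : G₀ := ⟨D, hDmem⟩
  have he1sq : e1 * e1 = 1 := by
    apply Subtype.ext
    show sl2E_h9 (1 : F) * sl2E_h9 1 = 1
    rw [sl2E_mul_h9, (sl2E_eq_one_iff_h9 _).mpr]; linear_combination h2
  have heωsq : eω * eω = 1 := by
    apply Subtype.ext
    show sl2E_h9 ω * sl2E_h9 ω = 1
    rw [sl2E_mul_h9, (sl2E_eq_one_iff_h9 _).mpr]; linear_combination ω * h2
  have he1ne : e1 ≠ 1 := by
    intro h
    have : sl2E_h9 (1 : F) = 1 := congrArg Subtype.val h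
    exact one_ne_zero ((sl2E_eq_one_iff_h9 _).mp this)
  have heωne : eω ≠ 1 := by
    intro h
    have : sl2E_h9 ω = 1 := congrArg Subtype.val h
    exact hω0 ((sl2E_eq_one_iff_h9 _).mp this)
  have hne : e1 ≠ eω := by
    intro h
    have : sl2E_h9 (1 : F) = sl2E_h9 ω := congrArg Subtype.val h
    have h' : (sl2E_h9 (1 : F)).1 0 1 = (sl2E_h9 ω).1 0 1 := by rw [this]
    rw [a01, b01] at h'
    exact hω1 h'.symm
  have hcomm : e1 * eω = eω * e1 := by
    apply Subtype.ext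
    show sl2E_h9 (1 : F) * sl2E_h9 ω = sl2E_h9 ω * sl2E_h9 1
    rw [sl2E_mul_h9, sl2E_mul_h9, add_comm]
  have ho1 : orderOf e1 = 2 := orderOf_eq_prime (by rw [sq]; exact he1sq) he1ne
  have hoω : orderOf eω = 2 := orderOf_eq_prime (by rw [sq]; exact heωsq) heωne
  obtain ⟨V, hV, h1V, hωV⟩ := exists_klein_of_comm_invols_h9 e1 eω ho1 hoω hne hcomm
  haveI := hV
  haveI : Finite V := Nat.finite_of_card_ne_zero (by rw [hV.card_four]; norm_num)
  have helems := klein_elems_h9 V e1 eω h1V hωV he1ne heωne hne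
  have hC : Subgroup.centralizer (V : Set G₀) ≤ V := by
    intro x hx
    have c1 := Subgroup.mem_centralizer_iff.mp hx e1 h1V
    have c1' : sl2E_h9 (1 : F) * x.1 = x.1 * sl2E_h9 1 := congrArg Subtype.val c1
    obtain ⟨x10, x00⟩ := (sl2_comm_E_iff_h9 one_ne_zero x.1).mp c1'
    obtain ⟨-, hdet⟩ := sl2_entries_h9 x.1
    rw [x10, ← x00] at hdet
    have hx00 : x.1.1 0 0 = 1 := by
      have : (x.1.1 0 0 - 1) * (x.1.1 0 0 - 1) = 0 := by
        linear_combination hdet - (x.1.1 0 0 - 1) * h2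
      linear_combination mul_self_eq_zero.mp this
    have hτ : (x.1.1 0 1) ^ 4 = x.1.1 0 1 := x.2.2.1
    have hcases : x.1.1 0 1 = 0 ∨ x.1.1 0 1 = 1 ∨ x.1.1 0 1 = ω ∨ x.1.1 0 1 = 1 + ω := by
      have h1 : x.1.1 0 1 * ((x.1.1 0 1 - 1) * ((x.1.1 0 1) ^ 2 + x.1.1 0 1 + 1)) = 0 := by
        linear_combination hτ
      rcases mul_eq_zero.mp h1 with h | h
      · exact Or.inl h
      rcases mul_eq_zero.mp h with h | h
      · exact Or.inr (Or.inl (sub_eq_zero.mp h))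
      · have h3 : (x.1.1 0 1 - ω) * (x.1.1 0 1 + ω + 1) = 0 := by
          linear_combination h - hω
        rcases mul_eq_zero.mp h3 with h | h
        · exact Or.inr (Or.inr (Or.inl (sub_eq_zero.mp h)))
        · right; right; right
          linear_combination h - (ω + 1) * h2
    have hxform : ∀ t : F, x.1.1 0 1 = t → x.1 = sl2E_h9 t := by
      intro t ht
      obtain ⟨c00, c01, c10, c11⟩ := sl2E_entries_h9 t
      apply sl2_ext_h9
      · rw [c00, hx00]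
      · rw [c01, ht]
      · rw [c10, x10]
      · rw [c11, ← x00, hx00]
    rcases hcases with h | h | h | h
    · have : x = 1 := by
        apply Subtype.ext
        rw [hxform 0 h, sl2E_zero_h9]; rfl
      rw [this]; exact V.one_mem
    · have : x = e1 := Subtype.ext (hxform 1 h)
      rw [this]; exact h1V
    · have : x = eω := Subtype.ext (hxform ω h)
      rw [this]; exact hωV
    · have : x = e1 * eω := by
        apply Subtype.ext
        show x.1 = sl2E_h9 1 * sl2E_h9 ω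
        rw [hxform _ h, sl2E_mul_h9]
      rw [this]; exact V.mul_mem h1V hωV
  -- normalizer
  have hd1 : dd * e1 * dd⁻¹ = e1 * eω := by
    rw [mul_inv_eq_iff_eq_mul]
    apply Subtype.ext
    show D * sl2E_h9 1 = sl2E_h9 1 * sl2E_h9 ω * D
    rw [sl2E_mul_h9]
    obtain ⟨c00, c01, c10, c11⟩ := sl2E_entries_h9 (1 + ω)
    obtain ⟨m00, m01, m10, m11⟩ := sl2_mul_entries_h9 D (sl2E_h9 1)
    obtain ⟨k00, k01, k10, k11⟩ := sl2_mul_entries_h9 (sl2E_h9 (1 + ω)) D
    apply sl2_ext_h9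
    · rw [m00, k00, a00, a10, c00, c01, d00, d10]; ring
    · rw [m01, k01, a01, a11, c00, c01, d00, d01, d11]
      linear_combination (-1 : F) * hω3 - hω + ω * h2
    · rw [m10, k10, a00, a10, c10, c11, d00, d10]; ring
    · rw [m11, k11, a01, a11, c10, c11, d10, d01, d11]; ring
  have hdω : dd * eω * dd⁻¹ = e1 := by
    rw [mul_inv_eq_iff_eq_mul]
    apply Subtype.ext
    show D * sl2E_h9 ω = sl2E_h9 1 * D
    obtain ⟨m00, m01, m10, m11⟩ := sl2_mul_entries_h9 D (sl2E_h9 ω)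
    obtain ⟨k00, k01, k10, k11⟩ := sl2_mul_entries_h9 (sl2E_h9 1) D
    apply sl2_ext_h9
    · rw [m00, k00, b00, b10, a00, a01, d00, d10]; ring
    · rw [m01, k01, b01, b11, a00, a01, d00, d01, d11]; ring
    · rw [m10, k10, b00, b10, a10, a11, d00, d10]; ring
    · rw [m11, k11, b01, b11, a10, a11, d10, d01, d11]; ring
  have hdN : dd ∈ Subgroup.normalizer (V : Set G₀) := by
    apply mem_normalizer_of_conj_mem_h9
    intro x hx
    rcases helems x hx with h | h | h | h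
    · rw [h]; simp
    · rw [h, hd1]; exact V.mul_mem h1V hωV
    · rw [h, hdω]; exact h1V
    · rw [h]
      have : dd * (e1 * eω) * dd⁻¹ = (dd * e1 * dd⁻¹) * (dd * eω * dd⁻¹) := by group
      rw [this, hd1, hdω]; exact V.mul_mem (V.mul_mem h1V hωV) h1V
  have hdd : orderOf dd = 3 := by
    apply orderOf_eq_prime
    · apply Subtype.ext
      show D ^ 3 = 1
      rw [pow_succ, pow_succ, pow_one]
      obtain ⟨m00, m01, m10, m11⟩ := sl2_mul_entries_h9 (D * D) D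
      obtain ⟨k00, k01, k10, k11⟩ := sl2_mul_entries_h9 D D
      apply sl2_ext_h9
      · rw [m00, k00, k01, d00, d01, d10, o00]; linear_combination hω3
      · rw [m01, k00, k01, d00, d01, d11, o01]; ring
      · rw [m10, k10, k11, d00, d10, d11, o10]; ring
      · rw [m11, k10, k11, d01, d10, d11, o11]; linear_combination (ω ^ 3 + 1) * hω3
    · intro h
      have : D = 1 := congrArg Subtype.val h
      have h' : D.1 0 0 = (1 : SL(2, F)).1 0 0 := by rw [this]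
      rw [d00, o00] at h'
      exact hω1 h'
  have h3 : 3 ∣ Nat.card (Subgroup.normalizer (V : Set G₀)) := by
    have := orderOf_dvd_natCard (⟨dd, hdN⟩ : Subgroup.normalizer (V : Set G₀))
    rwa [Subgroup.orderOf_mk, hdd] at this
  obtain ⟨H, ⟨e⟩⟩ := (klein_ambient_h9 V hC h3).1
  exact ⟨H.map G₀.subtype,
    ⟨(H.equivMapOfInjective G₀.subtype (Subgroup.subtype_injective _)).symm.trans e⟩⟩
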