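import Mathlib
import Cfsg.Agent.Helper9.SL2m
import Cfsg.Agent.Helper9.SL2k
import Cfsg.Agent.S0243

/-!
# Orders: |PSL(2, q)| for q odd (helper9)
-/

set_option autoImplicit false
open scoped MatrixGroups

namespace Cfsg.Agent.Helper9

theorem psl2_card_odd_h9 {F : Type*} [Field F] [Fintype F] (hodd : Fintype.card F % 2 = 1) :
    ∃ r : ℕ, Fintype.card F = r + 1 ∧
      2 * Nat.card (Matrix.ProjectiveSpecialLinearGroup (Fin 2) F) = r * (r + 1) * (r + 2) := by
  have h1 : 1 < Fintype.card F := Fintype.one_lt_card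
  obtain ⟨r, hr⟩ : ∃ r, Fintype.card F = r + 1 := ⟨Fintype.card F - 1, by omega⟩
  refine ⟨r, hr, ?_⟩
  have h := Cfsg.Agent.S0243.result (F := F) (q := r + 1) hr 2 (le_refl 2)
  rw [Fin.prod_univ_two] at h
  simp only [Fin.val_zero, Fin.val_one, pow_zero, pow_one, Nat.add_sub_cancel] at h
  have hg : Nat.gcd 2 r = 2 := Nat.gcd_eq_left (by omega)
  rw [hg] at h
  have e1 : (r + 1) ^ 2 - 1 = r * (r + 2) := by
    have : (r + 1) ^ 2 = r * (r + 2) + 1 := by ring
    omega
  have e2 : (r + 1) ^ 2 - (r + 1) = (r + 1) * r := by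
    have : (r + 1) ^ 2 = (r + 1) * r + (r + 1) := by ring
    omega
  rw [e1, e2] at h
  have hr0 : 0 < r := by omega
  have h' : r * (2 * Nat.card (Matrix.ProjectiveSpecialLinearGroup (Fin 2) F))
      = r * (r * (r + 1) * (r + 2)) := by
    calc r * (2 * Nat.card (Matrix.ProjectiveSpecialLinearGroup (Fin 2) F))
        = 2 * (r * Nat.card (Matrix.ProjectiveSpecialLinearGroup (Fin 2) F)) := by ring
      _ = r * (r + 2) * ((r + 1) * r) := h
      _ = r * (r * (r + 1) * (r + 2)) := by ring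
  exact Nat.eq_of_mul_eq_mul_left hr0 h'

theorem two_eq_zero_of_even_card_h9 {F : Type*} [Field F] [Fintype F]
    (h : Fintype.card F % 2 = 0) : (2 : F) = 0 := by
  have h1 := FiniteField.even_card_iff_char_two.mpr h
  haveI : CharP F 2 := ringChar.of_eq h1
  have := CharP.cast_eq_zero F 2
  exact_mod_cast this

theorem two_ne_zero_of_odd_card_h9 {F : Type*} [Field F] [Fintype F]
    (h : Fintype.card F % 2 = 1) : (2 : F) ≠ 0 := by
  apply Ring.two_ne_zero
  intro h'
  have := FiniteField.even_card_iff_char_two.mp h'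
  omega

/-- no element of order 4 in `PSL(2, F)` in characteristic 2. -/
theorem psl2_char_two_no_order_four_h9 {F : Type*} [Field F] [Fintype F]
    (h : Fintype.card F % 2 = 0) (xb : Matrix.ProjectiveSpecialLinearGroup (Fin 2) F)
    (hx4 : xb ^ 4 = 1) : xb ^ 2 = 1 := by
  have h1 := FiniteField.even_card_iff_char_two.mpr h
  haveI : CharP F 2 := ringChar.of_eq h1
  haveI : Fact (Nat.Prime 2) := ⟨Nat.prime_two⟩
  have h2 : (2 : F) = 0 := two_eq_zero_of_even_card_h9 h
  obtain ⟨x, rfl⟩ := QuotientGroup.mk_surjective xb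
  have h4 : x ^ 4 = 1 := by
    apply (psl2_mk_inj_char_two_h9 h2 _ _).mp
    rw [QuotientGroup.mk_pow]; exact hx4
  have htr := sl2_unip_trace_h9 (p := 2) x 2 (by simpa using h4)
  have hxx : x * x = 1 := by
    rw [← sl2_neg_one_char_two_h9 h2]
    exact (sl2_sq_eq_neg_one_iff_h9 x).mpr (by rw [htr]; exact h2)
  rw [sq, ← QuotientGroup.mk_mul, hxx]; rfl
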