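import Mathlib
import Cfsg.Agent.Helper9.Ico5
import Cfsg.Agent.Helper9.SL2n

/-!
# `A₅` inside `PSL(2, F)` from a root of `τ² + τ - 1` (helper9)
-/

set_option autoImplicit false
open scoped MatrixGroups

namespace Cfsg.Agent.Helper9

/-- the four-group of `PSL(2, F)` spanned by the images of `J` and an element anticommuting
with `J`; it is self-centralizing. -/
theorem psl2_klein_of_T_h9 {F : Type*} [Field F] (h2 : (2 : F) ≠ 0) (y : SL(2, F))
    (hy : y ∈ sl2T_h9 F) :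
    ∃ V : Subgroup (Matrix.ProjectiveSpecialLinearGroup (Fin 2) F), IsKleinFour V ∧
      (QuotientGroup.mk (sl2J_h9 F) : Matrix.ProjectiveSpecialLinearGroup (Fin 2) F) ∈ V ∧
      (QuotientGroup.mk y : Matrix.ProjectiveSpecialLinearGroup (Fin 2) F) ∈ V ∧
      Subgroup.centralizer (V : Set (Matrix.ProjectiveSpecialLinearGroup (Fin 2) F)) ≤ V ∧
      (∀ x ∈ V, x = 1 ∨ x = QuotientGroup.mk (sl2J_h9 F) ∨ x = QuotientGroup.mk y ∨
        x = QuotientGroup.mk (sl2J_h9 F) * QuotientGroup.mk y) := by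
  classical
  obtain ⟨ho1, hne1, hcomm1⟩ := psl2_T_invol_h9 h2 y hy
  obtain ⟨V, hV, hJV, hyV⟩ := exists_klein_of_comm_invols_h9 _ _ (psl2J_order_h9 F h2) ho1
    hne1 hcomm1
  haveI := hV
  have hJ1 := ne_one_of_orderOf_two_h9 _ (psl2J_order_h9 F h2)
  have hy1 := ne_one_of_orderOf_two_h9 _ ho1
  have helems := klein_elems_h9 V _ _ hJV hyV hJ1 hy1 hne1
  obtain ⟨j00, j01, j10, j11⟩ := sl2J_entries_h9 F
  have hanti : sl2J_h9 F * y = -(y * sl2J_h9 F) := by rw [(mem_sl2T_h9 y).mp hy, neg_neg]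
  refine ⟨V, hV, hJV, hyV, ?_, helems⟩
  intro xb hxb
  obtain ⟨x, rfl⟩ := QuotientGroup.mk_surjective xb
  have c1 := Subgroup.mem_centralizer_iff.mp hxb _ hJV
  have c2 := Subgroup.mem_centralizer_iff.mp hxb _ hyV
  rw [← QuotientGroup.mk_mul, ← QuotientGroup.mk_mul, psl2_mk_eq_iff_h9] at c1 c2
  have := quat_reduce_h9 (sl2J_h9 F) y x (sl2J_sq_h9 F) (sl2T_sq_h9 y hy) hanti
    (fun r₀ e1 e2 => sl2_comm_anti_scalar_h9 h2 (sl2J_h9 F) y r₀
      (by rw [j10]; exact one_ne_zero) hanti e1 e2) c1 c2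
  rcases this with h | h | h | h | h | h | h | h
  · rw [h]; exact V.one_mem
  · rw [h, psl2_mk_neg_h9]; exact V.one_mem
  · rw [h]; exact hJV
  · rw [h, psl2_mk_neg_h9]; exact hJV
  · rw [h]; exact hyV
  · rw [h, psl2_mk_neg_h9]; exact hyV
  · rw [h, QuotientGroup.mk_mul]; exact V.mul_mem hJV hyV
  · rw [h, psl2_mk_neg_h9, QuotientGroup.mk_mul]; exact V.mul_mem hJV hyV

theorem psl2_A5_of_tau_h9 {F : Type*} [Field F] [Fintype F] (hF : Fintype.card F % 2 = 1)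
    {α β τ : F} (hc : α ^ 2 - τ * α + β ^ 2 + β + 1 = 0) (hτ : τ ^ 2 + τ - 1 = 0) :
    ∃ H : Subgroup (Matrix.ProjectiveSpecialLinearGroup (Fin 2) F),
      Nonempty (H ≃* alternatingGroup (Fin 5)) := by
  classical
  have h2 := two_ne_zero_of_odd_card_h9 hF
  have hy : icoY_h9 hc hτ ∈ sl2T_h9 F := icoY_mem_T_h9 hc hτ
  obtain ⟨V, hV, hJV, hyV, hC, helems⟩ := psl2_klein_of_T_h9 h2 _ hy
  haveI := hV
  haveI : Finite V := Nat.finite_of_card_ne_zero (by rw [hV.card_four]; norm_num)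
  obtain ⟨ho1, hne1, hcomm1⟩ := psl2_T_invol_h9 h2 _ hy
  -- notation
  obtain ⟨xb, hxb⟩ : ∃ xb : Matrix.ProjectiveSpecialLinearGroup (Fin 2) F,
      xb = QuotientGroup.mk (icoX_h9 hc) := ⟨_, rfl⟩
  obtain ⟨wb, hwb⟩ : ∃ wb : Matrix.ProjectiveSpecialLinearGroup (Fin 2) F,
      wb = QuotientGroup.mk (sl2J_h9 F) := ⟨_, rfl⟩
  obtain ⟨yb, hyb⟩ : ∃ yb : Matrix.ProjectiveSpecialLinearGroup (Fin 2) F,
      yb = QuotientGroup.mk (icoY_h9 hc hτ) := ⟨_, rfl⟩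
  obtain ⟨cb, hcb⟩ : ∃ cb : Matrix.ProjectiveSpecialLinearGroup (Fin 2) F,
      cb = QuotientGroup.mk (icoC_h9 hc hτ) := ⟨_, rfl⟩
  rw [← hwb, ← hyb] at helems hne1
  rw [← hwb] at hJV
  rw [← hyb] at hyV
  have hcJ : cb * wb * cb⁻¹ = yb := by
    rw [mul_inv_eq_iff_eq_mul, hcb, hwb, hyb, ← QuotientGroup.mk_mul, ← QuotientGroup.mk_mul,
      icoC_J_h9]
  have hcy : cb * yb * cb⁻¹ = wb * yb := by
    rw [mul_inv_eq_iff_eq_mul, hcb, hwb, hyb, ← QuotientGroup.mk_mul, ← QuotientGroup.mk_mul,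
      ← QuotientGroup.mk_mul, icoC_Y_h9]
  have hcN : cb ∈ Subgroup.normalizer
      (V : Set (Matrix.ProjectiveSpecialLinearGroup (Fin 2) F)) := by
    apply mem_normalizer_of_conj_mem_h9
    intro x hx
    rcases helems x hx with h | h | h | h
    · rw [h]; simp
    · rw [h, hcJ]; exact hyV
    · rw [h, hcy]; exact V.mul_mem hJV hyV
    · rw [h]
      have : cb * (wb * yb) * cb⁻¹ = (cb * wb * cb⁻¹) * (cb * yb * cb⁻¹) := by group
      rw [this, hcJ, hcy]; exact V.mul_mem hyV (V.mul_mem hJV hyV)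
  have hc3 : cb ^ 3 = 1 := by
    rw [hcb, ← QuotientGroup.mk_pow, icoC_pow3_h9]; rfl
  have hc1 : cb ≠ 1 := by
    intro h
    rw [h] at hcJ
    apply hne1
    rw [← hcJ]; simp
  have hcord : orderOf cb = 3 := orderOf_eq_prime hc3 hc1
  have hx5 : xb ^ 5 = 1 := by
    rw [hxb, ← QuotientGroup.mk_pow, icoX_pow5_h9 hc hτ]; rfl
  have hx1 : xb ≠ 1 := by
    intro h
    rw [hxb, show (1 : Matrix.ProjectiveSpecialLinearGroup (Fin 2) F)
      = QuotientGroup.mk (1 : SL(2, F)) from rfl, psl2_mk_eq_iff_h9] at h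
    rcases h with h | h
    · exact (icoX_ne_h9 hc).1 h
    · exact (icoX_ne_h9 hc).2 h
  haveI : Fact (Nat.Prime 5) := ⟨by norm_num⟩
  have hxord : orderOf xb = 5 := orderOf_eq_prime hx5 hx1
  -- the subgroup `T`
  obtain ⟨T, hTdef⟩ : ∃ T : Subgroup (Matrix.ProjectiveSpecialLinearGroup (Fin 2) F),
      T = Subgroup.closure {wb, cb} := ⟨_, rfl⟩
  have hJT : wb ∈ T := by rw [hTdef]; exact Subgroup.subset_closure (by simp)
  have hcT : cb ∈ T := by rw [hTdef]; exact Subgroup.subset_closure (by simp)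
  have hyT : yb ∈ T := by
    rw [← hcJ]; exact T.mul_mem (T.mul_mem hcT hJT) (T.inv_mem hcT)
  have hVT : V ≤ T := by
    intro v hv
    rcases helems v hv with h | h | h | h
    · rw [h]; exact T.one_mem
    · rw [h]; exact hJT
    · rw [h]; exact hyT
    · rw [h]; exact T.mul_mem hJT hyT
  have hTN : T ≤ Subgroup.normalizer
      (V : Set (Matrix.ProjectiveSpecialLinearGroup (Fin 2) F)) := by
    rw [hTdef, Subgroup.closure_le]
    rintro g (rfl | rfl)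
    · exact Subgroup.le_normalizer hJV
    · exact hcN
  have hT12 : Nat.card T = 12 := by
    have hle : T ≤ V ⊔ Subgroup.zpowers cb := by
      rw [hTdef, Subgroup.closure_le]
      rintro g (rfl | rfl)
      · exact Subgroup.mem_sup_left hJV
      · exact Subgroup.mem_sup_right (Subgroup.mem_zpowers _)
    have h1 := card_sup_zpowers_le_h9 V cb 3 (by norm_num) hc3 (by
      intro v hv k
      refine ⟨cb ^ k * v * (cb ^ k)⁻¹, ?_, k, by group⟩
      have hk := Subgroup.pow_mem _ hcN k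
      exact (Subgroup.mem_normalizer_iff.mp hk v).mp hv)
    rw [hV.card_four] at h1
    have h2' := Subgroup.card_le_of_le hle
    have h4 : 4 ∣ Nat.card T := by rw [← hV.card_four]; exact Subgroup.card_dvd_of_le hVT
    have h3 : 3 ∣ Nat.card T := by
      have := orderOf_dvd_natCard (⟨cb, hcT⟩ : T)
      rwa [Subgroup.orderOf_mk, hcord] at this
    have h12 : 4 * 3 ∣ Nat.card T :=
      Nat.Coprime.mul_dvd_of_dvd_of_dvd (by norm_num : Nat.Coprime 4 3) h4 h3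
    have hpos : 0 < Nat.card T := Nat.card_pos
    obtain ⟨m, hm⟩ := h12
    omega
  -- the permuting property
  have hperm : ∀ t ∈ T, ∀ k : ℕ, ∃ t' ∈ T, ∃ l : ℕ, xb ^ k * t = t' * xb ^ l := by
    apply permute_closure_h9 T xb {wb, cb} hTdef.symm
    intro g hg k
    have hk : xb ^ k = xb ^ (k % 5) := by
      conv_lhs => rw [← Nat.div_add_mod k 5, pow_add, pow_mul, hx5, one_pow, one_mul]
    rw [hk]
    have hlt : k % 5 < 5 := Nat.mod_lt _ (by norm_num)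
    generalize k % 5 = r at hlt
    rcases hg with rfl | rfl
    · interval_cases r
      · exact ⟨g, hJT, 0, by simp⟩
      · refine ⟨cb ^ 2, T.pow_mem hcT 2, 2, ?_⟩
        rw [pow_one, hxb, hwb, hcb]
        exact (psl2_mk_eq_iff_h9 (icoX_h9 hc * sl2J_h9 F)
          (icoC_h9 hc hτ ^ 2 * icoX_h9 hc ^ 2)).mpr (Or.inr (icoD_W1_h9 hc hτ))
      · refine ⟨cb, hcT, 1, ?_⟩
        rw [pow_one, hxb, hwb, hcb]
        exact (psl2_mk_eq_iff_h9 (icoX_h9 hc ^ 2 * sl2J_h9 F)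
          (icoC_h9 hc hτ * icoX_h9 hc)).mpr (Or.inl (icoD_W2_h9 hc hτ))
      · refine ⟨yb * cb, T.mul_mem hyT hcT, 4, ?_⟩
        rw [hxb, hwb, hcb, hyb]
        exact (psl2_mk_eq_iff_h9 (icoX_h9 hc ^ 3 * sl2J_h9 F)
          (icoY_h9 hc hτ * icoC_h9 hc hτ * icoX_h9 hc ^ 4)).mpr (Or.inl (icoD_W3_h9 hc hτ))
      · refine ⟨g * cb ^ 2, T.mul_mem hJT (T.pow_mem hcT 2), 3, ?_⟩
        rw [hxb, hwb, hcb]
        exact (psl2_mk_eq_iff_h9 (icoX_h9 hc ^ 4 * sl2J_h9 F)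
          (sl2J_h9 F * icoC_h9 hc hτ ^ 2 * icoX_h9 hc ^ 3)).mpr (Or.inl (icoD_W4_h9 hc hτ))
    · interval_cases r
      · exact ⟨g, hcT, 0, by simp⟩
      · refine ⟨yb * g, T.mul_mem hyT hcT, 3, ?_⟩
        rw [pow_one, hxb, hcb, hyb]
        exact (psl2_mk_eq_iff_h9 (icoX_h9 hc * icoC_h9 hc hτ)
          (icoY_h9 hc hτ * icoC_h9 hc hτ * icoX_h9 hc ^ 3)).mpr (Or.inl (icoD_C1_h9 hc hτ))
      · refine ⟨wb * g ^ 2, T.mul_mem hJT (T.pow_mem hcT 2), 2, ?_⟩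
        rw [hxb, hcb, hwb]
        exact (psl2_mk_eq_iff_h9 (icoX_h9 hc ^ 2 * icoC_h9 hc hτ)
          (sl2J_h9 F * icoC_h9 hc hτ ^ 2 * icoX_h9 hc ^ 2)).mpr (Or.inl (icoD_C2_h9 hc hτ))
      · refine ⟨wb, hJT, 4, ?_⟩
        rw [hxb, hcb, hwb]
        exact (psl2_mk_eq_iff_h9 (icoX_h9 hc ^ 3 * icoC_h9 hc hτ)
          (sl2J_h9 F * icoX_h9 hc ^ 4)).mpr (Or.inl (icoD_C3_h9 hc hτ))
      · refine ⟨g ^ 2, T.pow_mem hcT 2, 1, ?_⟩
        rw [pow_one, hxb, hcb]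
        exact (psl2_mk_eq_iff_h9 (icoX_h9 hc ^ 4 * icoC_h9 hc hτ)
          (icoC_h9 hc hτ ^ 2 * icoX_h9 hc)).mpr (Or.inr (icoD_C4_h9 hc hτ))
  -- the subgroup `H`
  have hH60 : Nat.card (T ⊔ Subgroup.zpowers xb : Subgroup _) = 60 := by
    have h1 := card_sup_zpowers_le_h9 T xb 5 (by norm_num) hx5 hperm
    rw [hT12] at h1
    have h12 : 12 ∣ Nat.card (T ⊔ Subgroup.zpowers xb : Subgroup _) := by
      rw [← hT12]; exact Subgroup.card_dvd_of_le le_sup_left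
    have h5 : 5 ∣ Nat.card (T ⊔ Subgroup.zpowers xb : Subgroup _) := by
      have := orderOf_dvd_natCard (⟨xb, Subgroup.mem_sup_right (Subgroup.mem_zpowers _)⟩ :
        (T ⊔ Subgroup.zpowers xb : Subgroup _))
      rwa [Subgroup.orderOf_mk, hxord] at this
    have h60 : 12 * 5 ∣ Nat.card (T ⊔ Subgroup.zpowers xb : Subgroup _) :=
      Nat.Coprime.mul_dvd_of_dvd_of_dvd (by norm_num : Nat.Coprime 12 5) h12 h5
    have hpos : 0 < Nat.card (T ⊔ Subgroup.zpowers xb : Subgroup _) := Nat.card_pos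
    obtain ⟨m, hm⟩ := h60
    omega
  exact ⟨T ⊔ Subgroup.zpowers xb, a5_recog_h9 _ T V hVT le_sup_left hT12 hH60 hC hTN⟩

end Cfsg.Agent.Helper9
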