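import Mathlib
import Cfsg.Agent.Helper9.SL2n

/-!
# Subfield subgroups of PSL(2, q) (helper9)
-/

set_option autoImplicit false
open scoped MatrixGroups

namespace Cfsg.Agent.Helper9

/-- a finite field `K` with `|K|^m = |F|` embeds into `F`. -/
theorem finite_field_embed_h9 {F K : Type*} [Field F] [Fintype F] [Field K] [Fintype K] (m : ℕ)
    (hK : Fintype.card K ^ m = Fintype.card F) : Nonempty (K →+* F) := by
  obtain ⟨p, hp⟩ := CharP.exists K
  obtain ⟨n, hpr, hn⟩ := FiniteField.card K p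
  haveI := fact_iff.2 hpr
  obtain ⟨p', hp'⟩ := CharP.exists F
  obtain ⟨n', hpr', hn'⟩ := FiniteField.card F p'
  have hpp : p' = p := by
    have h1 : p' ∣ p ^ ((n : ℕ) * m) := by
      rw [pow_mul, ← hn, hK, hn']
      exact dvd_pow_self _ n'.ne_zero
    exact (Nat.prime_dvd_prime_iff_eq hpr' hpr).mp (hpr'.dvd_of_dvd_pow h1)
  subst hpp
  letI : Algebra (ZMod p') K := ZMod.algebra _ _
  letI : Algebra (ZMod p') F := ZMod.algebra _ _
  have h1 := FiniteField.pow_finrank_eq_card p' K
  have h2 := FiniteField.pow_finrank_eq_card p' F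
  have h3 : Module.finrank (ZMod p') K ∣ Module.finrank (ZMod p') F := by
    have h4 : p' ^ (Module.finrank (ZMod p') K * m) = p' ^ Module.finrank (ZMod p') F := by
      rw [pow_mul, h1, h2, hK]
    have h5 := Nat.pow_right_injective hpr.two_le h4
    exact ⟨m, h5.symm⟩
  obtain ⟨f⟩ := FiniteField.nonempty_algHom_of_finrank_dvd h3
  exact ⟨f.toRingHom⟩

/-- abstract: a hom `ψ : G →* P` whose range lies in the range of an injective `ι : Q →* P`
gives a subgroup of `Q` isomorphic to `G ⧸ ker ψ`. -/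
theorem exists_subgroup_of_range_le_h9 {G P Q : Type*} [Group G] [Group P] [Group Q]
    (ι : Q →* P) (hι : Function.Injective ι) (ψ : G →* P) (h : ψ.range ≤ ι.range) :
    ∃ H : Subgroup Q, Nonempty (H ≃* G ⧸ ψ.ker) := by
  refine ⟨ψ.range.comap ι, ⟨?_⟩⟩
  have e1 : (ψ.range.comap ι) ≃* (ψ.range.comap ι).map ι := Subgroup.equivMapOfInjective _ ι hι
  have e2 : (ψ.range.comap ι).map ι = ψ.range := by
    rw [Subgroup.map_comap_eq]
    exact inf_eq_right.mpr h
  exact e1.trans ((MulEquiv.subgroupCongr e2).trans (QuotientGroup.quotientKerEquivRange ψ).symm)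

end Cfsg.Agent.Helper9
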