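import Mathlib
import Cfsg.Agent.Helper9.Sub1
import Cfsg.Agent.Helper9.SL2l

/-!
# Subfield subgroups of PSL(2, q), part 2 (helper9)
-/

set_option autoImplicit false
open scoped MatrixGroups

namespace Cfsg.Agent.Helper9

theorem sl2_map_neg_one_h9 {A B : Type*} [Field A] [Field B] (f : A →+* B) :
    Matrix.SpecialLinearGroup.map (n := Fin 2) f (-1) = -1 := by
  obtain ⟨n00, n01, n10, n11⟩ := sl2_neg_entries_h9 (1 : SL(2, A))
  obtain ⟨m00, m01, m10, m11⟩ := sl2_neg_entries_h9 (1 : SL(2, B))
  obtain ⟨o00, o01, o10, o11⟩ := sl2_one_entries_h9 (F := A)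
  obtain ⟨p00, p01, p10, p11⟩ := sl2_one_entries_h9 (F := B)
  apply sl2_ext_h9
  · rw [sl2_map_entry_h9, n00, m00, o00, p00]; simp
  · rw [sl2_map_entry_h9, n01, m01, o01, p01]; simp
  · rw [sl2_map_entry_h9, n10, m10, o10, p10]; simp
  · rw [sl2_map_entry_h9, n11, m11, o11, p11]; simp

/-- `PSL(2, K)` embeds in `PSL(2, F)` for a subfield `K` of `F`. -/
theorem psl2_subfield_h9 {F K : Type*} [Field F] [Field K] (f : K →+* F) :
    ∃ H : Subgroup (Matrix.ProjectiveSpecialLinearGroup (Fin 2) F),
      Nonempty (H ≃* Matrix.ProjectiveSpecialLinearGroup (Fin 2) K) := by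
  have hinj := sl2_map_injective_h9 f f.injective
  let ψ : SL(2, K) →* Matrix.ProjectiveSpecialLinearGroup (Fin 2) F :=
    (QuotientGroup.mk' (Subgroup.center SL(2, F))).comp (Matrix.SpecialLinearGroup.map f)
  have hker : ψ.ker = Subgroup.center SL(2, K) := by
    ext x
    rw [MonoidHom.mem_ker, sl2_center_h9]
    change (QuotientGroup.mk (Matrix.SpecialLinearGroup.map f x) :
      Matrix.ProjectiveSpecialLinearGroup (Fin 2) F) = 1 ↔ _
    rw [show (1 : Matrix.ProjectiveSpecialLinearGroup (Fin 2) F) = QuotientGroup.mk (1 : SL(2, F))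
      from rfl, psl2_mk_eq_iff_h9]
    constructor
    · rintro (h | h)
      · left; apply hinj; rw [h, map_one]
      · right; apply hinj; rw [h, sl2_map_neg_one_h9]
    · rintro (rfl | rfl)
      · left; rw [map_one]
      · right; rw [sl2_map_neg_one_h9]
  refine ⟨ψ.range, ⟨?_⟩⟩
  exact (QuotientGroup.quotientKerEquivRange ψ).symm.trans (QuotientGroup.quotientMulEquivOfEq hker)

/-- `PGL(2, K)` embeds in `PSL(2, F)` for a subfield `K` of `F` all of whose elements are
squares in `F`. -/
theorem pgl2_subfield_h9 {F K : Type*} [Field F] [Field K] (f : K →+* F)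
    (hsq : ∀ a : K, IsSquare (f a)) :
    ∃ H : Subgroup (Matrix.ProjectiveSpecialLinearGroup (Fin 2) F),
      Nonempty (H ≃* Matrix.ProjGenLinGroup (Fin 2) K) := by
  let ψ : GL (Fin 2) K →* Matrix.ProjGenLinGroup (Fin 2) F :=
    Matrix.ProjGenLinGroup.mk.comp (Matrix.GeneralLinearGroup.map f)
  have hker : ψ.ker = Subgroup.center (GL (Fin 2) K) := by
    ext g
    rw [MonoidHom.mem_ker]
    change Matrix.ProjGenLinGroup.mk (Matrix.GeneralLinearGroup.map f g) = 1 ↔ _
    rw [Matrix.ProjGenLinGroup.mk_eq_one,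
      Matrix.GeneralLinearGroup.mem_center_iff_val_mem_range_scalar,
      Matrix.GeneralLinearGroup.mem_center_iff_val_mem_range_scalar]
    have hent : ∀ i j, (Matrix.GeneralLinearGroup.map f g).1 i j = f (g.1 i j) := fun i j => rfl
    constructor
    · rintro ⟨a, ha⟩
      have e := fun i j => (congrFun (congrFun ha i) j).trans (hent i j)
      have e00 := e 0 0
      have e01 := e 0 1
      have e10 := e 1 0
      have e11 := e 1 1
      simp only [Matrix.scalar_apply, Matrix.diagonal_apply] at e00 e01 e10 e11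
      simp at e00 e01 e10 e11
      refine ⟨g.1 0 0, ?_⟩
      ext i j
      fin_cases i <;> fin_cases j
      · simp
      · simp
        exact (f.injective (by rw [← e01, map_zero])).symm
      · simp
        exact (f.injective (by rw [← e10, map_zero])).symm
      · simp
        exact f.injective (by rw [← e00, ← e11])
    · rintro ⟨b, hb⟩
      refine ⟨f b, ?_⟩
      ext i j
      rw [hent, ← hb]
      fin_cases i <;> fin_cases j <;> simp
  have hrange : ψ.range ≤ (Matrix.ProjectiveSpecialLinearGroup.toPGL (n := Fin 2) (R := F)).range := by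
    rintro _ ⟨g, rfl⟩
    obtain ⟨s, hs⟩ := hsq g.det
    have hdet : (Matrix.GeneralLinearGroup.map f g).1.det = f g.det := by
      change (f.mapMatrix g.1).det = f g.1.det
      rw [RingHom.map_det]
    have hs0 : s ≠ 0 := by
      rintro rfl
      rw [mul_zero] at hs
      have := f.injective (hs.trans (map_zero f).symm)
      exact g.det.ne_zero this
    let h : SL(2, F) := ⟨s⁻¹ • (Matrix.GeneralLinearGroup.map f g).1, by
      rw [Matrix.det_smul, Fintype.card_fin, hdet, hs]; field_simp⟩
    refine ⟨QuotientGroup.mk h, ?_⟩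
    change Matrix.ProjGenLinGroup.mk (Matrix.SpecialLinearGroup.toGL h) = 
      Matrix.ProjGenLinGroup.mk (Matrix.GeneralLinearGroup.map f g)
    rw [Matrix.ProjGenLinGroup.mk_eq_mk_iff]
    refine ⟨Units.mk0 s hs0, ?_⟩
    apply Units.ext
    rw [Units.val_mul, Matrix.GeneralLinearGroup.coe_scalar]
    change (s⁻¹ • (Matrix.GeneralLinearGroup.map f g).1) * Matrix.scalar (Fin 2) s = _
    have hM : ∀ i j, (s⁻¹ • (Matrix.GeneralLinearGroup.map f g).1) i j
        = s⁻¹ * (Matrix.GeneralLinearGroup.map f g).1 i j := fun i j => rfl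
    ext i j
    rw [Matrix.mul_apply, Fin.sum_univ_two, hM, hM]
    fin_cases i <;> fin_cases j <;> simp [Matrix.scalar_apply, Matrix.diagonal_apply] <;>
      field_simp
  obtain ⟨H, ⟨e⟩⟩ := exists_subgroup_of_range_le_h9 _
    (Matrix.ProjectiveSpecialLinearGroup.toPGL_injective (n := Fin 2) (R := F)) ψ hrange
  exact ⟨H, ⟨e.trans (QuotientGroup.quotientMulEquivOfEq hker)⟩⟩

end Cfsg.Agent.Helper9
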