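import Mathlib
import Cfsg.Agent.Helper9.Sub2
import Cfsg.Agent.S0265

/-!
# Subfield subgroups of PSL(2, q), part 3: squares and counting (helper9)
-/

set_option autoImplicit false
open scoped MatrixGroups

namespace Cfsg.Agent.Helper9

theorem isSquare_of_subfield_even_h9 {F K : Type*} [Field F] [Fintype F] [Field K] [Fintype K]
    (f : K →+* F) (j : ℕ) (hK : Fintype.card K ^ (2 * j) = Fintype.card F)
    (hodd : Fintype.card F % 2 = 1) (a : K) : IsSquare (f a) := by
  by_cases ha : a = 0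
  · subst ha; rw [map_zero]; exact ⟨0, by simp⟩
  have h2 := two_ne_zero_of_odd_card_h9 hodd
  have hchar : ringChar F ≠ 2 := by
    intro h
    have := CharP.cast_eq_zero F (ringChar F)
    rw [h] at this
    exact h2 (by exact_mod_cast this)
  have hfa : f a ≠ 0 := fun h => ha (f.injective (h.trans (map_zero f).symm))
  rw [FiniteField.isSquare_iff hchar hfa]
  have hk1 : 1 < Fintype.card K := Fintype.one_lt_card
  have hq1 : 1 < Fintype.card F := Fintype.one_lt_card
  obtain ⟨c, hc⟩ : ∃ c, Fintype.card K = 2 * c + 1 := by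
    rcases Nat.even_or_odd (Fintype.card K) with he | ho
    · exfalso
      have hj : 2 * j ≠ 0 := by
        rintro h0
        rw [h0, pow_zero] at hK
        omega
      have : Even (Fintype.card F) := by
        rw [← hK]
        exact (Nat.even_pow.mpr ⟨he, hj⟩)
      rw [Nat.even_iff] at this
      omega
    · exact ho
  have hS := geom_sum_mul_add (4 * c * (c + 1)) j
  have key : Fintype.card K ^ (2 * j) = (4 * c * (c + 1) + 1) ^ j := by
    rw [hc, pow_mul]; congr 1; ring
  obtain ⟨t, ht⟩ : (Fintype.card K - 1) ∣ Fintype.card F / 2 := by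
    refine ⟨(∑ i ∈ Finset.range j, (4 * c * (c + 1) + 1) ^ i) * (c + 1), ?_⟩
    have e1 : Fintype.card F = 2 * ((Fintype.card K - 1) *
        ((∑ i ∈ Finset.range j, (4 * c * (c + 1) + 1) ^ i) * (c + 1))) + 1 := by
      rw [← hK, key, ← hS, hc, Nat.add_sub_cancel]; ring
    generalize (Fintype.card K - 1) *
        ((∑ i ∈ Finset.range j, (4 * c * (c + 1) + 1) ^ i) * (c + 1)) = X at e1 ⊢
    omega
  rw [ht, ← map_pow, pow_mul, FiniteField.pow_card_sub_one_eq_one a ha, one_pow, map_one]

theorem pgl2_card_h9 {K : Type*} [Field K] [Fintype K] (c : ℕ) (hc : Fintype.card K = c + 1) :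
    Nat.card (Matrix.ProjGenLinGroup (Fin 2) K) = (c + 1) * (c * (c + 2)) := by
  have hk1 : 1 < Fintype.card K := Fintype.one_lt_card
  have hc0 : 0 < c := by omega
  rw [Cfsg.Agent.S0265.result]
  have h := Cfsg.Agent.S0242.result (F := K) hc 2 (by norm_num)
  rw [Fin.prod_univ_two] at h
  simp only [Fin.val_zero, Fin.val_one, pow_zero, pow_one, Nat.add_sub_cancel] at h
  have e1 : (c + 1) ^ 2 - 1 = c * (c + 2) := by
    have : (c + 1) ^ 2 = c * (c + 2) + 1 := by ring
    omega
  have e2 : (c + 1) ^ 2 - (c + 1) = (c + 1) * c := by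
    have : (c + 1) ^ 2 = (c + 1) * c + (c + 1) := by ring
    omega
  rw [e1, e2] at h
  have h' : c * Nat.card (Matrix.SpecialLinearGroup (Fin 2) K) = c * ((c + 1) * (c * (c + 2))) := by
    rw [h]; ring
  exact Nat.eq_of_mul_eq_mul_left hc0 h'

theorem pgl2_not_subfield_odd_h9 {F K : Type*} [Field F] [Fintype F] [Field K] [Fintype K]
    (j : ℕ) (hK : Fintype.card K ^ (2 * j + 1) = Fintype.card F)
    (hodd : Fintype.card F % 2 = 1)
    (H : Subgroup (Matrix.ProjectiveSpecialLinearGroup (Fin 2) F))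
    (e : H ≃* Matrix.ProjGenLinGroup (Fin 2) K) : False := by
  obtain ⟨r, hr, hP⟩ := psl2_card_odd_h9 hodd
  have hk1 : 1 < Fintype.card K := Fintype.one_lt_card
  obtain ⟨c, hc⟩ : ∃ c, Fintype.card K = c + 1 := ⟨Fintype.card K - 1, by omega⟩
  have hc0 : 0 < c := by omega
  have hN : Nat.card H = (c + 1) * (c * (c + 2)) := by
    rw [Nat.card_congr e.toEquiv, pgl2_card_h9 c hc]
  have hkodd : Odd (c + 1) := by
    rcases Nat.even_or_odd (c + 1) with he | ho
    · exfalso
      have : Even (Fintype.card F) := by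
        rw [← hK, hc]
        exact (Nat.even_pow.mpr ⟨he, by omega⟩)
      rw [Nat.even_iff] at this
      omega
    · exact ho
  have hS := geom_sum_mul_add (c * (c + 2)) (2 * j + 1)
  have hSodd : Odd (∑ i ∈ Finset.range (2 * j + 1), (c * (c + 2) + 1) ^ i) := by
    rw [Finset.odd_sum_iff_odd_card_odd, Finset.filter_true_of_mem, Finset.card_range]
    · exact ⟨j, rfl⟩
    · intro i _
      have : c * (c + 2) + 1 = (c + 1) ^ 2 := by ring
      rw [this]
      exact (hkodd.pow).pow
  have hq2 : (r + 1) ^ 2 = (c * (c + 2) + 1) ^ (2 * j + 1) := by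
    rw [← hr, ← hK, hc, ← pow_mul, mul_comm _ 2, pow_mul]; congr 1; ring
  obtain ⟨d, hd⟩ := Subgroup.card_subgroup_dvd_card H
  rw [hN] at hd
  rw [hd] at hP
  have hA : 0 < c * (c + 2) := by positivity
  have hfin : (c * (c + 2)) * (2 * ((c + 1) * d)) = (c * (c + 2)) *
      ((r + 1) * ∑ i ∈ Finset.range (2 * j + 1), (c * (c + 2) + 1) ^ i) := by
    have h3 : (∑ i ∈ Finset.range (2 * j + 1), (c * (c + 2) + 1) ^ i) * (c * (c + 2))
        = r * (r + 2) := by
      have : (r + 1) ^ 2 = r * (r + 2) + 1 := by ring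
      omega
    calc (c * (c + 2)) * (2 * ((c + 1) * d)) = 2 * ((c + 1) * (c * (c + 2)) * d) := by ring
      _ = r * (r + 1) * (r + 2) := hP
      _ = (r + 1) * (r * (r + 2)) := by ring
      _ = _ := by rw [← h3]; ring
  have h4 := Nat.eq_of_mul_eq_mul_left hA hfin
  have hrodd : Odd (r + 1) := by rw [← hr]; exact Nat.odd_iff.mpr hodd
  have h5 := hrodd.mul hSodd
  rw [← h4] at h5
  rw [Nat.odd_iff] at h5
  omega

end Cfsg.Agent.Helper9
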