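import Mathlib
import Cfsg.Agent.Helper9.Ico6
import Cfsg.Agent.Helper9.Sub3
import Cfsg.Agent.S0252

/-!
# `A₅ ≤ PSL(2, q)` iff `5 ∣ q (q² - 1)` (helper9)
-/

set_option autoImplicit false
open scoped MatrixGroups

namespace Cfsg.Agent.Helper9

theorem order5_aux_h9 {F : Type*} [Field F] (a b c d : F) (hdet : a * d - b * c = 1)
    (k01 : 0 = b * ((a + d) ^ 4 - 3 * (a + d) ^ 2 + 1))
    (k10 : 0 = c * ((a + d) ^ 4 - 3 * (a + d) ^ 2 + 1))
    (k00 : 1 = a * ((a + d) ^ 4 - 3 * (a + d) ^ 2 + 1) - ((a + d) ^ 3 - 2 * (a + d)))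
    (k11 : 1 = d * ((a + d) ^ 4 - 3 * (a + d) ^ 2 + 1) - ((a + d) ^ 3 - 2 * (a + d)))
    (hne : ¬(a = 1 ∧ b = 0 ∧ c = 0 ∧ d = 1)) : (a + d) ^ 2 + (a + d) - 1 = 0 := by
  by_cases hA : (a + d) ^ 4 - 3 * (a + d) ^ 2 + 1 = 0
  · rw [hA, mul_zero, zero_sub] at k00
    have h1 : ((a + d) - 1) * ((a + d) ^ 2 + (a + d) - 1) = 0 := by linear_combination k00
    rcases mul_eq_zero.mp h1 with h | h
    · exfalso
      have ht : a + d = 1 := by linear_combination h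
      rw [ht] at hA
      have : (1 : F) = 0 := by linear_combination (-1 : F) * hA
      exact one_ne_zero this
    · exact h
  · exfalso
    apply hne
    have hb : b = 0 := by
      rcases mul_eq_zero.mp k01.symm with h | h
      · exact h
      · exact absurd h hA
    have hc' : c = 0 := by
      rcases mul_eq_zero.mp k10.symm with h | h
      · exact h
      · exact absurd h hA
    have had : a = d := by
      have : (a - d) * ((a + d) ^ 4 - 3 * (a + d) ^ 2 + 1) = 0 := by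
        linear_combination k11 - k00
      rcases mul_eq_zero.mp this with h | h
      · linear_combination h
      · exact absurd h hA
    subst hb hc' had
    have ha : a = 1 := by
      linear_combination (-1 : F) * k00 + (-(16 * a ^ 3 - 4 * a)) * hdet
    exact ⟨ha, rfl, rfl, ha⟩

/-- the trace of an element of order 5 of `SL(2, F)` is a root of `τ² + τ - 1`. -/
theorem sl2_order5_trace_h9 {F : Type*} [Field F] (g : SL(2, F)) (h5 : g ^ 5 = 1) (h1 : g ≠ 1) :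
    (g.1 0 0 + g.1 1 1) ^ 2 + (g.1 0 0 + g.1 1 1) - 1 = 0 := by
  obtain ⟨-, hdet⟩ := sl2_entries_h9 g
  have e5 : (g * g) * (g * g) * g = 1 := by
    rw [← h5, show (5 : ℕ) = 2 + 2 + 1 from rfl, pow_add, pow_add, pow_one, sq]
  obtain ⟨a00, a01, a10, a11⟩ := sl2_mul_entries_h9 g g
  obtain ⟨b00, b01, b10, b11⟩ := sl2_mul_entries_h9 (g * g) (g * g)
  obtain ⟨c00, c01, c10, c11⟩ := sl2_mul_entries_h9 ((g * g) * (g * g)) g
  obtain ⟨o00, o01, o10, o11⟩ := sl2_one_entries_h9 (F := F)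
  rw [e5] at c00 c01 c10 c11
  rw [o00, b00, b01, a00, a01, a10, a11] at c00
  rw [o01, b00, b01, a00, a01, a10, a11] at c01
  rw [o10, b10, b11, a00, a01, a10, a11] at c10
  rw [o11, b10, b11, a00, a01, a10, a11] at c11
  apply order5_aux_h9 (g.1 0 0) (g.1 0 1) (g.1 1 0) (g.1 1 1) hdet
  · refine c01.trans ?_
    linear_combination (g.1 0 1 * (-(3 * (g.1 0 0 + g.1 1 1) ^ 2) + 1 +
      (g.1 0 0 * g.1 1 1 - g.1 0 1 * g.1 1 0))) * hdet
  · refine c10.trans ?_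
    linear_combination (g.1 1 0 * (-(3 * (g.1 0 0 + g.1 1 1) ^ 2) + 1 +
      (g.1 0 0 * g.1 1 1 - g.1 0 1 * g.1 1 0))) * hdet
  · refine c00.trans ?_
    linear_combination (g.1 0 0 * (-(3 * (g.1 0 0 + g.1 1 1) ^ 2) + 1 +
      (g.1 0 0 * g.1 1 1 - g.1 0 1 * g.1 1 0)) - (g.1 0 0 + g.1 1 1) ^ 3 +
      2 * (g.1 0 0 + g.1 1 1) * ((g.1 0 0 * g.1 1 1 - g.1 0 1 * g.1 1 0) + 1)) * hdet
  · refine c11.trans ?_
    linear_combination (g.1 1 1 * (-(3 * (g.1 0 0 + g.1 1 1) ^ 2) + 1 +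
      (g.1 0 0 * g.1 1 1 - g.1 0 1 * g.1 1 0)) - (g.1 0 0 + g.1 1 1) ^ 3 +
      2 * (g.1 0 0 + g.1 1 1) * ((g.1 0 0 * g.1 1 1 - g.1 0 1 * g.1 1 0) + 1)) * hdet
  · rintro ⟨h00, h01, h10, h11⟩
    apply h1
    apply sl2_ext_h9
    · rw [h00, o00]
    · rw [h01, o01]
    · rw [h10, o10]
    · rw [h11, o11]

theorem exists_conic_h9 {F : Type*} [Field F] [Fintype F] (hF : Fintype.card F % 2 = 1)
    (τ : F) (hτ : τ ^ 2 + τ - 1 = 0) : ∃ α β : F, α ^ 2 - τ * α + β ^ 2 + β + 1 = 0 := by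
  have h2 := two_ne_zero_of_odd_card_h9 hF
  obtain ⟨a, b, hab⟩ := ff_sq_add_sq_h9 hF (-(τ + 2))
  have h2i : (2 : F) * 2⁻¹ = 1 := mul_inv_cancel₀ h2
  refine ⟨(a + τ) * 2⁻¹, (b - 1) * 2⁻¹, ?_⟩
  linear_combination ((2 : F)⁻¹ ^ 2) * hab - ((2 : F)⁻¹ ^ 2) * hτ +
    (τ * (a + τ) * 2⁻¹ - (b - 1) * 2⁻¹ - (1 + 2 * 2⁻¹)) * h2i

theorem sl2_card_h9 {F : Type*} [Field F] [Fintype F] (c : ℕ) (hc : Fintype.card F = c + 1) :
    Nat.card SL(2, F) = (c + 1) * (c * (c + 2)) := by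
  rw [← Cfsg.Agent.S0265.result, pgl2_card_h9 c hc]

/-- odd `q` with `5 ∣ q (q² - 1)`: `A₅ ≤ PSL(2, q)`. -/
theorem psl2_A5_odd_h9 {F : Type*} [Field F] [Fintype F] (hF : Fintype.card F % 2 = 1)
    (h5 : 5 ∣ Fintype.card F * (Fintype.card F ^ 2 - 1)) :
    ∃ H : Subgroup (Matrix.ProjectiveSpecialLinearGroup (Fin 2) F),
      Nonempty (H ≃* alternatingGroup (Fin 5)) := by
  have hq1 : 1 < Fintype.card F := Fintype.one_lt_card
  obtain ⟨c, hc⟩ : ∃ c, Fintype.card F = c + 1 := ⟨Fintype.card F - 1, by omega⟩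
  have hcard := sl2_card_h9 c hc
  have h5' : 5 ∣ Nat.card SL(2, F) := by
    rw [hcard]
    rw [hc] at h5
    have e : (c + 1) ^ 2 - 1 = c * (c + 2) := by
      have : (c + 1) ^ 2 = c * (c + 2) + 1 := by ring
      omega
    rwa [e] at h5
  haveI : Fact (Nat.Prime 5) := ⟨by norm_num⟩
  obtain ⟨g, hg⟩ := exists_prime_orderOf_dvd_card' (G := SL(2, F)) 5 h5'
  have hg5 : g ^ 5 = 1 := by rw [← hg]; exact pow_orderOf_eq_one g
  have hg1 : g ≠ 1 := by
    rintro rfl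
    rw [orderOf_one] at hg
    norm_num at hg
  have hτ := sl2_order5_trace_h9 g hg5 hg1
  obtain ⟨α, β, hαβ⟩ := exists_conic_h9 hF _ hτ
  exact psl2_A5_of_tau_h9 hF hαβ hτ

/-- even `q` with `5 ∣ q (q² - 1)`: `A₅ ≤ PSL(2, q)`. -/
theorem psl2_A5_even_h9 {F : Type*} [Field F] [Fintype F] (hF : Fintype.card F % 2 = 0)
    (h5 : 5 ∣ Fintype.card F * (Fintype.card F ^ 2 - 1)) :
    ∃ H : Subgroup (Matrix.ProjectiveSpecialLinearGroup (Fin 2) F),
      Nonempty (H ≃* alternatingGroup (Fin 5)) := by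
  have hchar : ringChar F = 2 := FiniteField.even_card_iff_char_two.mpr hF
  haveI : CharP F 2 := ringChar.of_eq hchar
  obtain ⟨n, -, hn⟩ := FiniteField.card F 2
  -- `n` is even
  have hpow : ∀ j : ℕ, 16 ^ j % 5 = 1 := by
    intro j
    rw [Nat.pow_mod]; simp
  have hneven : Even (n : ℕ) := by
    rcases Nat.even_or_odd (n : ℕ) with he | ho
    · exact he
    · exfalso
      obtain ⟨j, hj⟩ := ho
      rw [hn, hj] at h5
      have e1 : (2 : ℕ) ^ (2 * j + 1) = 4 ^ j * 2 := by rw [pow_succ, pow_mul]; norm_num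
      have e2 : ((2 : ℕ) ^ (2 * j + 1)) ^ 2 = 16 ^ j * 4 := by
        rw [e1, mul_pow, ← pow_mul, mul_comm j 2, pow_mul]; norm_num
      rw [e2] at h5
      have h16 := hpow j
      have hpos : 0 < 16 ^ j := by positivity
      have hcop : Nat.Coprime 5 (2 ^ (2 * j + 1)) :=
        Nat.Coprime.pow_right _ (by norm_num)
      have h5'' := hcop.dvd_of_dvd_mul_left h5
      omega
  obtain ⟨j, hj⟩ := hneven
  haveI : Fact (Nat.Prime 2) := ⟨by norm_num⟩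
  letI : Fintype (GaloisField 2 2) := Fintype.ofFinite _
  have hK : Fintype.card (GaloisField 2 2) = 4 := by
    rw [← Nat.card_eq_fintype_card, GaloisField.card 2 2 (by norm_num)]; norm_num
  have hKF : Fintype.card (GaloisField 2 2) ^ j = Fintype.card F := by
    rw [hK, hn, hj, show (4 : ℕ) = 2 ^ 2 from rfl, ← pow_mul]; congr 1; ring
  obtain ⟨f⟩ := finite_field_embed_h9 (F := F) (K := GaloisField 2 2) j hKF
  obtain ⟨H, ⟨e⟩⟩ := psl2_subfield_h9 f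
  obtain ⟨e'⟩ := Cfsg.Agent.S0252.result (F := GaloisField 2 2) hK
  exact ⟨H, ⟨e.trans e'⟩⟩

end Cfsg.Agent.Helper9
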