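import Cfsg.Prelude.Def_Transfer
import Cfsg.Agent.Helper9.QD

/-!
# Four-groups in dihedral and quasidihedral groups are self-centralizing (helper9)
-/

set_option autoImplicit false
open Cfsg

namespace Cfsg.Agent.Helper9

/-- a subgroup of exponent two of a cyclic group has at most two elements -/
theorem card_le_two_of_le_zpowers_h9 {G : Type*} [Group G] [Finite G] (x : G) (V : Subgroup G)
    (hV : V ≤ Subgroup.zpowers x) (h2 : ∀ a ∈ V, a ^ 2 = 1) : Nat.card V ≤ 2 := by
  haveI : IsCyclic V := Subgroup.isCyclic_of_le hV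
  classical
  haveI := Fintype.ofFinite V
  have h := IsCyclic.card_pow_eq_one_le (α := V) (n := 2) (by norm_num)
  rw [Nat.card_eq_fintype_card]
  have h3 : (Finset.univ.filter fun a : V => a ^ 2 = 1) = Finset.univ := by
    apply Finset.filter_true_of_mem
    intro a _
    ext
    simp [h2 a a.2]
  rw [h3] at h
  exact h

/-- in a split metacyclic group `⟨x⟩ ⋊ ⟨y⟩` in which the elements outside `⟨x⟩` centralize at
most the involution of `⟨x⟩`, a four-group is self-centralizing -/
theorem MC.klein_self_centralizing {S : Type*} [Group S] {N : ℕ} {e : ZMod N} {x y : S}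
    (m : MC N e x y) (he : ∀ i : ZMod N, e * i = i → 2 * i = 0)
    (V : Subgroup S) (hV4 : Nat.card V = 4) (hV2 : ∀ a ∈ V, a ^ 2 = 1) (c : S)
    (hc : ∀ a ∈ V, c * a = a * c) : c ∈ V := by
  haveI := m.finite
  -- an element of `V` outside `⟨x⟩`
  have h1 : ∃ v ∈ V, v ∉ Subgroup.zpowers x := by
    by_contra hcon
    push_neg at hcon
    have := card_le_two_of_le_zpowers_h9 x V hcon hV2
    omega
  obtain ⟨v, hvV, hvx⟩ := h1
  -- `V` is commutative
  have hcomm : ∀ a ∈ V, ∀ b ∈ V, a * b = b * a := by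
    intro a ha b hb
    have h1 := hV2 a ha
    have h2 := hV2 b hb
    have h3 := hV2 (a * b) (V.mul_mem ha hb)
    rw [pow_two] at h1 h2 h3
    have h4 : a * b = (a * b)⁻¹ := eq_inv_of_mul_eq_one_left h3
    rw [h4, mul_inv_rev, inv_eq_of_mul_eq_one_left h1, inv_eq_of_mul_eq_one_left h2]
  have hVZ : V ≤ Subgroup.centralizer {v} := by
    intro a ha
    refine Subgroup.mem_centralizer_iff.mpr ?_
    intro b hb
    rw [Set.mem_singleton_iff] at hb
    rw [hb]
    exact hcomm v hvV a ha
  obtain ⟨k, hk⟩ : ∃ k : ZMod N, v = zpw N x k * y := by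
    rcases m.cases v with ⟨i, hi⟩ | ⟨i, hi⟩
    · exact absurd (hi ▸ zpw_mem_zpowers i) hvx
    · exact ⟨i, hi⟩
  have hW : Nat.card (Subgroup.centralizer {v} ⊓ Subgroup.zpowers x : Subgroup S) ≤ 2 := by
    apply card_le_two_of_le_zpowers_h9 x _ inf_le_right
    intro a ha
    obtain ⟨ha1, ha2⟩ := ha
    obtain ⟨i, hi⟩ := (mem_zpowers_iff_zpw m.xN).mp ha2
    have ha1' := Subgroup.mem_centralizer_iff.mp ha1
    have h2 := ha1' v rfl
    rw [hk, hi, m.mul_sr, m.mul_rs, m.pxy_inj] at h2
    have h3 : 2 * i = 0 := he i (by linear_combination h2)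
    rw [hi, zpw_pow m.xN]
    push_cast
    rw [h3, zpw_zero]
  have hZ : Nat.card (Subgroup.centralizer {v} : Subgroup S) ≤ 4 := by
    have h2 := Subgroup.relIndex_mul_relIndex (H := (⊥ : Subgroup S))
      (K := Subgroup.centralizer {v} ⊓ Subgroup.zpowers x) (L := Subgroup.centralizer {v})
      bot_le inf_le_left
    rw [Subgroup.relIndex_bot_left, Subgroup.relIndex_bot_left, Subgroup.inf_relIndex_left] at h2
    haveI : (Subgroup.zpowers x).Normal := Subgroup.normal_of_index_eq_two m.index_two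
    have h3 : (Subgroup.zpowers x).relIndex (Subgroup.centralizer {v}) ∣ 2 := by
      rw [← m.index_two]
      exact Subgroup.relIndex_dvd_index_of_normal _ _
    have h4 := Nat.le_of_dvd (by norm_num) h3
    rw [← h2]
    calc _ ≤ 2 * 2 := Nat.mul_le_mul hW h4
      _ = 4 := by norm_num
  have hVeq : V = Subgroup.centralizer {v} := Subgroup.eq_of_le_of_card_ge hVZ (by rw [hV4]; exact hZ)
  rw [hVeq, Subgroup.mem_centralizer_iff]
  intro b hb
  rw [Set.mem_singleton_iff] at hb
  rw [hb]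
  exact (hc v hvV).symm

/-- the dihedral group in metacyclic normal form -/
theorem dihedral_mc_h9 (m : ℕ) (hm : m ≠ 0) :
    MC m (-1) (DihedralGroup.r 1 : DihedralGroup m) (DihedralGroup.sr 0) := by
  haveI : NeZero m := ⟨hm⟩
  have hN : (DihedralGroup.r 1 : DihedralGroup m) ^ m = 1 := DihedralGroup.r_one_pow_n
  refine ⟨hm, DihedralGroup.nat_card, DihedralGroup.orderOf_r_one, DihedralGroup.sr_mul_self 0, ?_, ?_⟩
  · rw [zpw_neg hN, zpw_one hN]
    have h1 : (DihedralGroup.sr 0 : DihedralGroup m)⁻¹ = DihedralGroup.sr 0 := rfl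
    have h2 : (DihedralGroup.r 1 : DihedralGroup m)⁻¹ = DihedralGroup.r (-1) := rfl
    rw [h1, h2, DihedralGroup.sr_mul_r, DihedralGroup.sr_mul_sr]
    congr 1
    ring
  · rintro ⟨k, hk⟩
    have hk' : (DihedralGroup.r 1 : DihedralGroup m) ^ k = DihedralGroup.sr 0 := hk
    rw [DihedralGroup.r_one_zpow] at hk'
    exact absurd hk' (by simp)

/-- four-groups of exponent two are self-centralizing in dihedral groups -/
theorem dihedral_klein_self_centralizing_h9 (m : ℕ) (hm : m ≠ 0)
    (V : Subgroup (DihedralGroup m)) (hV4 : Nat.card V = 4) (hV2 : ∀ a ∈ V, a ^ 2 = 1)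
    (c : DihedralGroup m) (hc : ∀ a ∈ V, c * a = a * c) : c ∈ V := by
  apply (dihedral_mc_h9 m hm).klein_self_centralizing _ V hV4 hV2 c hc
  intro i hi
  linear_combination (-1 : ZMod m) * hi

/-- four-groups of exponent two are self-centralizing in quasidihedral groups -/
theorem qd_klein_self_centralizing_h9 {S : Type*} [Group S] (hS : Cfsg.IsQuasiDihedral S)
    (V : Subgroup S) (hV4 : Nat.card V = 4) (hV2 : ∀ a ∈ V, a ^ 2 = 1)
    (c : S) (hc : ∀ a ∈ V, c * a = a * c) : c ∈ V := by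
  obtain ⟨n, x, y, hn, m⟩ := exists_mc_of_qd hS
  apply m.klein_self_centralizing _ V hV4 hV2 c hc
  intro i hi
  have h1 : (2 - hf n) * i = 0 := by linear_combination (-1 : ZMod (2 ^ n)) * hi
  rcases two_sub_hf_mul_eq_zero hn h1 with h2 | h2
  · rw [h2, mul_zero]
  · rw [h2]; exact two_hf (by omega)

/-- transport along an isomorphism -/
theorem klein_self_centralizing_of_equiv_h9 {Q Q' : Type*} [Group Q] [Group Q'] (e : Q ≃* Q')
    (h : ∀ V : Subgroup Q', Nat.card V = 4 → (∀ a ∈ V, a ^ 2 = 1) →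
      ∀ c : Q', (∀ a ∈ V, c * a = a * c) → c ∈ V)
    (V : Subgroup Q) (hV4 : Nat.card V = 4) (hV2 : ∀ a ∈ V, a ^ 2 = 1)
    (c : Q) (hc : ∀ a ∈ V, c * a = a * c) : c ∈ V := by
  have h1 := h (V.map e.toMonoidHom) (by
      rw [Subgroup.card_map_of_injective (K := V) (f := e.toMonoidHom) e.injective]; exact hV4)
    (by
      rintro _ ⟨a, ha, rfl⟩
      have := hV2 a ha
      show (e a) ^ 2 = 1
      rw [← map_pow, this, map_one]) (e c) (by
      rintro _ ⟨a, ha, rfl⟩
      show e c * e a = e a * e c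
      rw [← map_mul, ← map_mul, hc a ha])
  obtain ⟨a, ha, hac⟩ := h1
  have : a = c := e.injective hac
  exact this ▸ ha

/-- the statement of `S1236` -/
theorem elementary_eight_self_centralizing_h9 {R : Type*} [Group R] [Finite R] (t : R)
    (ht : orderOf t = 2) [(Subgroup.zpowers t).Normal]
    (hq : ∀ V : Subgroup (R ⧸ Subgroup.zpowers t), Nat.card V = 4 → (∀ a ∈ V, a ^ 2 = 1) →
      ∀ c : R ⧸ Subgroup.zpowers t, (∀ a ∈ V, c * a = a * c) → c ∈ V)
    (A : Subgroup R) (hA : Cfsg.IsElementaryAbelian 2 A) (hA8 : Nat.card A = 8) (htA : t ∈ A) :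
    Subgroup.centralizer (A : Set R) = A := by
  obtain ⟨hAc, hA2⟩ := hA
  have htA' : Subgroup.zpowers t ≤ A := by
    rw [Subgroup.zpowers_le]; exact htA
  apply le_antisymm
  · intro c hc
    rw [Subgroup.mem_centralizer_iff] at hc
    have hker : (QuotientGroup.mk' (Subgroup.zpowers t)).ker = Subgroup.zpowers t :=
      QuotientGroup.ker_mk' _
    have hV4 : Nat.card (A.map (QuotientGroup.mk' (Subgroup.zpowers t))) = 4 := by
      rw [← Subgroup.relIndex_ker, hker]
      have h2 := Subgroup.relIndex_mul_relIndex (H := (⊥ : Subgroup R))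
        (K := Subgroup.zpowers t) (L := A) bot_le htA'
      rw [Subgroup.relIndex_bot_left, Subgroup.relIndex_bot_left, Nat.card_zpowers, ht, hA8] at h2
      omega
    have h1 := hq (A.map (QuotientGroup.mk' (Subgroup.zpowers t))) hV4 (by
        rintro _ ⟨a, ha, rfl⟩
        rw [← map_pow, hA2 a ha, map_one]) (QuotientGroup.mk' (Subgroup.zpowers t) c) (by
        rintro _ ⟨a, ha, rfl⟩
        rw [← map_mul, ← map_mul, hc a ha])
    obtain ⟨a, ha, hac⟩ := h1
    have h2 : a⁻¹ * c ∈ Subgroup.zpowers t := by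
      rw [← hker, MonoidHom.mem_ker, map_mul, map_inv, hac, inv_mul_cancel]
    have h3 : a * (a⁻¹ * c) ∈ A := A.mul_mem ha (htA' h2)
    rwa [mul_inv_cancel_left] at h3
  · intro a ha
    rw [Subgroup.mem_centralizer_iff]
    intro b hb
    have := hAc.is_comm.comm ⟨b, hb⟩ ⟨a, ha⟩
    exact congrArg Subtype.val this

end Cfsg.Agent.Helper9
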