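import Mathlib

/-!
# Numerical lemmas for the class equation of a Klein partition (helper9)
-/

set_option autoImplicit false

namespace Cfsg.Agent.Helper9

theorem kp_four_h9 (h n b e : ℕ) (he : e = 1 ∨ e = 2) (hh : h = n * (e * (b + 2))) :
    h ≤ 4 * (n * (b + 1)) ∧ (e = 1 → h ≤ 2 * (n * (b + 1))) := by
  have e2 : n * (b + 1) = n * b + n := by ring
  rcases he with rfl | rfl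
  · have e1 : n * (1 * (b + 2)) = n * b + 2 * n := by ring
    rw [hh, e1, e2]
    generalize n * b = P
    exact ⟨by omega, fun _ => by omega⟩
  · have e1 : n * (2 * (b + 2)) = 2 * (n * b) + 4 * n := by ring
    rw [hh, e1, e2]
    generalize n * b = P
    exact ⟨by omega, fun h => by omega⟩

theorem kp_num1_h9 (h n b e : ℕ) (hn : 1 ≤ n) (he : e = 1 ∨ e = 2) (hh : h = n * (e * (b + 2)))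
    (hu : n * (b + 1) + 1 = h) : e = 1 ∧ n = 1 := by
  have e2 : n * (b + 1) = n * b + n := by ring
  rcases he with rfl | rfl
  · have e1 : n * (1 * (b + 2)) = n * b + 2 * n := by ring
    rw [hh, e1, e2] at hu
    generalize n * b = P at hu
    exact ⟨rfl, by omega⟩
  · have e1 : n * (2 * (b + 2)) = 2 * (n * b) + 4 * n := by ring
    rw [hh, e1, e2] at hu
    generalize n * b = P at hu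
    exfalso; omega

theorem kp_num2_core_h9 (h n₁ b₁ n₂ b₂ : ℕ) (hn₁ : 1 ≤ n₁) (hn₂ : 1 ≤ n₂)
    (hh₁ : h = n₁ * (1 * (b₁ + 2))) (hh₂ : h = n₂ * (2 * (b₂ + 2)))
    (hu : n₁ * (b₁ + 1) + n₂ * (b₂ + 1) + 1 = h) :
    (b₁ = 0 ∧ n₂ = 1) ∨ (b₁ = 1 ∧ h = 12) := by
  have e2 : n₂ * (2 * (b₂ + 2)) = 2 * (n₂ * b₂) + 4 * n₂ := by ring
  have e4 : n₂ * (b₂ + 1) = n₂ * b₂ + n₂ := by ring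
  rw [e2] at hh₂
  rw [e4] at hu
  rcases b₁ with _ | _ | k
  · left
    refine ⟨rfl, ?_⟩
    simp only [zero_add, mul_one] at hh₁ hu
    generalize n₂ * b₂ = P at hh₂ hu
    omega
  · right
    refine ⟨rfl, ?_⟩
    have e1 : n₁ * (1 * (0 + 1 + 2)) = 3 * n₁ := by ring
    have e3 : n₁ * (0 + 1 + 1) = 2 * n₁ := by ring
    rw [e1] at hh₁
    rw [e3] at hu
    rcases b₂ with _ | j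
    · simp only [mul_zero, zero_add] at hh₂ hu
      omega
    · exfalso
      have e5 : n₂ * (j + 1) = n₂ * j + n₂ := by ring
      rw [e5] at hh₂ hu
      generalize n₂ * j = Q at hh₂ hu
      omega
  · exfalso
    have e1 : n₁ * (1 * (k + 1 + 1 + 2)) = n₁ * k + 4 * n₁ := by ring
    have e3 : n₁ * (k + 1 + 1 + 1) = n₁ * k + 3 * n₁ := by ring
    rw [e1] at hh₁
    rw [e3] at hu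
    generalize n₁ * k = Q at hh₁ hu
    generalize n₂ * b₂ = P at hh₂ hu
    omega

theorem kp_num2_h9 (h n₁ b₁ e₁ n₂ b₂ e₂ : ℕ) (hn₁ : 1 ≤ n₁) (hn₂ : 1 ≤ n₂)
    (he₁ : e₁ = 1 ∨ e₁ = 2) (he₂ : e₂ = 1 ∨ e₂ = 2)
    (hh₁ : h = n₁ * (e₁ * (b₁ + 2))) (hh₂ : h = n₂ * (e₂ * (b₂ + 2)))
    (hu : n₁ * (b₁ + 1) + n₂ * (b₂ + 1) + 1 = h) :
    (e₁ = 1 ∧ e₂ = 2 ∧ ((b₁ = 0 ∧ n₂ = 1) ∨ (b₁ = 1 ∧ h = 12))) ∨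
    (e₁ = 2 ∧ e₂ = 1 ∧ ((b₂ = 0 ∧ n₁ = 1) ∨ (b₂ = 1 ∧ h = 12))) := by
  rcases he₁ with rfl | rfl <;> rcases he₂ with rfl | rfl
  · exfalso
    have e1 : n₁ * (1 * (b₁ + 2)) = n₁ * b₁ + 2 * n₁ := by ring
    have e2 : n₂ * (1 * (b₂ + 2)) = n₂ * b₂ + 2 * n₂ := by ring
    have e3 : n₁ * (b₁ + 1) = n₁ * b₁ + n₁ := by ring
    have e4 : n₂ * (b₂ + 1) = n₂ * b₂ + n₂ := by ring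
    rw [e1] at hh₁
    rw [e2] at hh₂
    rw [e3, e4] at hu
    generalize n₁ * b₁ = P at hh₁ hu
    generalize n₂ * b₂ = Q at hh₂ hu
    omega
  · left
    exact ⟨rfl, rfl, kp_num2_core_h9 h n₁ b₁ n₂ b₂ hn₁ hn₂ hh₁ hh₂ hu⟩
  · right
    exact ⟨rfl, rfl, kp_num2_core_h9 h n₂ b₂ n₁ b₁ hn₂ hn₁ hh₂ hh₁ (by omega)⟩
  · exfalso
    have e1 : n₁ * (2 * (b₁ + 2)) = 2 * (n₁ * b₁) + 4 * n₁ := by ring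
    have e2 : n₂ * (2 * (b₂ + 2)) = 2 * (n₂ * b₂) + 4 * n₂ := by ring
    have e3 : n₁ * (b₁ + 1) = n₁ * b₁ + n₁ := by ring
    have e4 : n₂ * (b₂ + 1) = n₂ * b₂ + n₂ := by ring
    rw [e1] at hh₁
    rw [e2] at hh₂
    rw [e3, e4] at hu
    generalize n₁ * b₁ = P at hh₁ hu
    generalize n₂ * b₂ = Q at hh₂ hu
    omega

theorem kp_num3_sorted_h9 (m n₁ n₂ n₃ b₁ b₂ b₃ : ℕ) (hn₁ : 1 ≤ n₁) (hn₂ : 1 ≤ n₂) (hn₃ : 1 ≤ n₃)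
    (h₁ : m = n₁ * (b₁ + 2)) (h₂ : m = n₂ * (b₂ + 2)) (h₃ : m = n₃ * (b₃ + 2))
    (hs : n₁ + n₂ + n₃ = m + 1) (h12 : b₁ ≤ b₂) (h23 : b₂ ≤ b₃) :
    b₁ = 0 ∧ ((b₂ = 0 ∧ n₃ = 1) ∨ (b₂ = 1 ∧ b₃ = 1 ∧ m = 6) ∨ (b₂ = 1 ∧ b₃ = 2 ∧ m = 12) ∨
      (b₂ = 1 ∧ b₃ = 3 ∧ m = 30)) := by
  have key : ∀ n b k : ℕ, k ≤ b + 2 → m = n * (b + 2) → k * n ≤ m := by
    intro n b k hk hm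
    rw [hm, mul_comm k n]
    exact Nat.mul_le_mul_left _ hk
  have hb1 : b₁ = 0 := by
    by_contra hne
    have a1 := key n₁ b₁ 3 (by omega) h₁
    have a2 := key n₂ b₂ 3 (by omega) h₂
    have a3 := key n₃ b₃ 3 (by omega) h₃
    omega
  subst hb1
  refine ⟨rfl, ?_⟩
  have h₁' : m = 2 * n₁ := by rw [h₁]; ring
  rcases b₂ with _ | _ | k
  · left
    have h₂' : m = 2 * n₂ := by rw [h₂]; ring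
    exact ⟨rfl, by omega⟩
  · right
    have h₂' : m = 3 * n₂ := by rw [h₂]; ring
    rcases b₃ with _ | _ | _ | _ | j
    · omega
    · left
      have h₃' : m = 3 * n₃ := by rw [h₃]; ring
      exact ⟨rfl, rfl, by omega⟩
    · right; left
      have h₃' : m = 4 * n₃ := by rw [h₃]; ring
      exact ⟨rfl, rfl, by omega⟩
    · right; right
      have h₃' : m = 5 * n₃ := by rw [h₃]; ring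
      exact ⟨rfl, rfl, by omega⟩
    · exfalso
      have a3 := key n₃ _ 6 (by omega) h₃
      omega
  · exfalso
    have a2 := key n₂ _ 4 (by omega) h₂
    have a3 := key n₃ b₃ 4 (by omega) h₃
    omega

theorem kp_num3_h9 (m n₁ n₂ n₃ b₁ b₂ b₃ : ℕ) (hn₁ : 1 ≤ n₁) (hn₂ : 1 ≤ n₂) (hn₃ : 1 ≤ n₃)
    (h₁ : m = n₁ * (b₁ + 2)) (h₂ : m = n₂ * (b₂ + 2)) (h₃ : m = n₃ * (b₃ + 2))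
    (hs : n₁ + n₂ + n₃ = m + 1) :
    (n₁ = 1 ∧ b₂ = 0 ∧ b₃ = 0) ∨ (n₂ = 1 ∧ b₁ = 0 ∧ b₃ = 0) ∨ (n₃ = 1 ∧ b₁ = 0 ∧ b₂ = 0) ∨
    (m = 6 ∧ ((b₁ = 1 ∧ b₂ = 1) ∨ (b₁ = 1 ∧ b₃ = 1) ∨ (b₂ = 1 ∧ b₃ = 1))) ∨
    (m = 12 ∧ (b₁ = 1 ∨ b₂ = 1 ∨ b₃ = 1) ∧ b₁ ≤ 2 ∧ b₂ ≤ 2 ∧ b₃ ≤ 2) ∨
    (m = 30 ∧ ((b₁ = 0 ∧ b₂ = 1 ∧ b₃ = 3) ∨ (b₁ = 0 ∧ b₂ = 3 ∧ b₃ = 1) ∨
      (b₁ = 1 ∧ b₂ = 0 ∧ b₃ = 3) ∨ (b₁ = 1 ∧ b₂ = 3 ∧ b₃ = 0) ∨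
      (b₁ = 3 ∧ b₂ = 0 ∧ b₃ = 1) ∨ (b₁ = 3 ∧ b₂ = 1 ∧ b₃ = 0))) := by
  rcases Nat.le_total b₁ b₂ with h12 | h12 <;> rcases Nat.le_total b₂ b₃ with h23 | h23 <;>
    rcases Nat.le_total b₁ b₃ with h13 | h13
  · obtain ⟨rfl, (⟨rfl, h⟩ | ⟨rfl, rfl, h⟩ | ⟨rfl, rfl, h⟩ | ⟨rfl, rfl, h⟩)⟩ :=
      kp_num3_sorted_h9 m n₁ n₂ n₃ b₁ b₂ b₃ hn₁ hn₂ hn₃ h₁ h₂ h₃ hs h12 h23 <;> simp [h]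
  · obtain ⟨rfl, (⟨rfl, h⟩ | ⟨rfl, rfl, h⟩ | ⟨rfl, rfl, h⟩ | ⟨rfl, rfl, h⟩)⟩ :=
      kp_num3_sorted_h9 m n₁ n₂ n₃ b₁ b₂ b₃ hn₁ hn₂ hn₃ h₁ h₂ h₃ hs h12 h23 <;> simp [h]
  · obtain ⟨rfl, (⟨rfl, h⟩ | ⟨rfl, rfl, h⟩ | ⟨rfl, rfl, h⟩ | ⟨rfl, rfl, h⟩)⟩ :=
      kp_num3_sorted_h9 m n₁ n₃ n₂ b₁ b₃ b₂ hn₁ hn₃ hn₂ h₁ h₃ h₂ (by omega) h13 h23 <;> simp [h]
  · obtain ⟨rfl, (⟨rfl, h⟩ | ⟨rfl, rfl, h⟩ | ⟨rfl, rfl, h⟩ | ⟨rfl, rfl, h⟩)⟩ :=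
      kp_num3_sorted_h9 m n₃ n₁ n₂ b₃ b₁ b₂ hn₃ hn₁ hn₂ h₃ h₁ h₂ (by omega) h13 h12 <;> simp [h]
  · obtain ⟨rfl, (⟨rfl, h⟩ | ⟨rfl, rfl, h⟩ | ⟨rfl, rfl, h⟩ | ⟨rfl, rfl, h⟩)⟩ :=
      kp_num3_sorted_h9 m n₂ n₁ n₃ b₂ b₁ b₃ hn₂ hn₁ hn₃ h₂ h₁ h₃ (by omega) h12 h13 <;> simp [h]
  · obtain ⟨rfl, (⟨rfl, h⟩ | ⟨rfl, rfl, h⟩ | ⟨rfl, rfl, h⟩ | ⟨rfl, rfl, h⟩)⟩ :=
      kp_num3_sorted_h9 m n₂ n₃ n₁ b₂ b₃ b₁ hn₂ hn₃ hn₁ h₂ h₃ h₁ (by omega) h23 h13 <;> simp [h]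
  · obtain ⟨rfl, (⟨rfl, h⟩ | ⟨rfl, rfl, h⟩ | ⟨rfl, rfl, h⟩ | ⟨rfl, rfl, h⟩)⟩ :=
      kp_num3_sorted_h9 m n₃ n₂ n₁ b₃ b₂ b₁ hn₃ hn₂ hn₁ h₃ h₂ h₁ (by omega) h23 h12 <;> simp [h]
  · obtain ⟨rfl, (⟨rfl, h⟩ | ⟨rfl, rfl, h⟩ | ⟨rfl, rfl, h⟩ | ⟨rfl, rfl, h⟩)⟩ :=
      kp_num3_sorted_h9 m n₃ n₂ n₁ b₃ b₂ b₁ hn₃ hn₂ hn₁ h₃ h₂ h₁ (by omega) h23 h12 <;> simp [h]

/-- three classes exhausting the group: all `e = 2` and the `(2,2,n)`, `(2,3,3)`, `(2,3,4)`,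
`(2,3,5)` alternatives. -/
theorem kp_num3e_h9 (h n₁ b₁ e₁ n₂ b₂ e₂ n₃ b₃ e₃ : ℕ) (hn₁ : 1 ≤ n₁) (hn₂ : 1 ≤ n₂)
    (hn₃ : 1 ≤ n₃) (he₁ : e₁ = 1 ∨ e₁ = 2) (he₂ : e₂ = 1 ∨ e₂ = 2) (he₃ : e₃ = 1 ∨ e₃ = 2)
    (hh₁ : h = n₁ * (e₁ * (b₁ + 2))) (hh₂ : h = n₂ * (e₂ * (b₂ + 2)))
    (hh₃ : h = n₃ * (e₃ * (b₃ + 2)))
    (hu : n₁ * (b₁ + 1) + n₂ * (b₂ + 1) + n₃ * (b₃ + 1) + 1 = h) :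
    e₁ = 2 ∧ e₂ = 2 ∧ e₃ = 2 ∧ ∃ m, h = 2 * m ∧
    ((n₁ = 1 ∧ b₂ = 0 ∧ b₃ = 0) ∨ (n₂ = 1 ∧ b₁ = 0 ∧ b₃ = 0) ∨ (n₃ = 1 ∧ b₁ = 0 ∧ b₂ = 0) ∨
    (m = 6 ∧ ((b₁ = 1 ∧ b₂ = 1) ∨ (b₁ = 1 ∧ b₃ = 1) ∨ (b₂ = 1 ∧ b₃ = 1))) ∨
    (m = 12 ∧ (b₁ = 1 ∨ b₂ = 1 ∨ b₃ = 1) ∧ b₁ ≤ 2 ∧ b₂ ≤ 2 ∧ b₃ ≤ 2) ∨
    (m = 30 ∧ ((b₁ = 0 ∧ b₂ = 1 ∧ b₃ = 3) ∨ (b₁ = 0 ∧ b₂ = 3 ∧ b₃ = 1) ∨
      (b₁ = 1 ∧ b₂ = 0 ∧ b₃ = 3) ∨ (b₁ = 1 ∧ b₂ = 3 ∧ b₃ = 0) ∨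
      (b₁ = 3 ∧ b₂ = 0 ∧ b₃ = 1) ∨ (b₁ = 3 ∧ b₂ = 1 ∧ b₃ = 0)))) := by
  obtain ⟨f1, g1⟩ := kp_four_h9 h n₁ b₁ e₁ he₁ hh₁
  obtain ⟨f2, g2⟩ := kp_four_h9 h n₂ b₂ e₂ he₂ hh₂
  obtain ⟨f3, g3⟩ := kp_four_h9 h n₃ b₃ e₃ he₃ hh₃
  have E1 : e₁ = 2 := by
    rcases he₁ with h1 | h1
    · have := g1 h1; omega
    · exact h1
  have E2 : e₂ = 2 := by
    rcases he₂ with h1 | h1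
    · have := g2 h1; omega
    · exact h1
  have E3 : e₃ = 2 := by
    rcases he₃ with h1 | h1
    · have := g3 h1; omega
    · exact h1
  subst E1 E2 E3
  refine ⟨rfl, rfl, rfl, n₁ * (b₁ + 2), by rw [hh₁]; ring, ?_⟩
  have q2 : n₁ * (b₁ + 2) = n₂ * (b₂ + 2) := by
    have a1 : n₁ * (2 * (b₁ + 2)) = 2 * (n₁ * (b₁ + 2)) := by ring
    have a2 : n₂ * (2 * (b₂ + 2)) = 2 * (n₂ * (b₂ + 2)) := by ring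
    rw [a1] at hh₁; rw [a2] at hh₂
    omega
  have q3 : n₁ * (b₁ + 2) = n₃ * (b₃ + 2) := by
    have a1 : n₁ * (2 * (b₁ + 2)) = 2 * (n₁ * (b₁ + 2)) := by ring
    have a2 : n₃ * (2 * (b₃ + 2)) = 2 * (n₃ * (b₃ + 2)) := by ring
    rw [a1] at hh₁; rw [a2] at hh₃
    omega
  apply kp_num3_h9 _ n₁ n₂ n₃ b₁ b₂ b₃ hn₁ hn₂ hn₃ rfl q2 q3
  have a1 : n₁ * (2 * (b₁ + 2)) = 2 * (n₁ * b₁) + 4 * n₁ := by ring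
  have a2 : n₂ * (2 * (b₂ + 2)) = 2 * (n₂ * b₂) + 4 * n₂ := by ring
  have a3 : n₃ * (2 * (b₃ + 2)) = 2 * (n₃ * b₃) + 4 * n₃ := by ring
  have c1 : n₁ * (b₁ + 1) = n₁ * b₁ + n₁ := by ring
  have c2 : n₂ * (b₂ + 1) = n₂ * b₂ + n₂ := by ring
  have c3 : n₃ * (b₃ + 1) = n₃ * b₃ + n₃ := by ring
  have d1 : n₁ * (b₁ + 2) = n₁ * b₁ + 2 * n₁ := by ring
  rw [a1] at hh₁; rw [a2] at hh₂; rw [a3] at hh₃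
  rw [c1, c2, c3] at hu
  rw [d1]
  generalize n₁ * b₁ = P1 at *
  generalize n₂ * b₂ = P2 at *
  generalize n₃ * b₃ = P3 at *
  omega

end Cfsg.Agent.Helper9
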