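import Mathlib

/-!
# Groups partitioned by cyclic subgroups of index at most two in their normalizers (helper9)

Abstract setting for Klein's classification of the finite subgroups of `PSL(2)` of order prime
to the characteristic: a conjugation-invariant family `τ y` of cyclic subgroups forming a
partition, each of index at most two in its normalizer.  This file: the class equation.
-/

set_option autoImplicit false

namespace Cfsg.Agent.Helper9

/-- A conjugation-invariant partition of a group into cyclic subgroups `τ y`, each of index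
at most 2 in its normalizer. -/
structure KPart_h9 (Y : Type*) [Group Y] where
  τ : Y → Subgroup Y
  h_mem : ∀ y, y ∈ τ y
  h_cyc : ∀ y, y ≠ 1 → IsCyclic (τ y)
  h_part : ∀ y z, y ≠ 1 → z ∈ τ y → z ≠ 1 → τ z = τ y
  h_conj : ∀ g y z, z ∈ τ y ↔ g * z * g⁻¹ ∈ τ (g * y * g⁻¹)
  h_norm : ∀ y, y ≠ 1 → Nat.card (Subgroup.normalizer (τ y : Set Y)) ≤ 2 * Nat.card (τ y)

namespace KPart_h9

variable {Y : Type*} [Group Y] (K : KPart_h9 Y)

/-- `z` lies in a conjugate of `τ y`. -/
def rel (y z : Y) : Prop := ∃ g, g * z * g⁻¹ ∈ K.τ y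

theorem rel_refl (y : Y) : K.rel y y := ⟨1, by simpa using K.h_mem y⟩

theorem conj_ne_one {g z : Y} (hz : z ≠ 1) : g * z * g⁻¹ ≠ 1 := by
  intro h
  apply hz
  have : z = g⁻¹ * (g * z * g⁻¹) * g := by group
  rw [this, h]; group

theorem rel_symm {y z : Y} (hy : y ≠ 1) (hz : z ≠ 1) (h : K.rel y z) : K.rel z y := by
  obtain ⟨g, hg⟩ := h
  have h1 := K.h_part y (g * z * g⁻¹) hy hg (conj_ne_one hz)
  have h2 : y ∈ K.τ (g * z * g⁻¹) := by rw [h1]; exact K.h_mem y
  have h3 := (K.h_conj g⁻¹ (g * z * g⁻¹) y).mp h2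
  refine ⟨g⁻¹, ?_⟩
  have e : g⁻¹ * (g * z * g⁻¹) * g⁻¹⁻¹ = z := by group
  rwa [e] at h3

theorem rel_trans {y z w : Y} (hy : y ≠ 1) (hz : z ≠ 1) (_hw : w ≠ 1) (h1 : K.rel y z)
    (h2 : K.rel z w) : K.rel y w := by
  obtain ⟨g, hg⟩ := h1
  obtain ⟨k, hk⟩ := h2
  have e2 := K.h_part y (g * z * g⁻¹) hy hg (conj_ne_one hz)
  have h3 := (K.h_conj g z (k * w * k⁻¹)).mp hk
  rw [e2] at h3
  refine ⟨g * k, ?_⟩
  have e : g * k * w * (g * k)⁻¹ = g * (k * w * k⁻¹) * g⁻¹ := by group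
  rw [e]; exact h3

theorem fiber_iff {y z g₀ : Y} (hy : y ≠ 1) (hz : z ≠ 1) (h0 : g₀ * z * g₀⁻¹ ∈ K.τ y) (g : Y) :
    g * z * g⁻¹ ∈ K.τ y ↔ g * g₀⁻¹ ∈ Subgroup.normalizer (K.τ y : Set Y) := by
  have hw1 : g₀ * z * g₀⁻¹ ≠ 1 := conj_ne_one hz
  have hτ := K.h_part y _ hy h0 hw1
  have e : g * z * g⁻¹ = (g * g₀⁻¹) * (g₀ * z * g₀⁻¹) * (g * g₀⁻¹)⁻¹ := by group
  constructor
  · intro h
    rw [Subgroup.mem_normalizer_iff]
    intro u
    have hτ2 := K.h_part y _ hy h (conj_ne_one hz)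
    have h5 := K.h_conj (g * g₀⁻¹) (g₀ * z * g₀⁻¹) u
    rw [← e, hτ2, hτ] at h5
    exact h5
  · intro h
    rw [e]
    exact (Subgroup.mem_normalizer_iff.mp h _).mp h0

open Classical in
/-- The class equation for one class. -/
theorem card_class [Finite Y] {y : Y} (hy : y ≠ 1) :
    Nat.card {z : Y // z ≠ 1 ∧ K.rel y z} * Nat.card (Subgroup.normalizer (K.τ y : Set Y))
      = Nat.card Y * (Nat.card (K.τ y) - 1) := by
  have := Fintype.ofFinite Y
  have key := Finset.sum_card_bipartiteAbove_eq_sum_card_bipartiteBelow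
    (s := (Finset.univ : Finset Y)) (t := (Finset.univ : Finset Y))
    (fun g z => z ≠ 1 ∧ g * z * g⁻¹ ∈ K.τ y)
  have hL : ∀ g : Y, (Finset.univ.bipartiteAbove (fun g z => z ≠ 1 ∧ g * z * g⁻¹ ∈ K.τ y) g).card
      = Nat.card (K.τ y) - 1 := by
    intro g
    unfold Finset.bipartiteAbove
    rw [← Fintype.card_subtype, ← Nat.card_eq_fintype_card]
    have h1 : Nat.card {z : Y // z ≠ 1 ∧ g * z * g⁻¹ ∈ K.τ y}
        = Nat.card (((K.τ y : Set Y) \ {1} : Set Y)) := by
      apply Nat.card_congr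
      refine Equiv.subtypeEquiv (MulAut.conj g).toEquiv (fun z => ?_)
      simp only [MulEquiv.toEquiv_eq_coe, EquivLike.coe_coe, MulAut.conj_apply, Set.mem_sdiff,
        SetLike.mem_coe, Set.mem_singleton_iff]
      constructor
      · rintro ⟨h1, h2⟩
        exact ⟨h2, conj_ne_one h1⟩
      · rintro ⟨h1, h2⟩
        refine ⟨fun h => h2 (by rw [h]; group), h1⟩
    rw [h1, Nat.card_coe_set_eq, Set.ncard_sdiff_singleton_of_mem (by simp),
      ← Nat.card_coe_set_eq]
    rfl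
  have hR : ∀ z : Y, (Finset.univ.bipartiteBelow (fun g z => z ≠ 1 ∧ g * z * g⁻¹ ∈ K.τ y) z).card
      = if (z ≠ 1 ∧ K.rel y z) then Nat.card (Subgroup.normalizer (K.τ y : Set Y)) else 0 := by
    intro z
    unfold Finset.bipartiteBelow
    split_ifs with hz
    · obtain ⟨hz1, g₀, hg₀⟩ := hz
      rw [← Fintype.card_subtype, ← Nat.card_eq_fintype_card]
      apply Nat.card_congr
      refine Equiv.subtypeEquiv (Equiv.mulRight g₀⁻¹) (fun g => ?_)
      simp only [Equiv.coe_mulRight]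
      rw [← K.fiber_iff hy hz1 hg₀ g]
      exact ⟨fun h => h.2, fun h => ⟨hz1, h⟩⟩
    · rw [Finset.card_eq_zero, Finset.filter_eq_empty_iff]
      intro g _ hg
      exact hz ⟨hg.1, g, hg.2⟩
  rw [Finset.sum_congr rfl (fun g _ => hL g), Finset.sum_congr rfl (fun z _ => hR z),
    Finset.sum_const, Finset.sum_ite, Finset.sum_const_zero, add_zero, Finset.sum_const,
    smul_eq_mul, smul_eq_mul, Finset.card_univ, ← Nat.card_eq_fintype_card,
    ← Fintype.card_subtype, ← Nat.card_eq_fintype_card] at key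
  exact key.symm

/-- Numerical data of a class. -/
theorem class_data [Finite Y] {y : Y} (hy : y ≠ 1) :
    ∃ n b e : ℕ, 1 ≤ n ∧ (e = 1 ∨ e = 2) ∧ Nat.card (K.τ y) = b + 2 ∧
      Nat.card (Subgroup.normalizer (K.τ y : Set Y)) = e * (b + 2) ∧
      Nat.card Y = n * (e * (b + 2)) ∧ Nat.card {z : Y // z ≠ 1 ∧ K.rel y z} = n * (b + 1) := by
  have ha2 : 2 ≤ Nat.card (K.τ y) := by
    have : 1 < Nat.card (K.τ y) := by
      rw [Subgroup.one_lt_card_iff_ne_bot]
      intro h
      have := K.h_mem y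
      rw [h, Subgroup.mem_bot] at this
      exact hy this
    omega
  obtain ⟨b, hb⟩ := Nat.exists_eq_add_of_le ha2
  have hb' : Nat.card (K.τ y) = b + 2 := by omega
  obtain ⟨e, he⟩ := Subgroup.card_dvd_of_le (Subgroup.le_normalizer (H := K.τ y))
  have hNpos : 0 < Nat.card (Subgroup.normalizer (K.τ y : Set Y)) := Nat.card_pos
  have hle := K.h_norm y hy
  rw [hb'] at he hle
  have he12 : e = 1 ∨ e = 2 := by
    have h0 : e ≠ 0 := by
      rintro rfl
      rw [he] at hNpos; simp at hNpos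
    have h2 : e ≤ 2 := by
      rw [he, mul_comm 2] at hle
      exact Nat.le_of_mul_le_mul_left hle (by omega)
    omega
  obtain ⟨n, hn⟩ := Subgroup.card_subgroup_dvd_card (Subgroup.normalizer (K.τ y : Set Y))
  have hYpos : 0 < Nat.card Y := Nat.card_pos
  have hn1 : 1 ≤ n := by
    rcases Nat.eq_zero_or_pos n with h | h
    · rw [h] at hn; omega
    · exact h
  have hc := K.card_class hy
  rw [hb', hn] at hc
  have hN' : Nat.card (Subgroup.normalizer (K.τ y : Set Y)) = e * (b + 2) := by rw [he, mul_comm]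
  refine ⟨n, b, e, hn1, he12, hb', hN', ?_, ?_⟩
  · rw [hn, hN', mul_comm]
  · have e1 : b + 2 - 1 = b + 1 := by omega
    rw [e1, mul_comm, mul_assoc] at hc
    exact Nat.eq_of_mul_eq_mul_left hNpos hc

end KPart_h9

end Cfsg.Agent.Helper9
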