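import Mathlib
import Cfsg.Agent.Helper9.Part1
import Cfsg.Agent.Helper9.Recog
import Cfsg.Agent.Helper9.KleinRec
import Cfsg.Agent.Helper9.SL2l
import Cfsg.Agent.S0494

/-!
# Identification lemmas for Klein partitions (helper9)
-/

set_option autoImplicit false

namespace Cfsg.Agent.Helper9

/-- squares of elements of `H` lie in the subgroup `T` of index two. -/
theorem sq_mem_h9 {G : Type*} [Group G] [Finite G] (T H : Subgroup G) (hTH : T ≤ H)
    (hc : Nat.card H = 2 * Nat.card T) (x : G) (hx : x ∈ H) : x ^ 2 ∈ T := by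
  have h1 := Subgroup.card_mul_index (T.subgroupOf H)
  have h2 : Nat.card (T.subgroupOf H) = Nat.card T :=
    Nat.card_congr (Subgroup.subgroupOfEquivOfLe hTH).toEquiv
  rw [h2, hc] at h1
  have hpos : 0 < Nat.card T := Nat.card_pos
  have h3 : (T.subgroupOf H).index = 2 := by
    have : Nat.card T * (T.subgroupOf H).index = Nat.card T * 2 := by rw [h1]; ring
    exact Nat.eq_of_mul_eq_mul_left hpos this
  have h4 := Subgroup.sq_mem_of_index_two h3 (⟨x, hx⟩ : H)
  exact Subgroup.mem_subgroupOf.mp h4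

theorem eq_sq_sq_h9 {G : Type*} [Group G] (x : G) (h : x ^ 3 = 1) : x = (x ^ 2) ^ 2 := by
  rw [← pow_mul]
  show x = x ^ 4
  rw [pow_succ, h, one_mul]

theorem pow_card_mem_h9 {G : Type*} [Group G] (H : Subgroup G) [Finite H] (x : G) (hx : x ∈ H) :
    x ^ Nat.card H = 1 := by
  have := pow_card_eq_one' (G := H) (x := ⟨x, hx⟩)
  exact congrArg Subtype.val this

/-- order 12 with a self-normalizing subgroup of order 3: `A₄`. -/
theorem a4_of_self_norm_h9 {G : Type*} [Group G] [Finite G] (T : Subgroup G)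
    (hG : Nat.card G = 12) (hT : Nat.card T = 3)
    (hN : Nat.card (Subgroup.normalizer (T : Set G)) = 3) :
    Nonempty (G ≃* alternatingGroup (Fin 4)) := by
  classical
  let φ := MulAction.toPermHom G (G ⧸ T)
  have hidx : Nat.card (G ⧸ T) = 4 := by
    have h1 := Subgroup.card_eq_card_quotient_mul_card_subgroup T
    rw [hG, hT] at h1
    omega
  have hkerT : φ.ker ≤ T := by
    have : φ.ker = T.normalCore := (Subgroup.normalCore_eq_ker _).symm
    rw [this]; exact Subgroup.normalCore_le _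
  have hker : φ.ker = ⊥ := by
    by_contra hne
    have h1 := Subgroup.card_dvd_of_le hkerT
    rw [hT] at h1
    have h2 : Nat.card φ.ker ≠ 1 := fun h => hne (Subgroup.card_eq_one.mp h)
    have h3 : Nat.card φ.ker = 3 := by
      rcases (Nat.dvd_prime (by norm_num : Nat.Prime 3)).mp h1 with h | h
      · exact absurd h h2
      · exact h
    have h4 : φ.ker = T := Subgroup.eq_of_le_of_card_ge hkerT (by rw [h3, hT])
    have h5 : T.Normal := h4 ▸ MonoidHom.normal_ker φ
    have h6 : Subgroup.normalizer (T : Set G) = ⊤ := Subgroup.normalizer_eq_top_iff.mpr h5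
    rw [h6, Subgroup.card_top, hG] at hN
    omega
  have hinj : Function.Injective φ := (MonoidHom.ker_eq_bot_iff _).mp hker
  have : Finite (G ⧸ T) := Nat.finite_of_card_ne_zero (by rw [hidx]; norm_num)
  let e : (G ⧸ T) ≃ Fin 4 := Finite.equivFinOfCardEq hidx
  let ψ : G →* Equiv.Perm (Fin 4) := (Equiv.permCongrHom e).toMonoidHom.comp φ
  have hψ : Function.Injective ψ := (Equiv.permCongrHom e).injective.comp hinj
  have hr : Nat.card ψ.range = 12 := by
    rw [← hG]
    exact Nat.card_congr (MonoidHom.ofInjective hψ).toEquiv.symm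
  have hrA := perm4_card_twelve_h9 ψ.range hr
  exact ⟨(MonoidHom.ofInjective hψ).trans (MulEquiv.subgroupCongr hrA)⟩

namespace KPart_h9

variable {Y : Type*} [Group Y] [Finite Y] (K : KPart_h9 Y)

theorem cyclic_of_card {y : Y} (hy : y ≠ 1) (h : Nat.card (K.τ y) = Nat.card Y) :
    K.τ y = ⊤ ∧ IsCyclic Y := by
  have htop : K.τ y = ⊤ := Subgroup.eq_top_of_card_eq _ h
  refine ⟨htop, ?_⟩
  have := K.h_cyc y hy
  have hs : Function.Surjective (K.τ y).subtype := by
    intro z
    exact ⟨⟨z, by rw [htop]; exact Subgroup.mem_top z⟩, rfl⟩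
  exact isCyclic_of_surjective (K.τ y).subtype hs

theorem mem_of_rel_of_normal {y z : Y}
    (h : Nat.card (Subgroup.normalizer (K.τ y : Set Y)) = Nat.card Y) (hz : K.rel y z) :
    z ∈ K.τ y := by
  obtain ⟨g, hg⟩ := hz
  have htop : Subgroup.normalizer (K.τ y : Set Y) = ⊤ := Subgroup.eq_top_of_card_eq _ h
  have hg' : g⁻¹ ∈ Subgroup.normalizer (K.τ y : Set Y) := by rw [htop]; exact Subgroup.mem_top _
  have := (Subgroup.mem_normalizer_iff.mp hg' _).mp hg
  have e : g⁻¹ * (g * z * g⁻¹) * g⁻¹⁻¹ = z := by group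
  rwa [e] at this

theorem dihedral_of {y : Y} (hy : y ≠ 1) (hcard : Nat.card Y = 2 * Nat.card (K.τ y))
    (hinv : ∀ z, z ∉ K.τ y → z * z = 1) :
    Nonempty (Y ≃* DihedralGroup (Nat.card (K.τ y))) := by
  have := K.h_cyc y hy
  obtain ⟨c, hc⟩ := IsCyclic.exists_generator (α := K.τ y)
  have hord : orderOf (c : Y) = Nat.card (K.τ y) := by
    rw [Subgroup.orderOf_coe]
    exact orderOf_eq_card_of_forall_mem_zpowers hc
  have hpos : 0 < Nat.card (K.τ y) := Nat.card_pos
  have : NeZero (Nat.card (K.τ y)) := ⟨hpos.ne'⟩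
  obtain ⟨b, hb⟩ : ∃ b, b ∉ K.τ y := by
    by_contra hall
    have hall' : ∀ b, b ∈ K.τ y := by
      intro b
      by_contra hb
      exact hall ⟨b, hb⟩
    have htop : K.τ y = ⊤ := by
      rw [eq_top_iff]; intro b _; exact hall' b
    have := (Subgroup.card_eq_iff_eq_top _).mpr htop
    omega
  have hbb := hinv b hb
  have hbc : b * (c : Y) ∉ K.τ y := by
    intro h
    apply hb
    have : b = b * (c : Y) * (c : Y)⁻¹ := by group
    rw [this]
    exact (K.τ y).mul_mem h ((K.τ y).inv_mem c.2)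
  have hbcbc := hinv _ hbc
  have hbinv : b⁻¹ = b := inv_eq_of_mul_eq_one_left hbb
  have hab : b * (c : Y) * b⁻¹ = (c : Y)⁻¹ := by
    rw [hbinv]
    apply eq_inv_of_mul_eq_one_left
    calc b * (c : Y) * b * (c : Y) = b * (c : Y) * (b * (c : Y)) := by group
      _ = 1 := hbcbc
  have hnot : b ∉ Subgroup.zpowers (c : Y) := by
    intro h
    apply hb
    have hle : Subgroup.zpowers (c : Y) ≤ K.τ y := by
      rw [Subgroup.zpowers_le]; exact c.2
    exact hle h
  exact dihedral_equiv_of (Nat.card (K.τ y)) (c : Y) b hord hbb hab hnot hcard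

/-- the `(2,3,3)` configuration is impossible. -/
theorem rel_of_233 {y y' : Y} (hY : Nat.card Y = 12) (hT : Nat.card (K.τ y) = 3)
    (hT' : Nat.card (K.τ y') = 3)
    (hN : Nat.card (Subgroup.normalizer (K.τ y : Set Y)) = 6) : K.rel y y' := by
  have h3 : y' ^ 3 = 1 := by
    have := pow_card_mem_h9 (K.τ y') y' (K.h_mem y')
    rwa [hT'] at this
  have e4 : y' = (y' ^ 2) ^ 2 := eq_sq_sq_h9 _ h3
  have h1 : y' ^ 2 ∈ Subgroup.normalizer (K.τ y : Set Y) := by
    have := sq_mem_h9 (Subgroup.normalizer (K.τ y : Set Y)) ⊤ le_top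
      (by rw [Subgroup.card_top, hY, hN]) y' (Subgroup.mem_top _)
    exact this
  have h2 : y' ^ 2 ∈ Subgroup.normalizer (K.τ y : Set Y) := h1
  have h5 : (y' ^ 2) ^ 2 ∈ Subgroup.normalizer (K.τ y : Set Y) := Subgroup.pow_mem _ h2 2
  have h6 := sq_mem_h9 (K.τ y) (Subgroup.normalizer (K.τ y : Set Y)) Subgroup.le_normalizer
    (by rw [hN, hT]) (y' ^ 2) h2
  rw [← e4] at h6
  exact ⟨1, by simpa using h6⟩

/-- the `(2,3,4)` configuration: `S₄`. -/
theorem s4_of {y : Y} (hY : Nat.card Y = 24) (hT : Nat.card (K.τ y) = 3)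
    (hN : Nat.card (Subgroup.normalizer (K.τ y : Set Y)) = 6)
    (hsmall : ∀ z, z ≠ 1 → Nat.card (K.τ z) ≤ 4) :
    Nonempty (Y ≃* Equiv.Perm (Fin 4)) := by
  classical
  let φ := MulAction.toPermHom Y (Y ⧸ Subgroup.normalizer (K.τ y : Set Y))
  have hidx : Nat.card (Y ⧸ Subgroup.normalizer (K.τ y : Set Y)) = 4 := by
    have h1 := Subgroup.card_eq_card_quotient_mul_card_subgroup
      (Subgroup.normalizer (K.τ y : Set Y))
    rw [hY, hN] at h1
    omega
  have hkerN : φ.ker ≤ Subgroup.normalizer (K.τ y : Set Y) := by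
    have : φ.ker = (Subgroup.normalizer (K.τ y : Set Y)).normalCore :=
      (Subgroup.normalCore_eq_ker _).symm
    rw [this]; exact Subgroup.normalCore_le _
  have hnormal : φ.ker.Normal := MonoidHom.normal_ker φ
  have hsq : ∀ x ∈ Subgroup.normalizer (K.τ y : Set Y), x ^ 2 ∈ K.τ y :=
    fun x hx => sq_mem_h9 (K.τ y) (Subgroup.normalizer (K.τ y : Set Y)) Subgroup.le_normalizer
      (by rw [hN, hT]) x hx
  have hker : φ.ker = ⊥ := by
    by_contra hne
    have h1 := Subgroup.card_dvd_of_le hkerN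
    rw [hN] at h1
    have h2 : Nat.card φ.ker ≠ 1 := fun h => hne (Subgroup.card_eq_one.mp h)
    by_cases h3 : 3 ∣ Nat.card φ.ker
    · have : Fact (Nat.Prime 3) := ⟨by norm_num⟩
      obtain ⟨z, hz⟩ := exists_prime_orderOf_dvd_card' (G := φ.ker) 3 h3
      have hz3 : (z : Y) ^ 3 = 1 := by
        have := pow_orderOf_eq_one z
        rw [hz] at this
        exact_mod_cast congrArg Subtype.val this
      have hz1 : (z : Y) ≠ 1 := by
        intro h
        have : z = 1 := Subtype.ext h
        rw [this, orderOf_one] at hz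
        norm_num at hz
      have hzN : (z : Y) ∈ Subgroup.normalizer (K.τ y : Set Y) := hkerN z.2
      have hzT : (z : Y) ∈ K.τ y := by
        have e4 : (z : Y) = ((z : Y) ^ 2) ^ 2 := eq_sq_sq_h9 _ hz3
        rw [e4]
        exact hsq _ (Subgroup.pow_mem _ hzN 2)
      have hzp : Subgroup.zpowers (z : Y) = K.τ y := by
        apply Subgroup.eq_of_le_of_card_ge
        · rw [Subgroup.zpowers_le]; exact hzT
        · rw [hT, Nat.card_zpowers, Subgroup.orderOf_coe, hz]
      have hTker : K.τ y ≤ φ.ker := by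
        have hle : Subgroup.zpowers (z : Y) ≤ φ.ker := by
          rw [Subgroup.zpowers_le]; exact z.2
        intro t ht
        apply hle
        rw [hzp]; exact ht
      have hall : ∀ g : Y, g ∈ Subgroup.normalizer (K.τ y : Set Y) := by
        intro g
        apply mem_normalizer_of_conj_mem_h9
        intro t ht
        have ht3 : t ^ 3 = 1 := by
          have := pow_card_mem_h9 (K.τ y) t ht
          rwa [hT] at this
        have hc3 : (g * t * g⁻¹) ^ 3 = 1 := by
          rw [conj_pow, ht3]; group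
        have hcN : g * t * g⁻¹ ∈ Subgroup.normalizer (K.τ y : Set Y) :=
          hkerN (hnormal.conj_mem t (hTker ht) g)
        have e4 : g * t * g⁻¹ = ((g * t * g⁻¹) ^ 2) ^ 2 := eq_sq_sq_h9 _ hc3
        rw [e4]
        exact hsq _ (Subgroup.pow_mem _ hcN 2)
      have htop : Subgroup.normalizer (K.τ y : Set Y) = ⊤ := by
        rw [eq_top_iff]; intro g _; exact hall g
      rw [htop, Subgroup.card_top, hY] at hN
      omega
    · have hc2 : Nat.card φ.ker = 2 := by
        have hle : Nat.card φ.ker ≤ 6 := Nat.le_of_dvd (by norm_num) h1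
        have hpos : 0 < Nat.card φ.ker := Nat.card_pos
        interval_cases hcc : Nat.card φ.ker <;> omega
      obtain ⟨z, hz1, hzu⟩ := (Nat.card_eq_two_iff' (1 : φ.ker)).mp hc2
      have hzY : (z : Y) ≠ 1 := fun h => hz1 (Subtype.ext h)
      have hcent : ∀ g : Y, g * (z : Y) * g⁻¹ = (z : Y) := by
        intro g
        have hm : g * (z : Y) * g⁻¹ ∈ φ.ker := hnormal.conj_mem _ z.2 g
        have hne1 : (⟨g * (z : Y) * g⁻¹, hm⟩ : φ.ker) ≠ 1 := by
          intro h
          exact conj_ne_one hzY (congrArg Subtype.val h)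
        exact congrArg Subtype.val (hzu _ hne1)
      have hall : ∀ g : Y, g ∈ Subgroup.normalizer (K.τ (z : Y) : Set Y) := by
        intro g
        rw [Subgroup.mem_normalizer_iff]
        intro u
        have := K.h_conj g (z : Y) u
        rw [hcent g] at this
        exact this
      have htop : Subgroup.normalizer (K.τ (z : Y) : Set Y) = ⊤ := by
        rw [eq_top_iff]; intro g _; exact hall g
      have h5 := K.h_norm (z : Y) hzY
      rw [htop, Subgroup.card_top, hY] at h5
      have := hsmall (z : Y) hzY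
      omega
  have hinj : Function.Injective φ := (MonoidHom.ker_eq_bot_iff _).mp hker
  have : Finite (Y ⧸ Subgroup.normalizer (K.τ y : Set Y)) :=
    Nat.finite_of_card_ne_zero (by rw [hidx]; norm_num)
  let e : (Y ⧸ Subgroup.normalizer (K.τ y : Set Y)) ≃ Fin 4 := Finite.equivFinOfCardEq hidx
  let ψ : Y →* Equiv.Perm (Fin 4) := (Equiv.permCongrHom e).toMonoidHom.comp φ
  have hψ : Function.Injective ψ := (Equiv.permCongrHom e).injective.comp hinj
  have hcardP : Nat.card (Equiv.Perm (Fin 4)) = 24 := by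
    rw [Nat.card_eq_fintype_card, Fintype.card_perm, Fintype.card_fin]; rfl
  have hbij : Function.Bijective ψ := by
    rw [Nat.bijective_iff_injective_and_card]
    exact ⟨hψ, by rw [hY, hcardP]⟩
  exact ⟨MulEquiv.ofBijective ψ hbij⟩

end KPart_h9

end Cfsg.Agent.Helper9
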