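import Mathlib
import Cfsg.Agent.Helper9.Part2
import Cfsg.Agent.Helper9.Part3

/-!
# Klein partitions: the classification (helper9)

A finite group with a Klein partition is cyclic, dihedral, `A₄`, `S₄` or `A₅`.
-/

set_option autoImplicit false

namespace Cfsg.Agent.Helper9

namespace KPart_h9

variable {Y : Type*} [Group Y] [Finite Y] (K : KPart_h9 Y)

/-- the class of `y`. -/
def cls (y : Y) : Set Y := {z | z ≠ 1 ∧ K.rel y z}

theorem ncard_cls {y : Y} (hy : y ≠ 1) :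
    ∃ n b e : ℕ, 1 ≤ n ∧ (e = 1 ∨ e = 2) ∧ Nat.card (K.τ y) = b + 2 ∧
      Nat.card (Subgroup.normalizer (K.τ y : Set Y)) = e * (b + 2) ∧
      Nat.card Y = n * (e * (b + 2)) ∧ (K.cls y).ncard = n * (b + 1) :=
  K.class_data hy

theorem cls_disjoint {y y' : Y} (hy : y ≠ 1) (hy' : y' ≠ 1) (h : ¬ K.rel y y') :
    Disjoint (K.cls y) (K.cls y') := by
  rw [Set.disjoint_left]
  rintro z ⟨hz1, hz⟩ ⟨-, hz'⟩
  exact h (K.rel_trans hy hz1 hy' hz (K.rel_symm hy' hz1 hz'))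

theorem cls_subset (y : Y) : K.cls y ⊆ ({1}ᶜ : Set Y) := by
  rintro z ⟨hz1, -⟩
  exact hz1

theorem ncard_compl_one : (({1}ᶜ : Set Y)).ncard = Nat.card Y - 1 := by
  rw [Set.ncard_compl, Set.ncard_singleton]

theorem sq_of_rel {y z : Y} (hT : Nat.card (K.τ y) = 2) (hz : K.rel y z) : z * z = 1 := by
  obtain ⟨g, hg⟩ := hz
  have h2 := pow_card_mem_h9 (K.τ y) _ hg
  rw [hT, conj_pow] at h2
  have : z ^ 2 = g⁻¹ * (g * z ^ 2 * g⁻¹) * g := by group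
  rw [← sq, this, h2]; group

theorem card_tau_conj (g z : Y) : Nat.card (K.τ (g * z * g⁻¹)) = Nat.card (K.τ z) := by
  symm
  apply Nat.card_congr
  refine Equiv.subtypeEquiv (MulAut.conj g).toEquiv (fun u => ?_)
  simp only [MulEquiv.toEquiv_eq_coe, EquivLike.coe_coe, MulAut.conj_apply]
  exact K.h_conj g z u

theorem card_tau_of_rel {y z : Y} (hy : y ≠ 1) (hz : z ≠ 1) (h : K.rel y z) :
    Nat.card (K.τ z) = Nat.card (K.τ y) := by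
  obtain ⟨g, hg⟩ := h
  rw [← K.card_tau_conj g z, K.h_part y _ hy hg (conj_ne_one hz)]

theorem cls_subset_of_mem {y : Y} (hy : y ≠ 1) (hp : (Nat.card (K.τ y)).Prime) (N : Subgroup Y)
    [hN : N.Normal] {z : Y} (hz : z ∈ K.cls y) (hzN : z ∈ N) : K.cls y ⊆ N := by
  obtain ⟨hz1, g, hg⟩ := hz
  have ht1 : g * z * g⁻¹ ≠ 1 := conj_ne_one hz1
  have htN : g * z * g⁻¹ ∈ N := hN.conj_mem z hzN g
  have hle : Subgroup.zpowers (g * z * g⁻¹) ≤ K.τ y := by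
    rw [Subgroup.zpowers_le]; exact hg
  have hcard : Nat.card (Subgroup.zpowers (g * z * g⁻¹)) = Nat.card (K.τ y) := by
    rcases (Nat.dvd_prime hp).mp (Subgroup.card_dvd_of_le hle) with h | h
    · exfalso
      have := Subgroup.card_eq_one.mp h
      rw [Subgroup.zpowers_eq_bot] at this
      exact ht1 this
    · exact h
  have heq : Subgroup.zpowers (g * z * g⁻¹) = K.τ y :=
    Subgroup.eq_of_le_of_card_ge hle (by rw [hcard])
  have hτN : K.τ y ≤ N := by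
    rw [← heq, Subgroup.zpowers_le]; exact htN
  rintro w ⟨-, k, hk⟩
  have := hN.conj_mem _ (hτN hk) k⁻¹
  have e : k⁻¹ * (k * w * k⁻¹) * k⁻¹⁻¹ = w := by group
  rw [e] at this
  exact this

/-- the `(2,3,5)` configuration: `A₅`. -/
theorem a5_of {y₁ y₂ y₃ : Y} (hy₁ : y₁ ≠ 1) (hy₂ : y₂ ≠ 1) (hy₃ : y₃ ≠ 1)
    (hY : Nat.card Y = 60)
    (hcov : ∀ z, z ≠ 1 → K.rel y₁ z ∨ K.rel y₂ z ∨ K.rel y₃ z)
    (h12 : ¬ K.rel y₁ y₂) (h13 : ¬ K.rel y₁ y₃) (h23 : ¬ K.rel y₂ y₃)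
    (b₁ b₂ b₃ n₁ n₂ n₃ : ℕ) (hT₁ : Nat.card (K.τ y₁) = b₁ + 2)
    (hT₂ : Nat.card (K.τ y₂) = b₂ + 2) (hT₃ : Nat.card (K.τ y₃) = b₃ + 2)
    (hh₁ : 60 = n₁ * (2 * (b₁ + 2))) (hh₂ : 60 = n₂ * (2 * (b₂ + 2)))
    (hh₃ : 60 = n₃ * (2 * (b₃ + 2)))
    (hu₁ : (K.cls y₁).ncard = n₁ * (b₁ + 1)) (hu₂ : (K.cls y₂).ncard = n₂ * (b₂ + 1))
    (hu₃ : (K.cls y₃).ncard = n₃ * (b₃ + 1))
    (hb : (b₁ = 0 ∧ b₂ = 1 ∧ b₃ = 3) ∨ (b₁ = 0 ∧ b₂ = 3 ∧ b₃ = 1) ∨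
      (b₁ = 1 ∧ b₂ = 0 ∧ b₃ = 3) ∨ (b₁ = 1 ∧ b₂ = 3 ∧ b₃ = 0) ∨
      (b₁ = 3 ∧ b₂ = 0 ∧ b₃ = 1) ∨ (b₁ = 3 ∧ b₂ = 1 ∧ b₃ = 0)) :
    Nonempty (Y ≃* alternatingGroup (Fin 5)) := by
  have hp₁ : (Nat.card (K.τ y₁)).Prime := by
    rw [hT₁]
    rcases hb with ⟨h, -, -⟩ | ⟨h, -, -⟩ | ⟨h, -, -⟩ | ⟨h, -, -⟩ | ⟨h, -, -⟩ | ⟨h, -, -⟩ <;>
      rw [h] <;> norm_num
  have hp₂ : (Nat.card (K.τ y₂)).Prime := by
    rw [hT₂]
    rcases hb with ⟨-, h, -⟩ | ⟨-, h, -⟩ | ⟨-, h, -⟩ | ⟨-, h, -⟩ | ⟨-, h, -⟩ | ⟨-, h, -⟩ <;>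
      rw [h] <;> norm_num
  have hp₃ : (Nat.card (K.τ y₃)).Prime := by
    rw [hT₃]
    rcases hb with ⟨-, -, h⟩ | ⟨-, -, h⟩ | ⟨-, -, h⟩ | ⟨-, -, h⟩ | ⟨-, -, h⟩ | ⟨-, -, h⟩ <;>
      rw [h] <;> norm_num
  have hU : (K.cls y₁).ncard = 15 ∧ (K.cls y₂).ncard = 20 ∧ (K.cls y₃).ncard = 24 ∨
      (K.cls y₁).ncard = 15 ∧ (K.cls y₂).ncard = 24 ∧ (K.cls y₃).ncard = 20 ∨
      (K.cls y₁).ncard = 20 ∧ (K.cls y₂).ncard = 15 ∧ (K.cls y₃).ncard = 24 ∨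
      (K.cls y₁).ncard = 20 ∧ (K.cls y₂).ncard = 24 ∧ (K.cls y₃).ncard = 15 ∨
      (K.cls y₁).ncard = 24 ∧ (K.cls y₂).ncard = 15 ∧ (K.cls y₃).ncard = 20 ∨
      (K.cls y₁).ncard = 24 ∧ (K.cls y₂).ncard = 20 ∧ (K.cls y₃).ncard = 15 := by
    rw [hu₁, hu₂, hu₃]
    rcases hb with ⟨rfl, rfl, rfl⟩ | ⟨rfl, rfl, rfl⟩ | ⟨rfl, rfl, rfl⟩ | ⟨rfl, rfl, rfl⟩ |
      ⟨rfl, rfl, rfl⟩ | ⟨rfl, rfl, rfl⟩ <;> omega
  have d12 := K.cls_disjoint hy₁ hy₂ h12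
  have d13 := K.cls_disjoint hy₁ hy₃ h13
  have d23 := K.cls_disjoint hy₂ hy₃ h23
  have hsimple : IsSimpleGroup Y := by
    haveI : Nontrivial Y := by
      rw [← Finite.one_lt_card_iff_nontrivial, hY]; norm_num
    refine ⟨fun N hN => ?_⟩
    have dich : ∀ y : Y, y ≠ 1 → (Nat.card (K.τ y)).Prime →
        (K.cls y ∩ (N : Set Y)).ncard = 0 ∨ (K.cls y ∩ (N : Set Y)).ncard = (K.cls y).ncard := by
      intro y hy hp
      by_cases hex : ∃ z, z ∈ K.cls y ∧ z ∈ N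
      · obtain ⟨z, hz, hzN⟩ := hex
        right
        have := K.cls_subset_of_mem hy hp N hz hzN
        rw [Set.inter_eq_left.mpr this]
      · left
        rw [Set.ncard_eq_zero]
        ext z
        simp only [Set.mem_inter_iff, SetLike.mem_coe, Set.mem_empty_iff_false, iff_false]
        rintro ⟨h1, h2⟩
        exact hex ⟨z, h1, h2⟩
    have hNset : (N : Set Y) = (({1} ∪ (K.cls y₁ ∩ (N : Set Y))) ∪ (K.cls y₂ ∩ (N : Set Y))) ∪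
        (K.cls y₃ ∩ (N : Set Y)) := by
      ext z
      simp only [Set.mem_union, Set.mem_singleton_iff, Set.mem_inter_iff, SetLike.mem_coe]
      constructor
      · intro hz
        by_cases hz1 : z = 1
        · left; left; left; exact hz1
        · rcases hcov z hz1 with h | h | h
          · left; left; right; exact ⟨⟨hz1, h⟩, hz⟩
          · left; right; exact ⟨⟨hz1, h⟩, hz⟩
          · right; exact ⟨⟨hz1, h⟩, hz⟩
      · rintro (((h | h) | h) | h)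
        · rw [h]; exact N.one_mem
        · exact h.2
        · exact h.2
        · exact h.2
    have hone : ∀ y : Y, Disjoint ({1} : Set Y) (K.cls y ∩ (N : Set Y)) := by
      intro y
      rw [Set.disjoint_left]
      rintro z hz ⟨⟨hz1, -⟩, -⟩
      exact hz1 hz
    have hcN : Nat.card N = 1 + (K.cls y₁ ∩ (N : Set Y)).ncard + (K.cls y₂ ∩ (N : Set Y)).ncard
        + (K.cls y₃ ∩ (N : Set Y)).ncard := by
      have e0 : Nat.card N = (N : Set Y).ncard := rfl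
      rw [e0]
      conv_lhs => rw [hNset]
      rw [Set.ncard_union_eq, Set.ncard_union_eq, Set.ncard_union_eq (hone y₁),
        Set.ncard_singleton]
      · rw [Set.disjoint_union_left]
        exact ⟨hone y₂, d12.mono Set.inter_subset_left Set.inter_subset_left⟩
      · rw [Set.disjoint_union_left, Set.disjoint_union_left]
        exact ⟨⟨hone y₃, d13.mono Set.inter_subset_left Set.inter_subset_left⟩,
          d23.mono Set.inter_subset_left Set.inter_subset_left⟩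
    have hdvd : Nat.card N ∣ 60 := hY ▸ Subgroup.card_subgroup_dvd_card N
    have hfin : Nat.card N = 1 ∨ Nat.card N = 60 := by
      rw [hcN] at hdvd ⊢
      rcases dich y₁ hy₁ hp₁ with c1 | c1 <;> rcases dich y₂ hy₂ hp₂ with c2 | c2 <;>
        rcases dich y₃ hy₃ hp₃ with c3 | c3 <;> rw [c1, c2, c3] at hdvd ⊢ <;>
        rcases hU with ⟨u1, u2, u3⟩ | ⟨u1, u2, u3⟩ | ⟨u1, u2, u3⟩ | ⟨u1, u2, u3⟩ |
          ⟨u1, u2, u3⟩ | ⟨u1, u2, u3⟩ <;>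
        (try rw [u1] at hdvd ⊢) <;> (try rw [u2] at hdvd ⊢) <;> (try rw [u3] at hdvd ⊢) <;>
        first
          | (left; rfl)
          | (right; rfl)
          | (exfalso; revert hdvd; norm_num)
    rcases hfin with h | h
    · left; exact Subgroup.card_eq_one.mp h
    · right; exact Subgroup.eq_top_of_card_eq _ (by rw [h, hY])
  exact Cfsg.Agent.S0494.result hY

end KPart_h9

end Cfsg.Agent.Helper9
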