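import Mathlib
import Cfsg.Agent.Helper9.Part4

/-!
# Klein partitions: the classification theorem (helper9)
-/

set_option autoImplicit false

namespace Cfsg.Agent.Helper9

namespace KPart_h9

variable {Y : Type*} [Group Y] [Finite Y] (K : KPart_h9 Y)

/-- A finite group with a Klein partition is trivial, equal to some `τ y` (cyclic), dihedral
(with `τ y` of index two), `A₄`, `S₄` or `A₅`. -/
theorem classify :
    ((∀ y : Y, y = 1) ∨ ∃ y, y ≠ 1 ∧ K.τ y = ⊤) ∨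
    (∃ y, y ≠ 1 ∧ Nat.card Y = 2 * Nat.card (K.τ y) ∧
      Nonempty (Y ≃* DihedralGroup (Nat.card (K.τ y)))) ∨
    Nonempty (Y ≃* alternatingGroup (Fin 4)) ∨ Nonempty (Y ≃* Equiv.Perm (Fin 4)) ∨
    Nonempty (Y ≃* alternatingGroup (Fin 5)) := by
  by_cases htriv : ∀ y : Y, y = 1
  · exact Or.inl (Or.inl htriv)
  obtain ⟨y₁, hy₁⟩ := not_forall.mp htriv
  obtain ⟨n₁, b₁, e₁, hn₁, he₁, hT₁, hN₁, hh₁, hu₁⟩ := K.ncard_cls hy₁
  have hYpos : 0 < Nat.card Y := Nat.card_pos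
  by_cases hc1 : ∀ z, z ≠ 1 → K.rel y₁ z
  · have hS : K.cls y₁ = ({1}ᶜ : Set Y) := by
      ext z
      exact ⟨fun h => h.1, fun h => ⟨h, hc1 z h⟩⟩
    have hsum : n₁ * (b₁ + 1) + 1 = Nat.card Y := by
      rw [← hu₁, hS, ncard_compl_one]; omega
    obtain ⟨rfl, rfl⟩ := kp_num1_h9 _ n₁ b₁ e₁ hn₁ he₁ hh₁ hsum
    left; right
    exact ⟨y₁, hy₁, (K.cyclic_of_card hy₁ (by rw [hT₁, hh₁]; ring)).1⟩
  obtain ⟨y₂, hy₂'⟩ := not_forall.mp hc1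
  obtain ⟨hy₂, h12⟩ := Classical.not_imp.mp hy₂'
  obtain ⟨n₂, b₂, e₂, hn₂, he₂, hT₂, hN₂, hh₂, hu₂⟩ := K.ncard_cls hy₂
  have d12 := K.cls_disjoint hy₁ hy₂ h12
  by_cases hc2 : ∀ z, z ≠ 1 → K.rel y₁ z ∨ K.rel y₂ z
  · have hS : K.cls y₁ ∪ K.cls y₂ = ({1}ᶜ : Set Y) := by
      ext z
      constructor
      · rintro (h | h) <;> exact h.1
      · intro h
        rcases hc2 z h with h' | h'
        · left; exact ⟨h, h'⟩
        · right; exact ⟨h, h'⟩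
    have hsum : n₁ * (b₁ + 1) + n₂ * (b₂ + 1) + 1 = Nat.card Y := by
      rw [← hu₁, ← hu₂, ← Set.ncard_union_eq d12, hS, ncard_compl_one]; omega
    rcases kp_num2_h9 _ n₁ b₁ e₁ n₂ b₂ e₂ hn₁ hn₂ he₁ he₂ hh₁ hh₂ hsum with
      ⟨rfl, rfl, (⟨rfl, rfl⟩ | ⟨rfl, h12'⟩)⟩ | ⟨rfl, rfl, (⟨rfl, rfl⟩ | ⟨rfl, h12'⟩)⟩
    · right; left
      refine ⟨y₂, hy₂, by rw [hT₂, hh₂]; ring, ?_⟩
      apply K.dihedral_of hy₂ (by rw [hT₂, hh₂]; ring)
      intro z hz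
      have hz1 : z ≠ 1 := by rintro rfl; exact hz (Subgroup.one_mem _)
      rcases hc2 z hz1 with h | h
      · exact K.sq_of_rel (by rw [hT₁]) h
      · exact absurd (K.mem_of_rel_of_normal (by rw [hN₂, hh₂]; ring) h) hz
    · right; right; left
      exact a4_of_self_norm_h9 (K.τ y₁) h12' (by rw [hT₁]) (by rw [hN₁])
    · right; left
      refine ⟨y₁, hy₁, by rw [hT₁, hh₁]; ring, ?_⟩
      apply K.dihedral_of hy₁ (by rw [hT₁, hh₁]; ring)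
      intro z hz
      have hz1 : z ≠ 1 := by rintro rfl; exact hz (Subgroup.one_mem _)
      rcases hc2 z hz1 with h | h
      · exact absurd (K.mem_of_rel_of_normal (by rw [hN₁, hh₁]; ring) h) hz
      · exact K.sq_of_rel (by rw [hT₂]) h
    · right; right; left
      exact a4_of_self_norm_h9 (K.τ y₂) h12' (by rw [hT₂]) (by rw [hN₂])
  obtain ⟨y₃, hy₃'⟩ := not_forall.mp hc2
  obtain ⟨hy₃, h3⟩ := Classical.not_imp.mp hy₃'
  obtain ⟨h13, h23⟩ := not_or.mp h3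
  obtain ⟨n₃, b₃, e₃, hn₃, he₃, hT₃, hN₃, hh₃, hu₃⟩ := K.ncard_cls hy₃
  have d13 := K.cls_disjoint hy₁ hy₃ h13
  have d23 := K.cls_disjoint hy₂ hy₃ h23
  have d123 : Disjoint (K.cls y₁ ∪ K.cls y₂) (K.cls y₃) :=
    Set.disjoint_union_left.mpr ⟨d13, d23⟩
  by_cases hc3 : ∀ z, z ≠ 1 → K.rel y₁ z ∨ K.rel y₂ z ∨ K.rel y₃ z
  · have hS : (K.cls y₁ ∪ K.cls y₂) ∪ K.cls y₃ = ({1}ᶜ : Set Y) := by
      ext z
      constructor
      · rintro ((h | h) | h) <;> exact h.1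
      · intro h
        rcases hc3 z h with h' | h' | h'
        · left; left; exact ⟨h, h'⟩
        · left; right; exact ⟨h, h'⟩
        · right; exact ⟨h, h'⟩
    have hsum : n₁ * (b₁ + 1) + n₂ * (b₂ + 1) + n₃ * (b₃ + 1) + 1 = Nat.card Y := by
      rw [← hu₁, ← hu₂, ← hu₃, ← Set.ncard_union_eq d12, ← Set.ncard_union_eq d123, hS,
        ncard_compl_one]
      omega
    obtain ⟨rfl, rfl, rfl, m, hm, hcases⟩ := kp_num3e_h9 _ n₁ b₁ e₁ n₂ b₂ e₂ n₃ b₃ e₃ hn₁ hn₂ hn₃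
      he₁ he₂ he₃ hh₁ hh₂ hh₃ hsum
    rcases hcases with ⟨rfl, rfl, rfl⟩ | ⟨rfl, rfl, rfl⟩ | ⟨rfl, rfl, rfl⟩ | ⟨rfl, hb⟩ |
      ⟨rfl, hb, hb1, hb2, hb3⟩ | ⟨rfl, hb⟩
    · right; left
      refine ⟨y₁, hy₁, by rw [hT₁, hh₁]; ring, ?_⟩
      apply K.dihedral_of hy₁ (by rw [hT₁, hh₁]; ring)
      intro z hz
      have hz1 : z ≠ 1 := by rintro rfl; exact hz (Subgroup.one_mem _)
      rcases hc3 z hz1 with h | h | h
      · exact absurd (K.mem_of_rel_of_normal (by rw [hN₁, hh₁]; ring) h) hz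
      · exact K.sq_of_rel (by rw [hT₂]) h
      · exact K.sq_of_rel (by rw [hT₃]) h
    · right; left
      refine ⟨y₂, hy₂, by rw [hT₂, hh₂]; ring, ?_⟩
      apply K.dihedral_of hy₂ (by rw [hT₂, hh₂]; ring)
      intro z hz
      have hz1 : z ≠ 1 := by rintro rfl; exact hz (Subgroup.one_mem _)
      rcases hc3 z hz1 with h | h | h
      · exact K.sq_of_rel (by rw [hT₁]) h
      · exact absurd (K.mem_of_rel_of_normal (by rw [hN₂, hh₂]; ring) h) hz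
      · exact K.sq_of_rel (by rw [hT₃]) h
    · right; left
      refine ⟨y₃, hy₃, by rw [hT₃, hh₃]; ring, ?_⟩
      apply K.dihedral_of hy₃ (by rw [hT₃, hh₃]; ring)
      intro z hz
      have hz1 : z ≠ 1 := by rintro rfl; exact hz (Subgroup.one_mem _)
      rcases hc3 z hz1 with h | h | h
      · exact K.sq_of_rel (by rw [hT₁]) h
      · exact K.sq_of_rel (by rw [hT₂]) h
      · exact absurd (K.mem_of_rel_of_normal (by rw [hN₃, hh₃]; ring) h) hz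
    · exfalso
      rcases hb with ⟨rfl, rfl⟩ | ⟨rfl, rfl⟩ | ⟨rfl, rfl⟩
      · exact h12 (K.rel_of_233 (by rw [hm]) (by rw [hT₁]) (by rw [hT₂]) (by rw [hN₁]))
      · exact h13 (K.rel_of_233 (by rw [hm]) (by rw [hT₁]) (by rw [hT₃]) (by rw [hN₁]))
      · exact h23 (K.rel_of_233 (by rw [hm]) (by rw [hT₂]) (by rw [hT₃]) (by rw [hN₂]))
    · right; right; right; left
      have hsmall : ∀ z, z ≠ 1 → Nat.card (K.τ z) ≤ 4 := by
        intro z hz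
        rcases hc3 z hz with h | h | h
        · rw [K.card_tau_of_rel hy₁ hz h, hT₁]; omega
        · rw [K.card_tau_of_rel hy₂ hz h, hT₂]; omega
        · rw [K.card_tau_of_rel hy₃ hz h, hT₃]; omega
      rcases hb with rfl | rfl | rfl
      · exact K.s4_of (y := y₁) (by rw [hm]) (by rw [hT₁]) (by rw [hN₁]) hsmall
      · exact K.s4_of (y := y₂) (by rw [hm]) (by rw [hT₂]) (by rw [hN₂]) hsmall
      · exact K.s4_of (y := y₃) (by rw [hm]) (by rw [hT₃]) (by rw [hN₃]) hsmall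
    · right; right; right; right
      exact K.a5_of hy₁ hy₂ hy₃ (by rw [hm]) hc3 h12 h13 h23 b₁ b₂ b₃ n₁ n₂ n₃ hT₁ hT₂ hT₃
        (by rw [← hh₁, hm]) (by rw [← hh₂, hm]) (by rw [← hh₃, hm]) hu₁ hu₂ hu₃ hb
  exfalso
  obtain ⟨y₄, hy₄'⟩ := not_forall.mp hc3
  obtain ⟨hy₄, h4⟩ := Classical.not_imp.mp hy₄'
  obtain ⟨h14, h4'⟩ := not_or.mp h4
  obtain ⟨h24, h34⟩ := not_or.mp h4'
  obtain ⟨n₄, b₄, e₄, hn₄, he₄, hT₄, hN₄, hh₄, hu₄⟩ := K.ncard_cls hy₄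
  have d14 := K.cls_disjoint hy₁ hy₄ h14
  have d24 := K.cls_disjoint hy₂ hy₄ h24
  have d34 := K.cls_disjoint hy₃ hy₄ h34
  have d1234 : Disjoint ((K.cls y₁ ∪ K.cls y₂) ∪ K.cls y₃) (K.cls y₄) :=
    Set.disjoint_union_left.mpr ⟨Set.disjoint_union_left.mpr ⟨d14, d24⟩, d34⟩
  have hsub : ((K.cls y₁ ∪ K.cls y₂) ∪ K.cls y₃) ∪ K.cls y₄ ⊆ ({1}ᶜ : Set Y) :=
    Set.union_subset (Set.union_subset (Set.union_subset (K.cls_subset y₁) (K.cls_subset y₂))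
      (K.cls_subset y₃)) (K.cls_subset y₄)
  have hle := Set.ncard_le_ncard hsub
  rw [Set.ncard_union_eq d1234, Set.ncard_union_eq d123, Set.ncard_union_eq d12, ncard_compl_one,
    hu₁, hu₂, hu₃, hu₄] at hle
  have f1 := (kp_four_h9 _ n₁ b₁ e₁ he₁ hh₁).1
  have f2 := (kp_four_h9 _ n₂ b₂ e₂ he₂ hh₂).1
  have f3 := (kp_four_h9 _ n₃ b₃ e₃ he₃ hh₃).1
  have f4 := (kp_four_h9 _ n₄ b₄ e₄ he₄ hh₄).1
  omega

/-- the first alternative of `classify` gives a cyclic group. -/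
theorem cyclic_of_first (h : (∀ y : Y, y = 1) ∨ ∃ y, y ≠ 1 ∧ K.τ y = ⊤) : IsCyclic Y := by
  rcases h with h | ⟨y, hy, hτ⟩
  · haveI : Subsingleton Y := ⟨fun a b => by rw [h a, h b]⟩
    infer_instance
  · exact (K.cyclic_of_card hy (by rw [hτ, Subgroup.card_top])).2

end KPart_h9

end Cfsg.Agent.Helper9
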