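import Mathlib
import Cfsg.Agent.Helper9.Part5

/-!
# Mixed partitions: a Sylow class together with Klein classes (helper9)

Abstract setting for Dickson's classification of the subgroups of `PSL(2, q)` of order divisible
by `p`: a conjugation-invariant partition `τ`, one class of which (that of `u`) consists of
Sylow-like subgroups, all others being of Klein type (index at most two in the normalizer).
This file: the class equation and the basic counting facts.
-/

set_option autoImplicit false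

namespace Cfsg.Agent.Helper9

/-- A conjugation-invariant partition of a group into subgroups `τ y`. -/
structure MPart_h9 (Y : Type*) [Group Y] where
  τ : Y → Subgroup Y
  h_mem : ∀ y, y ∈ τ y
  h_part : ∀ y z, y ≠ 1 → z ∈ τ y → z ≠ 1 → τ z = τ y
  h_conj : ∀ g y z, z ∈ τ y ↔ g * z * g⁻¹ ∈ τ (g * y * g⁻¹)

namespace MPart_h9

variable {Y : Type*} [Group Y] (K : MPart_h9 Y)

/-- `z` lies in a conjugate of `τ y`. -/
def rel (y z : Y) : Prop := ∃ g, g * z * g⁻¹ ∈ K.τ y

theorem rel_refl (y : Y) : K.rel y y := ⟨1, by simpa using K.h_mem y⟩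

theorem rel_symm {y z : Y} (hy : y ≠ 1) (hz : z ≠ 1) (h : K.rel y z) : K.rel z y := by
  obtain ⟨g, hg⟩ := h
  have h1 := K.h_part y (g * z * g⁻¹) hy hg (KPart_h9.conj_ne_one hz)
  have h2 : y ∈ K.τ (g * z * g⁻¹) := by rw [h1]; exact K.h_mem y
  have h3 := (K.h_conj g⁻¹ (g * z * g⁻¹) y).mp h2
  refine ⟨g⁻¹, ?_⟩
  have e : g⁻¹ * (g * z * g⁻¹) * g⁻¹⁻¹ = z := by group
  rwa [e] at h3

theorem rel_trans {y z w : Y} (hy : y ≠ 1) (hz : z ≠ 1) (h1 : K.rel y z)
    (h2 : K.rel z w) : K.rel y w := by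
  obtain ⟨g, hg⟩ := h1
  obtain ⟨k, hk⟩ := h2
  have e2 := K.h_part y (g * z * g⁻¹) hy hg (KPart_h9.conj_ne_one hz)
  have h3 := (K.h_conj g z (k * w * k⁻¹)).mp hk
  rw [e2] at h3
  refine ⟨g * k, ?_⟩
  have e : g * k * w * (g * k)⁻¹ = g * (k * w * k⁻¹) * g⁻¹ := by group
  rw [e]; exact h3

theorem fiber_iff {y z g₀ : Y} (hy : y ≠ 1) (hz : z ≠ 1) (h0 : g₀ * z * g₀⁻¹ ∈ K.τ y) (g : Y) :
    g * z * g⁻¹ ∈ K.τ y ↔ g * g₀⁻¹ ∈ Subgroup.normalizer (K.τ y : Set Y) := by
  have hw1 : g₀ * z * g₀⁻¹ ≠ 1 := KPart_h9.conj_ne_one hz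
  have hτ := K.h_part y _ hy h0 hw1
  have e : g * z * g⁻¹ = (g * g₀⁻¹) * (g₀ * z * g₀⁻¹) * (g * g₀⁻¹)⁻¹ := by group
  constructor
  · intro h
    rw [Subgroup.mem_normalizer_iff]
    intro u
    have hτ2 := K.h_part y _ hy h (KPart_h9.conj_ne_one hz)
    have h5 := K.h_conj (g * g₀⁻¹) (g₀ * z * g₀⁻¹) u
    rw [← e, hτ2, hτ] at h5
    exact h5
  · intro h
    rw [e]
    exact (Subgroup.mem_normalizer_iff.mp h _).mp h0

open Classical in
/-- The class equation for one class. -/
theorem card_class [Finite Y] {y : Y} (hy : y ≠ 1) :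
    Nat.card {z : Y // z ≠ 1 ∧ K.rel y z} * Nat.card (Subgroup.normalizer (K.τ y : Set Y))
      = Nat.card Y * (Nat.card (K.τ y) - 1) := by
  have := Fintype.ofFinite Y
  have key := Finset.sum_card_bipartiteAbove_eq_sum_card_bipartiteBelow
    (s := (Finset.univ : Finset Y)) (t := (Finset.univ : Finset Y))
    (fun g z => z ≠ 1 ∧ g * z * g⁻¹ ∈ K.τ y)
  have hL : ∀ g : Y, (Finset.univ.bipartiteAbove (fun g z => z ≠ 1 ∧ g * z * g⁻¹ ∈ K.τ y) g).card
      = Nat.card (K.τ y) - 1 := by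
    intro g
    unfold Finset.bipartiteAbove
    rw [← Fintype.card_subtype, ← Nat.card_eq_fintype_card]
    have h1 : Nat.card {z : Y // z ≠ 1 ∧ g * z * g⁻¹ ∈ K.τ y}
        = Nat.card (((K.τ y : Set Y) \ {1} : Set Y)) := by
      apply Nat.card_congr
      refine Equiv.subtypeEquiv (MulAut.conj g).toEquiv (fun z => ?_)
      simp only [MulEquiv.toEquiv_eq_coe, EquivLike.coe_coe, MulAut.conj_apply, Set.mem_sdiff,
        SetLike.mem_coe, Set.mem_singleton_iff]
      constructor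
      · rintro ⟨h1, h2⟩
        exact ⟨h2, KPart_h9.conj_ne_one h1⟩
      · rintro ⟨h1, h2⟩
        refine ⟨fun h => h2 (by rw [h]; group), h1⟩
    rw [h1, Nat.card_coe_set_eq, Set.ncard_sdiff_singleton_of_mem (by simp),
      ← Nat.card_coe_set_eq]
    rfl
  have hR : ∀ z : Y, (Finset.univ.bipartiteBelow (fun g z => z ≠ 1 ∧ g * z * g⁻¹ ∈ K.τ y) z).card
      = if (z ≠ 1 ∧ K.rel y z) then Nat.card (Subgroup.normalizer (K.τ y : Set Y)) else 0 := by
    intro z
    unfold Finset.bipartiteBelow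
    split_ifs with hz
    · obtain ⟨hz1, g₀, hg₀⟩ := hz
      rw [← Fintype.card_subtype, ← Nat.card_eq_fintype_card]
      apply Nat.card_congr
      refine Equiv.subtypeEquiv (Equiv.mulRight g₀⁻¹) (fun g => ?_)
      simp only [Equiv.coe_mulRight]
      rw [← K.fiber_iff hy hz1 hg₀ g]
      exact ⟨fun h => h.2, fun h => ⟨hz1, h⟩⟩
    · rw [Finset.card_eq_zero, Finset.filter_eq_empty_iff]
      intro g _ hg
      exact hz ⟨hg.1, g, hg.2⟩
  rw [Finset.sum_congr rfl (fun g _ => hL g), Finset.sum_congr rfl (fun z _ => hR z),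
    Finset.sum_const, Finset.sum_ite, Finset.sum_const_zero, add_zero, Finset.sum_const,
    smul_eq_mul, smul_eq_mul, Finset.card_univ, ← Nat.card_eq_fintype_card,
    ← Fintype.card_subtype, ← Nat.card_eq_fintype_card] at key
  exact key.symm

/-- the class of `y`. -/
def cls (y : Y) : Set Y := {z | z ≠ 1 ∧ K.rel y z}

theorem cls_disjoint {y y' : Y} (hy : y ≠ 1) (hy' : y' ≠ 1) (h : ¬ K.rel y y') :
    Disjoint (K.cls y) (K.cls y') := by
  rw [Set.disjoint_left]
  rintro z ⟨hz1, hz⟩ ⟨-, hz'⟩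
  exact h (K.rel_trans hy hz1 hz (K.rel_symm hy' hz1 hz'))

theorem cls_subset (y : Y) : K.cls y ⊆ ({1}ᶜ : Set Y) := by
  rintro z ⟨hz1, -⟩
  exact hz1

theorem cls_eq_of_rel {y y' : Y} (hy : y ≠ 1) (hy' : y' ≠ 1) (h : K.rel y y') :
    K.cls y' = K.cls y := by
  ext z
  constructor
  · rintro ⟨hz1, hz⟩
    exact ⟨hz1, K.rel_trans hy hy' h hz⟩
  · rintro ⟨hz1, hz⟩
    exact ⟨hz1, K.rel_trans hy' hy (K.rel_symm hy hy' h) hz⟩

theorem card_tau_conj (g z : Y) : Nat.card (K.τ (g * z * g⁻¹)) = Nat.card (K.τ z) := by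
  symm
  apply Nat.card_congr
  refine Equiv.subtypeEquiv (MulAut.conj g).toEquiv (fun u => ?_)
  simp only [MulEquiv.toEquiv_eq_coe, EquivLike.coe_coe, MulAut.conj_apply]
  exact K.h_conj g z u

theorem card_tau_of_rel {y z : Y} (hy : y ≠ 1) (hz : z ≠ 1) (h : K.rel y z) :
    Nat.card (K.τ z) = Nat.card (K.τ y) := by
  obtain ⟨g, hg⟩ := h
  rw [← K.card_tau_conj g z, K.h_part y _ hy hg (KPart_h9.conj_ne_one hz)]

/-- Numerical data of a Klein-type class. -/
theorem class_data [Finite Y] {y : Y} (hy : y ≠ 1)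
    (hle : Nat.card (Subgroup.normalizer (K.τ y : Set Y)) ≤ 2 * Nat.card (K.τ y)) :
    ∃ n b e : ℕ, 1 ≤ n ∧ (e = 1 ∨ e = 2) ∧ Nat.card (K.τ y) = b + 2 ∧
      Nat.card (Subgroup.normalizer (K.τ y : Set Y)) = e * (b + 2) ∧
      Nat.card Y = n * (e * (b + 2)) ∧ (K.cls y).ncard = n * (b + 1) := by
  have ha2 : 2 ≤ Nat.card (K.τ y) := by
    have : 1 < Nat.card (K.τ y) := by
      rw [Subgroup.one_lt_card_iff_ne_bot]
      intro h
      have := K.h_mem y
      rw [h, Subgroup.mem_bot] at this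
      exact hy this
    omega
  obtain ⟨b, hb⟩ := Nat.exists_eq_add_of_le ha2
  have hb' : Nat.card (K.τ y) = b + 2 := by omega
  obtain ⟨e, he⟩ := Subgroup.card_dvd_of_le (Subgroup.le_normalizer (H := K.τ y))
  have hNpos : 0 < Nat.card (Subgroup.normalizer (K.τ y : Set Y)) := Nat.card_pos
  rw [hb'] at he hle
  have he12 : e = 1 ∨ e = 2 := by
    have h0 : e ≠ 0 := by
      rintro rfl
      rw [he] at hNpos; simp at hNpos
    have h2 : e ≤ 2 := by
      rw [he, mul_comm 2] at hle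
      exact Nat.le_of_mul_le_mul_left hle (by omega)
    omega
  obtain ⟨n, hn⟩ := Subgroup.card_subgroup_dvd_card (Subgroup.normalizer (K.τ y : Set Y))
  have hYpos : 0 < Nat.card Y := Nat.card_pos
  have hn1 : 1 ≤ n := by
    rcases Nat.eq_zero_or_pos n with h | h
    · rw [h] at hn; omega
    · exact h
  have hc := K.card_class hy
  rw [hb', hn] at hc
  have hN' : Nat.card (Subgroup.normalizer (K.τ y : Set Y)) = e * (b + 2) := by rw [he, mul_comm]
  refine ⟨n, b, e, hn1, he12, hb', hN', ?_, ?_⟩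
  · rw [hn, hN', mul_comm]
  · have e1 : b + 2 - 1 = b + 1 := by omega
    rw [e1, mul_comm, mul_assoc] at hc
    exact Nat.eq_of_mul_eq_mul_left hNpos hc

/-- the class of the Sylow-like element `u`. -/
theorem ncard_cls_mul [Finite Y] {u : Y} (hu : u ≠ 1) :
    (K.cls u).ncard * Nat.card (Subgroup.normalizer (K.τ u : Set Y))
      = Nat.card Y * (Nat.card (K.τ u) - 1) :=
  K.card_class hu

/-- an element of the normalizer of `τ u` conjugating some nontrivial element of `τ u` into the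
normalizer. -/
theorem mem_normalizer_of_conj [Finite Y] {u : Y} (hu : u ≠ 1)
    (hS : ∀ x, x ∈ Subgroup.normalizer (K.τ u : Set Y) → x ≠ 1 → K.rel u x → x ∈ K.τ u)
    (x : Y) (hx : x ∈ K.τ u) (hx1 : x ≠ 1) (g : Y)
    (hg : g⁻¹ * x * g ∈ Subgroup.normalizer (K.τ u : Set Y)) :
    g ∈ Subgroup.normalizer (K.τ u : Set Y) := by
  have hx' : g⁻¹ * x * g ≠ 1 := by
    have := KPart_h9.conj_ne_one (g := g⁻¹) hx1
    rwa [inv_inv] at this
  have hrel : K.rel u (g⁻¹ * x * g) := ⟨g, by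
    have e : g * (g⁻¹ * x * g) * g⁻¹ = x := by group
    rw [e]; exact hx⟩
  have h1 := hS _ hg hx' hrel
  have hτ1 := K.h_part u _ hu h1 hx'
  have hτ2 := K.h_part u x hu hx hx1
  have hinv : g⁻¹ ∈ Subgroup.normalizer (K.τ u : Set Y) := by
    rw [Subgroup.mem_normalizer_iff]
    intro z
    have h5 := K.h_conj g⁻¹ x z
    rw [inv_inv, hτ1, hτ2] at h5
    rw [inv_inv]
    exact h5
  simpa using Subgroup.inv_mem _ hinv

open Classical in
/-- **Burnside congruence**: the number of conjugates of `τ u` is `≡ 1` modulo `|τ u|`. -/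
theorem index_congr [Finite Y] {u : Y} (hu : u ≠ 1)
    (hS : ∀ x, x ∈ Subgroup.normalizer (K.τ u : Set Y) → x ≠ 1 → K.rel u x → x ∈ K.τ u) :
    ∃ m : ℕ, (Subgroup.normalizer (K.τ u : Set Y)).index + (Nat.card (K.τ u) - 1)
      = m * Nat.card (K.τ u) := by
  have := Fintype.ofFinite Y
  let N := Subgroup.normalizer (K.τ u : Set Y)
  have hfix : ∀ x : K.τ u, x ≠ 1 →
      Fintype.card (MulAction.fixedBy (Y ⧸ N) x) = 1 := by
    intro x hx1
    rw [Fintype.card_eq_one_iff]
    refine ⟨⟨QuotientGroup.mk 1, ?_⟩, ?_⟩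
    · rw [MulAction.mem_fixedBy]
      show (x : Y) • (QuotientGroup.mk (1 : Y) : Y ⧸ N) = QuotientGroup.mk 1
      rw [MulAction.Quotient.smul_mk, QuotientGroup.eq]
      simp only [smul_eq_mul, mul_one]
      exact Subgroup.inv_mem _ (Subgroup.le_normalizer x.2)
    · rintro ⟨c, hc⟩
      apply Subtype.ext
      induction c using QuotientGroup.induction_on with
      | H g =>
        rw [MulAction.mem_fixedBy] at hc
        have hc' : (x : Y) • (QuotientGroup.mk g : Y ⧸ N) = QuotientGroup.mk g := hc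
        rw [MulAction.Quotient.smul_mk, QuotientGroup.eq] at hc'
        simp only [smul_eq_mul] at hc'
        have hx1' : (x : Y) ≠ 1 := fun h => hx1 (Subtype.ext h)
        have h2 : g⁻¹ * (x : Y) * g ∈ N := by
          have := Subgroup.inv_mem _ hc'
          have e : ((x : Y) * g)⁻¹ * g = (g⁻¹ * (x : Y) * g)⁻¹ := by group
          rw [e] at hc'
          simpa using Subgroup.inv_mem _ hc'
        have h3 := K.mem_normalizer_of_conj hu hS x x.2 hx1' g h2
        show (QuotientGroup.mk g : Y ⧸ N) = QuotientGroup.mk 1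
        rw [QuotientGroup.eq]
        simpa using Subgroup.inv_mem _ h3
  have hfix1 : Fintype.card (MulAction.fixedBy (Y ⧸ N) (1 : K.τ u)) = N.index := by
    rw [Subgroup.index, Nat.card_eq_fintype_card]
    apply Fintype.card_congr
    refine (Equiv.subtypeUnivEquiv ?_)
    intro c
    rw [MulAction.mem_fixedBy, one_smul]
  have hB := MulAction.sum_card_fixedBy_eq_card_orbits_mul_card_group (K.τ u) (Y ⧸ N)
  rw [← Finset.add_sum_erase Finset.univ _ (Finset.mem_univ (1 : K.τ u)), hfix1,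
    Finset.sum_congr rfl (fun x hx => hfix x (Finset.ne_of_mem_erase hx)), Finset.sum_const,
    Finset.card_erase_of_mem (Finset.mem_univ _), Finset.card_univ, smul_eq_mul, mul_one,
    ← Nat.card_eq_fintype_card (α := K.τ u)] at hB
  exact ⟨_, hB⟩

open Classical in
/-- the normalizer of `τ u` has order at most `|τ u| (|τ u| - 1)` when centralizers of `u`
lie in `τ u`. -/
theorem card_normalizer_le [Finite Y] {u : Y} (hu : u ≠ 1)
    (hC : ∀ n : Y, n * u = u * n → n ∈ K.τ u) :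
    Nat.card (Subgroup.normalizer (K.τ u : Set Y))
      ≤ Nat.card (K.τ u) * (Nat.card (K.τ u) - 1) := by
  have := Fintype.ofFinite Y
  let N := Subgroup.normalizer (K.τ u : Set Y)
  let s : Finset Y := Finset.univ.filter (fun n => n ∈ N)
  let f : Y → Y := fun n => n * u * n⁻¹
  have hs : s.card = Nat.card N := by
    rw [Nat.card_eq_fintype_card, Fintype.card_subtype]
  have hQ : (Finset.univ.filter (fun n => n ∈ K.τ u)).card = Nat.card (K.τ u) := by
    rw [Nat.card_eq_fintype_card, Fintype.card_subtype]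
  have himg : (s.image f).card ≤ Nat.card (K.τ u) - 1 := by
    have hsub : s.image f ⊆ (Finset.univ.filter (fun n => n ∈ K.τ u)).erase 1 := by
      intro a ha
      rw [Finset.mem_image] at ha
      obtain ⟨n, hn, rfl⟩ := ha
      rw [Finset.mem_erase]
      refine ⟨KPart_h9.conj_ne_one hu, ?_⟩
      rw [Finset.mem_filter]
      refine ⟨Finset.mem_univ _, ?_⟩
      have hn' : n ∈ N := (Finset.mem_filter.mp hn).2
      exact (Subgroup.mem_normalizer_iff.mp hn' u).mp (K.h_mem u)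
    have := Finset.card_le_card hsub
    rw [Finset.card_erase_of_mem (by
      rw [Finset.mem_filter]; exact ⟨Finset.mem_univ _, Subgroup.one_mem _⟩), hQ] at this
    exact this
  have hfib : ∀ a ∈ s.image f, (s.filter (fun x => f x = a)).card ≤ Nat.card (K.τ u) := by
    intro a ha
    rw [Finset.mem_image] at ha
    obtain ⟨n₀, -, rfl⟩ := ha
    rw [← hQ]
    apply Finset.card_le_card_of_injOn (fun x => n₀⁻¹ * x)
    · intro x hx
      have hx' := (Finset.mem_filter.mp hx).2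
      have hx'' : x * u * x⁻¹ = n₀ * u * n₀⁻¹ := hx'
      show n₀⁻¹ * x ∈ Finset.univ.filter (fun n => n ∈ K.τ u)
      rw [Finset.mem_filter]
      refine ⟨Finset.mem_univ _, hC _ ?_⟩
      have e1 : x * u = n₀ * u * n₀⁻¹ * x := by rw [← hx'']; group
      calc n₀⁻¹ * x * u = n₀⁻¹ * (x * u) := by group
        _ = n₀⁻¹ * (n₀ * u * n₀⁻¹ * x) := by rw [e1]
        _ = u * (n₀⁻¹ * x) := by group
    · intro x _ y _ hxy
      exact mul_left_cancel hxy
  have h := Finset.card_le_mul_card_image (f := f) s (Nat.card (K.τ u)) hfib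
  rw [hs] at h
  calc Nat.card N ≤ Nat.card (K.τ u) * (s.image f).card := h
    _ ≤ Nat.card (K.τ u) * (Nat.card (K.τ u) - 1) := Nat.mul_le_mul_left _ himg

end MPart_h9

end Cfsg.Agent.Helper9
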