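import Mathlib
import Cfsg.Agent.Helper9.Mix1

/-!
# Mixed partitions: the numerical theorem (helper9)

If the Sylow-like class of `u` has `|τ u| = q ≥ 4`, `|N(τ u)| = q k` and `τ u` is not normal, then
`|Y| = (q+1) q k` with `k = q - 1` or `2 k = q - 1`, and there are exactly two Klein classes, of
orders `k` and `k (q+1)/(q-1)`, both of index two in their normalizers.
-/

set_option autoImplicit false

namespace Cfsg.Agent.Helper9

theorem mix_sq_h9 (s q : ℕ) (hq : 1 ≤ q) : s * (q - 1) + s = s * q := by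
  obtain ⟨r, rfl⟩ := Nat.exists_eq_add_of_le hq
  have : 1 + r - 1 = r := by omega
  rw [this]; ring

theorem mix_numA_h9 (s q c : ℕ) (hq : 4 ≤ q) (h4 : s * q ≤ 4 * c)
    (hsum : s * (q - 1) + c + 1 ≤ s * q) : False := by
  have e0 := mix_sq_h9 s q (by omega)
  have hA4 : s * 4 ≤ s * q := Nat.mul_le_mul_left s hq
  generalize s * q = A at *
  generalize s * (q - 1) = U at *
  omega

theorem mix_numB0_h9 (s q k n₁ b₁ : ℕ) (hq : 4 ≤ q) (hs : 2 ≤ s) (hk : k = b₁ + 2)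
    (hg : s * (q * k) = n₁ * (1 * (b₁ + 2)))
    (hsum : s * (q - 1) + n₁ * (b₁ + 1) + 1 = s * (q * k)) : False := by
  subst hk
  have hn : n₁ = s * q := by
    have : n₁ * (b₁ + 2) = (s * q) * (b₁ + 2) := by rw [mul_assoc, hg]; ring
    exact Nat.eq_of_mul_eq_mul_right (by omega) this
  subst hn
  have e0 := mix_sq_h9 s q (by omega)
  have e1 : s * q * (b₁ + 1) = s * q * b₁ + s * q := by ring
  have e2 : s * (q * (b₁ + 2)) = s * q * b₁ + 2 * (s * q) := by ring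
  rw [e1, e2] at hsum
  generalize s * q * b₁ = B at hsum
  generalize s * q = A at hsum e0
  generalize s * (q - 1) = U at hsum e0
  omega

theorem mix_numB1_h9 (s q k n₁ b₁ c₂ : ℕ) (hq : 4 ≤ q) (hk : k = b₁ + 2)
    (hg : s * (q * k) = n₁ * (1 * (b₁ + 2))) (h4 : s * (q * k) ≤ 4 * c₂)
    (hsum : s * (q - 1) + n₁ * (b₁ + 1) + c₂ + 1 ≤ s * (q * k)) : False := by
  subst hk
  have hn : n₁ = s * q := by
    have : n₁ * (b₁ + 2) = (s * q) * (b₁ + 2) := by rw [mul_assoc, hg]; ring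
    exact Nat.eq_of_mul_eq_mul_right (by omega) this
  subst hn
  have e0 := mix_sq_h9 s q (by omega)
  have hA4 : s * 4 ≤ s * q := Nat.mul_le_mul_left s hq
  have e1 : s * q * (b₁ + 1) = s * q * b₁ + s * q := by ring
  have e2 : s * (q * (b₁ + 2)) = s * q * b₁ + 2 * (s * q) := by ring
  rw [e1, e2] at hsum
  rw [e2] at h4
  generalize s * q * b₁ = B at hsum h4
  generalize s * q = A at hsum e0 h4 hA4
  generalize s * (q - 1) = U at hsum e0
  omega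

theorem mix_numB2a_h9 (s q k n₁ b₁ : ℕ) (hq : 4 ≤ q) (hs : 2 ≤ s) (hk : k = b₁ + 2)
    (hg : s * (q * k) = n₁ * (2 * (b₁ + 2)))
    (hsum : s * (q - 1) + n₁ * (b₁ + 1) + 1 = s * (q * k)) : False := by
  subst hk
  have hn : 2 * n₁ = s * q := by
    have : (2 * n₁) * (b₁ + 2) = (s * q) * (b₁ + 2) := by rw [mul_assoc s, hg]; ring
    exact Nat.eq_of_mul_eq_mul_right (by omega) this
  have e0 := mix_sq_h9 s q (by omega)
  have e1 : n₁ * (b₁ + 1) = n₁ * b₁ + n₁ := by ring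
  have e2 : s * (q * (b₁ + 2)) = 2 * (n₁ * b₁) + 4 * n₁ := by
    have : s * (q * (b₁ + 2)) = (s * q) * (b₁ + 2) := by ring
    rw [this, ← hn]; ring
  rw [e1, e2] at hsum
  rw [← hn] at e0
  generalize n₁ * b₁ = B at hsum
  generalize s * (q - 1) = U at hsum e0
  omega

theorem mix_numB2b_h9 (s q k n₁ b₁ c₂ : ℕ) (hq : 4 ≤ q) (hk : k = b₁ + 2)
    (hg : s * (q * k) = n₁ * (2 * (b₁ + 2))) (h2 : s * (q * k) ≤ 2 * c₂)
    (hsum : s * (q - 1) + n₁ * (b₁ + 1) + c₂ + 1 ≤ s * (q * k)) : False := by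
  subst hk
  have hn : 2 * n₁ = s * q := by
    have : (2 * n₁) * (b₁ + 2) = (s * q) * (b₁ + 2) := by rw [mul_assoc s, hg]; ring
    exact Nat.eq_of_mul_eq_mul_right (by omega) this
  have e0 := mix_sq_h9 s q (by omega)
  have hA4 : s * 4 ≤ s * q := Nat.mul_le_mul_left s hq
  have e1 : n₁ * (b₁ + 1) = n₁ * b₁ + n₁ := by ring
  have e2 : s * (q * (b₁ + 2)) = 2 * (n₁ * b₁) + 4 * n₁ := by
    have : s * (q * (b₁ + 2)) = (s * q) * (b₁ + 2) := by ring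
    rw [this, ← hn]; ring
  rw [e1, e2] at hsum
  rw [e2] at h2
  rw [← hn] at e0 hA4
  generalize n₁ * b₁ = B at hsum h2
  generalize s * (q - 1) = U at hsum e0
  omega

theorem mix_numB2c_h9 (s q k n₁ b₁ c₂ c₃ : ℕ) (hq : 4 ≤ q) (hk : k = b₁ + 2)
    (hg : s * (q * k) = n₁ * (2 * (b₁ + 2))) (h2 : s * (q * k) ≤ 4 * c₂)
    (h3 : s * (q * k) ≤ 4 * c₃)
    (hsum : s * (q - 1) + n₁ * (b₁ + 1) + c₂ + c₃ + 1 ≤ s * (q * k)) : False := by
  apply mix_numB2b_h9 s q k n₁ b₁ (c₂ + c₃) hq hk hg (by omega) (by omega)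

theorem mix_num_core_h9 (n r k t : ℕ) (hn : 1 ≤ n) (hr : 2 ≤ r) (hk1 : 1 ≤ k) (hk : k ≤ r + 1)
    (h : (n * r + 2 * n + 1) * k = (n * r + 1) * t) : n = 1 ∧ (k = r + 1 ∨ 2 * k = r + 1) := by
  have hd : (n * r + 1) ∣ n * (2 * k) := by
    have h1 : (n * r + 1) ∣ (n * r + 1) * k + n * (2 * k) := ⟨t, by rw [← h]; ring⟩
    exact (Nat.dvd_add_right (Dvd.intro _ rfl)).mp h1
  have hcop : Nat.Coprime (n * r + 1) n := by simp
  have hd2 : (n * r + 1) ∣ 2 * k := hcop.dvd_of_dvd_mul_left hd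
  obtain ⟨j, hj⟩ := hd2
  have hj1 : 1 ≤ j := by
    rcases Nat.eq_zero_or_pos j with h0 | h0
    · rw [h0] at hj; omega
    · exact h0
  have hle : n * r + 1 ≤ 2 * k := by
    calc n * r + 1 = (n * r + 1) * 1 := by ring
      _ ≤ (n * r + 1) * j := Nat.mul_le_mul_left _ hj1
      _ = 2 * k := hj.symm
  have hn2 : n ≤ 2 := by
    by_contra hcon
    have : 3 * r ≤ n * r := Nat.mul_le_mul_right r (by omega)
    omega
  have hn' : n = 1 ∨ n = 2 := by omega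
  rcases hn' with rfl | rfl
  · refine ⟨rfl, ?_⟩
    have hj2 : j ≤ 2 := by
      by_contra hcon
      have : (1 * r + 1) * 3 ≤ (1 * r + 1) * j := Nat.mul_le_mul_left _ (by omega)
      omega
    have hj' : j = 1 ∨ j = 2 := by omega
    rcases hj' with rfl | rfl <;> omega
  · exfalso
    have hj2 : j ≤ 1 := by
      by_contra hcon
      have : (2 * r + 1) * 2 ≤ (2 * r + 1) * j := Nat.mul_le_mul_left _ (by omega)
      omega
    have hj' : j = 1 := by omega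
    subst hj'
    omega

theorem mix_numB2d_h9 (s q k m n₁ b₁ n₂ b₂ : ℕ) (hq : 4 ≤ q) (hs : 2 ≤ s) (hk : k = b₁ + 2)
    (hkq : k ≤ q - 1) (hm : s + (q - 1) = m * q)
    (hg₁ : s * (q * k) = n₁ * (2 * (b₁ + 2))) (hg₂ : s * (q * k) = n₂ * (2 * (b₂ + 2)))
    (hsum : s * (q - 1) + n₁ * (b₁ + 1) + n₂ * (b₂ + 1) + 1 = s * (q * k)) :
    s = q + 1 ∧ (k = q - 1 ∨ 2 * k = q - 1) ∧ (b₂ + 2) * (q - 1) = k * (q + 1) := by
  subst hk
  obtain ⟨r, rfl⟩ : ∃ r, q = r + 2 := ⟨q - 2, by omega⟩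
  have hr : 2 ≤ r := by omega
  have eq1 : r + 2 - 1 = r + 1 := by omega
  rw [eq1] at hm hsum hkq ⊢
  -- s = n * q + 1
  have hm1 : 1 ≤ m := by
    rcases Nat.eq_zero_or_pos m with h0 | h0
    · rw [h0] at hm; omega
    · exact h0
  obtain ⟨n, rfl⟩ : ∃ n, m = n + 1 := ⟨m - 1, by omega⟩
  have hsn : s = n * (r + 2) + 1 := by
    have : (n + 1) * (r + 2) = n * (r + 2) + (r + 2) := by ring
    rw [this] at hm; omega
  have hn1 : 1 ≤ n := by
    rcases Nat.eq_zero_or_pos n with h0 | h0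
    · rw [h0] at hsn; omega
    · exact h0
  have hn₁ : 2 * n₁ = s * (r + 2) := by
    have : (2 * n₁) * (b₁ + 2) = (s * (r + 2)) * (b₁ + 2) := by rw [mul_assoc s, hg₁]; ring
    exact Nat.eq_of_mul_eq_mul_right (by omega) this
  -- 2 n₂ = s r + 2
  have hn₂ : 2 * n₂ = s * r + 2 := by
    have e1 : n₁ * (b₁ + 1) = n₁ * b₁ + n₁ := by ring
    have e2 : n₂ * (b₂ + 1) = n₂ * b₂ + n₂ := by ring
    have e3 : s * ((r + 2) * (b₁ + 2)) = 2 * (n₁ * b₁) + 4 * n₁ := by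
      have : s * ((r + 2) * (b₁ + 2)) = (s * (r + 2)) * (b₁ + 2) := by ring
      rw [this, ← hn₁]; ring
    have e4 : n₂ * (2 * (b₂ + 2)) = 2 * (n₂ * b₂) + 4 * n₂ := by ring
    have e5 : s * (r + 1) = s * r + s := by ring
    have e6 : s * (r + 2) = s * r + 2 * s := by ring
    rw [e3, e4] at hg₂
    rw [e1, e2, e3, e5] at hsum
    rw [e6] at hn₁
    generalize n₁ * b₁ = X at hsum hg₂
    generalize n₂ * b₂ = Z at hsum hg₂
    generalize s * r = W at hsum hn₁ ⊢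
    omega
  -- (n r + 2 n + 1) k = (n r + 1) t
  have hcore : (n * r + 2 * n + 1) * (b₁ + 2) = (n * r + 1) * (b₂ + 2) := by
    have h1 : (r + 2) * ((n * r + 2 * n + 1) * (b₁ + 2)) = (r + 2) * ((n * r + 1) * (b₂ + 2)) := by
      have e7 : (r + 2) * ((n * r + 1) * (b₂ + 2)) = (s * r + 2) * (b₂ + 2) := by
        rw [hsn]; ring
      have e8 : (r + 2) * ((n * r + 2 * n + 1) * (b₁ + 2)) = s * ((r + 2) * (b₁ + 2)) := by
        rw [hsn]; ring
      rw [e7, e8, hg₂, ← hn₂]; ring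
    exact Nat.eq_of_mul_eq_mul_left (by omega) h1
  obtain ⟨rfl, hkk⟩ := mix_num_core_h9 n r (b₁ + 2) (b₂ + 2) hn1 hr (by omega) hkq hcore
  refine ⟨by rw [hsn]; ring, hkk, ?_⟩
  have : (1 * r + 2 * 1 + 1) * (b₁ + 2) = (1 * r + 1) * (b₂ + 2) := hcore
  have e9 : r + 2 + 1 = 1 * r + 2 * 1 + 1 := by ring
  have e10 : r + 1 = 1 * r + 1 := by ring
  rw [e9, mul_comm (b₁ + 2), this]; ring

namespace MPart_h9

variable {Y : Type*} [Group Y] [Finite Y] (K : MPart_h9 Y)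

theorem main (u : Y) (hu : u ≠ 1) (q k : ℕ)
    (hq : Nat.card (K.τ u) = q) (hN : Nat.card (Subgroup.normalizer (K.τ u : Set Y)) = q * k)
    (h4 : 4 ≤ q)
    (hT : ∀ y, y ≠ 1 → ¬ K.rel u y →
      Nat.card (Subgroup.normalizer (K.τ y : Set Y)) ≤ 2 * Nat.card (K.τ y))
    (hS : ∀ x, x ∈ Subgroup.normalizer (K.τ u : Set Y) → x ≠ 1 → K.rel u x → x ∈ K.τ u)
    (hC : ∀ n : Y, n * u = u * n → n ∈ K.τ u)
    (hK : 2 ≤ k → ∃ y₁, y₁ ≠ 1 ∧ ¬ K.rel u y₁ ∧ Nat.card (K.τ y₁) = k)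
    (hnn : Subgroup.normalizer (K.τ u : Set Y) ≠ ⊤) :
    Nat.card Y = (q + 1) * (q * k) ∧ 2 ≤ k ∧ (k = q - 1 ∨ 2 * k = q - 1) ∧
      ∀ y, y ≠ 1 → ¬ K.rel u y →
        Nat.card (Subgroup.normalizer (K.τ y : Set Y)) = 2 * Nat.card (K.τ y) ∧
        (Nat.card (K.τ y) = k ∨ Nat.card (K.τ y) * (q - 1) = k * (q + 1)) := by
  obtain ⟨s, hs⟩ : ∃ s, s = (Subgroup.normalizer (K.τ u : Set Y)).index := ⟨_, rfl⟩
  have hg : Nat.card Y = s * (q * k) := by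
    rw [← hN, hs]; exact (Subgroup.index_mul_card _).symm
  have hs2 : 2 ≤ s := by
    have h0 : s ≠ 0 := by rw [hs]; exact Subgroup.index_ne_zero_of_finite
    have h1 : s ≠ 1 := fun h => hnn (Subgroup.index_eq_one.mp (hs ▸ h))
    omega
  obtain ⟨m, hm⟩ := K.index_congr hu hS
  rw [hq, ← hs] at hm
  have hkq : k ≤ q - 1 := by
    have := K.card_normalizer_le hu hC
    rw [hN, hq] at this
    exact Nat.le_of_mul_le_mul_left this (by omega)
  have hqk : 0 < q * k := by rw [← hN]; exact Nat.card_pos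
  have hk1 : 1 ≤ k := by
    rcases Nat.eq_zero_or_pos k with h | h
    · rw [h] at hqk; simp at hqk
    · exact h
  have hgpos : 0 < s * (q * k) := Nat.mul_pos (by omega) hqk
  have hU : (K.cls u).ncard = s * (q - 1) := by
    have := K.ncard_cls_mul hu
    rw [hN, hq, hg] at this
    apply Nat.eq_of_mul_eq_mul_right hqk
    rw [this]; ring
  have tdata : ∀ y, y ≠ 1 → ¬ K.rel u y → ∃ n b e : ℕ, 1 ≤ n ∧ (e = 1 ∨ e = 2) ∧
      Nat.card (K.τ y) = b + 2 ∧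
      Nat.card (Subgroup.normalizer (K.τ y : Set Y)) = e * (b + 2) ∧
      s * (q * k) = n * (e * (b + 2)) ∧ (K.cls y).ncard = n * (b + 1) := by
    intro y hy hr
    obtain ⟨n, b, e, h1, h2, h3, h4, h5, h6⟩ := K.class_data hy (hT y hy hr)
    exact ⟨n, b, e, h1, h2, h3, h4, by rw [← hg]; exact h5, h6⟩
  have hcompl : (({1}ᶜ : Set Y)).ncard = s * (q * k) - 1 := by
    rw [Set.ncard_compl, Set.ncard_singleton, hg]
  have e0 := mix_sq_h9 s q (by omega)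
  by_cases hk2 : 2 ≤ k
  swap
  · exfalso
    have hk' : k = 1 := by omega
    subst hk'
    rw [mul_one] at hcompl hgpos
    have hex : ∃ y, y ≠ 1 ∧ ¬ K.rel u y := by
      by_contra hcon
      push Not at hcon
      have hS' : K.cls u = ({1}ᶜ : Set Y) := by
        ext z; exact ⟨fun h => h.1, fun h => ⟨h, hcon z h⟩⟩
      have h1 := hU
      rw [hS', hcompl] at h1
      omega
    obtain ⟨y, hy, hr⟩ := hex
    obtain ⟨n, b, e, hn, he, hT', hN', hg', hc⟩ := tdata y hy hr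
    have hsub : K.cls u ∪ K.cls y ⊆ ({1}ᶜ : Set Y) :=
      Set.union_subset (K.cls_subset u) (K.cls_subset y)
    have hle := Set.ncard_le_ncard hsub
    rw [Set.ncard_union_eq (K.cls_disjoint hu hy hr), hcompl, hU, hc] at hle
    have f4 := (kp_four_h9 _ n b e he hg').1
    rw [mul_one] at f4
    exact mix_numA_h9 s q (n * (b + 1)) h4 f4 (by omega)
  obtain ⟨y₁, hy₁, hr₁, ht₁⟩ := hK hk2
  obtain ⟨n₁, b₁, e₁, hn₁, he₁, hT₁, hN₁, hg₁, hc₁⟩ := tdata y₁ hy₁ hr₁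
  have hkb : k = b₁ + 2 := by rw [← ht₁, hT₁]
  have d1 := K.cls_disjoint hu hy₁ hr₁
  have hex2 : ∃ y, y ≠ 1 ∧ ¬ K.rel u y ∧ ¬ K.rel y₁ y := by
    by_contra hcon
    push Not at hcon
    have hS' : K.cls u ∪ K.cls y₁ = ({1}ᶜ : Set Y) := by
      ext z
      constructor
      · rintro (h | h) <;> exact h.1
      · intro h
        by_cases hz : K.rel u z
        · left; exact ⟨h, hz⟩
        · right; exact ⟨h, hcon z h hz⟩
    have hsum : s * (q - 1) + n₁ * (b₁ + 1) + 1 = s * (q * k) := by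
      rw [← hU, ← hc₁, ← Set.ncard_union_eq d1, hS', hcompl]; omega
    rcases he₁ with rfl | rfl
    · exact mix_numB0_h9 s q k n₁ b₁ h4 hs2 hkb hg₁ hsum
    · exact mix_numB2a_h9 s q k n₁ b₁ h4 hs2 hkb hg₁ hsum
  obtain ⟨y₂, hy₂, hr₂, h12⟩ := hex2
  obtain ⟨n₂, b₂, e₂, hn₂, he₂, hT₂, hN₂, hg₂, hc₂⟩ := tdata y₂ hy₂ hr₂
  have d2 := K.cls_disjoint hu hy₂ hr₂
  have d12 := K.cls_disjoint hy₁ hy₂ h12
  have d12' : Disjoint (K.cls u ∪ K.cls y₁) (K.cls y₂) := Set.disjoint_union_left.mpr ⟨d2, d12⟩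
  have hsub2 : (K.cls u ∪ K.cls y₁) ∪ K.cls y₂ ⊆ ({1}ᶜ : Set Y) :=
    Set.union_subset (Set.union_subset (K.cls_subset u) (K.cls_subset y₁)) (K.cls_subset y₂)
  have hle2 := Set.ncard_le_ncard hsub2
  rw [Set.ncard_union_eq d12', Set.ncard_union_eq d1, hcompl, hU, hc₁, hc₂] at hle2
  have he₁' : e₁ = 2 := by
    rcases he₁ with rfl | rfl
    · exfalso
      have f4 := (kp_four_h9 _ n₂ b₂ e₂ he₂ hg₂).1
      exact mix_numB1_h9 s q k n₁ b₁ (n₂ * (b₂ + 1)) h4 hkb hg₁ f4 (by omega)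
    · rfl
  subst he₁'
  have he₂' : e₂ = 2 := by
    rcases he₂ with rfl | rfl
    · exfalso
      have f2 := (kp_four_h9 _ n₂ b₂ 1 (Or.inl rfl) hg₂).2 rfl
      exact mix_numB2b_h9 s q k n₁ b₁ (n₂ * (b₂ + 1)) h4 hkb hg₁ f2 (by omega)
    · rfl
  subst he₂'
  have hall : ∀ z, z ≠ 1 → ¬ K.rel u z → K.rel y₁ z ∨ K.rel y₂ z := by
    intro z hz hrz
    by_contra hcon
    obtain ⟨h1z, h2z⟩ := not_or.mp hcon
    obtain ⟨n₃, b₃, e₃, hn₃, he₃, hT₃, hN₃, hg₃, hc₃⟩ := tdata z hz hrz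
    have d3 := K.cls_disjoint hu hz hrz
    have d13 := K.cls_disjoint hy₁ hz h1z
    have d23 := K.cls_disjoint hy₂ hz h2z
    have d123 : Disjoint ((K.cls u ∪ K.cls y₁) ∪ K.cls y₂) (K.cls z) :=
      Set.disjoint_union_left.mpr ⟨Set.disjoint_union_left.mpr ⟨d3, d13⟩, d23⟩
    have hsub3 : ((K.cls u ∪ K.cls y₁) ∪ K.cls y₂) ∪ K.cls z ⊆ ({1}ᶜ : Set Y) :=
      Set.union_subset hsub2 (K.cls_subset z)
    have hle3 := Set.ncard_le_ncard hsub3
    rw [Set.ncard_union_eq d123, Set.ncard_union_eq d12', Set.ncard_union_eq d1, hcompl, hU, hc₁,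
      hc₂, hc₃] at hle3
    have f2 := (kp_four_h9 _ n₂ b₂ 2 (Or.inr rfl) hg₂).1
    have f3 := (kp_four_h9 _ n₃ b₃ e₃ he₃ hg₃).1
    exact mix_numB2c_h9 s q k n₁ b₁ (n₂ * (b₂ + 1)) (n₃ * (b₃ + 1)) h4 hkb hg₁ f2 f3 (by omega)
  have hS' : (K.cls u ∪ K.cls y₁) ∪ K.cls y₂ = ({1}ᶜ : Set Y) := by
    ext z
    constructor
    · rintro ((h | h) | h) <;> exact h.1
    · intro h
      by_cases hz : K.rel u z
      · left; left; exact ⟨h, hz⟩
      · rcases hall z h hz with h' | h'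
        · left; right; exact ⟨h, h'⟩
        · right; exact ⟨h, h'⟩
  have hsum : s * (q - 1) + n₁ * (b₁ + 1) + n₂ * (b₂ + 1) + 1 = s * (q * k) := by
    rw [← hU, ← hc₁, ← hc₂, ← Set.ncard_union_eq d1, ← Set.ncard_union_eq d12', hS', hcompl]
    omega
  obtain ⟨hsq, hkk, ht₂⟩ := mix_numB2d_h9 s q k m n₁ b₁ n₂ b₂ h4 hs2 hkb hkq hm hg₁ hg₂ hsum
  refine ⟨by rw [hg, hsq], hk2, hkk, ?_⟩
  intro y hy hr
  obtain ⟨n, b, e, hn, he, hTy, hNy, hgy, hcy⟩ := tdata y hy hr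
  have key : ∀ (y₀ : Y) (n₀ b₀ : ℕ), y₀ ≠ 1 → K.rel y₀ y → Nat.card (K.τ y₀) = b₀ + 2 →
      s * (q * k) = n₀ * (2 * (b₀ + 2)) → (K.cls y₀).ncard = n₀ * (b₀ + 1) →
      Nat.card (Subgroup.normalizer (K.τ y : Set Y)) = 2 * Nat.card (K.τ y) ∧
        Nat.card (K.τ y) = b₀ + 2 := by
    intro y₀ n₀ b₀ hy₀ hrel hT₀ hg₀ hc₀
    have hb : b = b₀ := by
      have := K.card_tau_of_rel hy₀ hy hrel
      rw [hTy, hT₀] at this
      omega
    subst hb
    have hnn' : n = n₀ := by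
      have h1 := K.cls_eq_of_rel hy₀ hy hrel
      rw [h1, hc₀] at hcy
      exact (Nat.eq_of_mul_eq_mul_right (by omega) hcy).symm
    subst hnn'
    have he' : e = 2 := by
      rcases he with rfl | rfl
      · exfalso
        rw [hgy] at hg₀
        have e1 : n * (1 * (b + 2)) = n * (b + 2) := by ring
        have e2 : n * (2 * (b + 2)) = 2 * (n * (b + 2)) := by ring
        rw [e1, e2] at hg₀
        have : 0 < n * (b + 2) := Nat.mul_pos (by omega) (by omega)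
        omega
      · rfl
    subst he'
    exact ⟨by rw [hNy, hTy], hTy⟩
  rcases hall y hy hr with h | h
  · obtain ⟨h1, h2⟩ := key y₁ n₁ b₁ hy₁ h hT₁ hg₁ hc₁
    exact ⟨h1, Or.inl (by rw [h2, hkb])⟩
  · obtain ⟨h1, h2⟩ := key y₂ n₂ b₂ hy₂ h hT₂ hg₂ hc₂
    exact ⟨h1, Or.inr (by rw [h2]; exact ht₂)⟩

end MPart_h9

end Cfsg.Agent.Helper9
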