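import Mathlib
import Cfsg.Agent.Helper9.SL2m

/-!
# Diagonalization in `SL(2, K)` (helper9)
-/

set_option autoImplicit false
open scoped MatrixGroups

namespace Cfsg.Agent.Helper9

/-- `diag(l, m)` with `l * m = 1`. -/
def sl2Dg_h9 {K : Type*} [Field K] (l m : K) (h : l * m = 1) : SL(2, K) :=
  ⟨!![l, 0; 0, m], by simp [Matrix.det_fin_two, h]⟩

theorem sl2Dg_entries_h9 {K : Type*} [Field K] (l m : K) (h : l * m = 1) :
    (sl2Dg_h9 l m h).1 0 0 = l ∧ (sl2Dg_h9 l m h).1 0 1 = 0 ∧ (sl2Dg_h9 l m h).1 1 0 = 0 ∧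
      (sl2Dg_h9 l m h).1 1 1 = m := by
  refine ⟨?_, ?_, ?_, ?_⟩ <;> simp [sl2Dg_h9]

/-- an element of `SL(2, K)` whose characteristic polynomial has the distinct roots `l`, `m`
is conjugate to `diag(l, m)`. -/
theorem sl2_diag_h9 {K : Type*} [Field K] (X : SL(2, K)) (l m : K) (hlm : l * m = 1)
    (hsum : l + m = X.1 0 0 + X.1 1 1) (hne : l ≠ m) :
    ∃ Q : SL(2, K), X * Q = Q * sl2Dg_h9 l m hlm := by
  obtain ⟨-, hdet⟩ := sl2_entries_h9 X
  obtain ⟨d00, d01, d10, d11⟩ := sl2Dg_entries_h9 l m hlm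
  have hlm' : l - m ≠ 0 := sub_ne_zero.mpr hne
  have hml' : m - l ≠ 0 := sub_ne_zero.mpr (Ne.symm hne)
  by_cases hb : X.1 0 1 = 0
  · by_cases hc : X.1 1 0 = 0
    · have h1 : (X.1 0 0 - l) * (X.1 0 0 - m) = 0 := by
        linear_combination (-(X.1 0 0)) * hsum + hlm - hdet - X.1 1 0 * hb
      rcases mul_eq_zero.mp h1 with h | h
      · refine ⟨1, ?_⟩
        rw [mul_one, one_mul]
        apply sl2_ext_h9
        · rw [d00]; linear_combination h
        · rw [d01, hb]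
        · rw [d10, hc]
        · rw [d11]; linear_combination -hsum - h
      · refine ⟨sl2J_h9 K, ?_⟩
        obtain ⟨j00, j01, j10, j11⟩ := sl2J_entries_h9 K
        obtain ⟨m00, m01, m10, m11⟩ := sl2_mul_entries_h9 X (sl2J_h9 K)
        obtain ⟨n00, n01, n10, n11⟩ := sl2_mul_entries_h9 (sl2J_h9 K) (sl2Dg_h9 l m hlm)
        apply sl2_ext_h9
        · rw [m00, n00, j00, j10, j01, d00, d10, hb]; ring
        · rw [m01, n01, j01, j11, j00, d01, d11]; linear_combination -h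
        · rw [m10, n10, j00, j10, j11, d00, d10, hc]; linear_combination -hsum - h
        · rw [m11, n11, j01, j11, j10, d01, d11, hc]; ring
    · have hΔ : X.1 1 0 * (l - m) ≠ 0 := mul_ne_zero hc hlm'
      let Q : SL(2, K) := ⟨!![l - X.1 1 1, (m - X.1 1 1) / (X.1 1 0 * (l - m));
          X.1 1 0, X.1 1 0 / (X.1 1 0 * (l - m))], by
        rw [Matrix.det_fin_two]
        simp only [Matrix.of_apply, Matrix.cons_val', Matrix.cons_val_zero, Matrix.cons_val_one,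
          Matrix.cons_val_fin_one]
        field_simp
        ring⟩
      have q00 : Q.1 0 0 = l - X.1 1 1 := rfl
      have q01 : Q.1 0 1 = (m - X.1 1 1) / (X.1 1 0 * (l - m)) := rfl
      have q10 : Q.1 1 0 = X.1 1 0 := rfl
      have q11 : Q.1 1 1 = X.1 1 0 / (X.1 1 0 * (l - m)) := rfl
      refine ⟨Q, ?_⟩
      obtain ⟨m00, m01, m10, m11⟩ := sl2_mul_entries_h9 X Q
      obtain ⟨n00, n01, n10, n11⟩ := sl2_mul_entries_h9 Q (sl2Dg_h9 l m hlm)
      apply sl2_ext_h9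
      · rw [m00, n00, q00, q10, q01, d00, d10]
        linear_combination -hdet - l * hsum + hlm
      · rw [m01, n01, q01, q11, q00, d01, d11]
        have key : X.1 0 0 * (m - X.1 1 1) + X.1 0 1 * X.1 1 0 = (m - X.1 1 1) * m := by
          linear_combination -hdet - m * hsum + hlm
        have e1 : X.1 0 0 * ((m - X.1 1 1) / (X.1 1 0 * (l - m)))
            + X.1 0 1 * (X.1 1 0 / (X.1 1 0 * (l - m)))
            = (X.1 0 0 * (m - X.1 1 1) + X.1 0 1 * X.1 1 0) / (X.1 1 0 * (l - m)) := by ring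
        rw [e1, key]; ring
      · rw [m10, n10, q00, q10, q11, d00, d10]; ring
      · rw [m11, n11, q01, q11, q10, d01, d11]; ring
  · have hΔ : X.1 0 1 * (m - l) ≠ 0 := mul_ne_zero hb hml'
    let Q : SL(2, K) := ⟨!![X.1 0 1, X.1 0 1 / (X.1 0 1 * (m - l));
        l - X.1 0 0, (m - X.1 0 0) / (X.1 0 1 * (m - l))], by
      rw [Matrix.det_fin_two]
      simp only [Matrix.of_apply, Matrix.cons_val', Matrix.cons_val_zero, Matrix.cons_val_one,
        Matrix.cons_val_fin_one]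
      field_simp
      ring⟩
    have q00 : Q.1 0 0 = X.1 0 1 := rfl
    have q01 : Q.1 0 1 = X.1 0 1 / (X.1 0 1 * (m - l)) := rfl
    have q10 : Q.1 1 0 = l - X.1 0 0 := rfl
    have q11 : Q.1 1 1 = (m - X.1 0 0) / (X.1 0 1 * (m - l)) := rfl
    refine ⟨Q, ?_⟩
    obtain ⟨m00, m01, m10, m11⟩ := sl2_mul_entries_h9 X Q
    obtain ⟨n00, n01, n10, n11⟩ := sl2_mul_entries_h9 Q (sl2Dg_h9 l m hlm)
    apply sl2_ext_h9
    · rw [m00, n00, q00, q10, q01, d00, d10]; ring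
    · rw [m01, n01, q01, q11, q00, d01, d11]; ring
    · rw [m10, n10, q00, q10, q11, d00, d10]
      linear_combination -hdet - l * hsum + hlm
    · rw [m11, n11, q01, q11, q10, d01, d11]
      have key : X.1 1 0 * X.1 0 1 + X.1 1 1 * (m - X.1 0 0) = (m - X.1 0 0) * m := by
        linear_combination -hdet - m * hsum + hlm
      have e1 : X.1 1 0 * (X.1 0 1 / (X.1 0 1 * (m - l)))
          + X.1 1 1 * ((m - X.1 0 0) / (X.1 0 1 * (m - l)))
          = (X.1 1 0 * X.1 0 1 + X.1 1 1 * (m - X.1 0 0)) / (X.1 0 1 * (m - l)) := by ring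
      rw [e1, key]; ring

/-- the centralizer of `diag(l, m)`, `l ≠ m`, is diagonal. -/
theorem sl2_comm_Dg_h9 {K : Type*} [Field K] (Y : SL(2, K)) (l m : K) (hlm : l * m = 1)
    (hne : l ≠ m) (h : Y * sl2Dg_h9 l m hlm = sl2Dg_h9 l m hlm * Y) :
    Y.1 0 1 = 0 ∧ Y.1 1 0 = 0 := by
  obtain ⟨d00, d01, d10, d11⟩ := sl2Dg_entries_h9 l m hlm
  obtain ⟨m00, m01, m10, m11⟩ := sl2_mul_entries_h9 Y (sl2Dg_h9 l m hlm)
  obtain ⟨n00, n01, n10, n11⟩ := sl2_mul_entries_h9 (sl2Dg_h9 l m hlm) Y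
  have h01 : (Y * sl2Dg_h9 l m hlm).1 0 1 = (sl2Dg_h9 l m hlm * Y).1 0 1 := by rw [h]
  have h10 : (Y * sl2Dg_h9 l m hlm).1 1 0 = (sl2Dg_h9 l m hlm * Y).1 1 0 := by rw [h]
  rw [m01, n01, d01, d11, d00] at h01
  rw [m10, n10, d00, d10, d11] at h10
  have hlm' : l - m ≠ 0 := sub_ne_zero.mpr hne
  constructor
  · have : Y.1 0 1 * (l - m) = 0 := by linear_combination -h01
    rcases mul_eq_zero.mp this with h | h
    · exact h
    · exact absurd h hlm'
  · have : Y.1 1 0 * (l - m) = 0 := by linear_combination h10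
    rcases mul_eq_zero.mp this with h | h
    · exact h
    · exact absurd h hlm'

/-- diagonal elements of `SL(2, K)` commute. -/
theorem sl2_diag_comm_h9 {K : Type*} [Field K] (Y Z : SL(2, K)) (hy1 : Y.1 0 1 = 0)
    (hy2 : Y.1 1 0 = 0) (hz1 : Z.1 0 1 = 0) (hz2 : Z.1 1 0 = 0) : Y * Z = Z * Y := by
  obtain ⟨m00, m01, m10, m11⟩ := sl2_mul_entries_h9 Y Z
  obtain ⟨n00, n01, n10, n11⟩ := sl2_mul_entries_h9 Z Y
  apply sl2_ext_h9
  · rw [m00, n00, hy1, hy2, hz1, hz2]; ring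
  · rw [m01, n01, hy1, hz1]; ring
  · rw [m10, n10, hy2, hz2]; ring
  · rw [m11, n11, hy1, hy2, hz1, hz2]; ring

/-- the trace is invariant under conjugation. -/
theorem sl2_trace_conj_h9 {K : Type*} [Field K] (g x : SL(2, K)) :
    (g * x * g⁻¹).1 0 0 + (g * x * g⁻¹).1 1 1 = x.1 0 0 + x.1 1 1 := by
  obtain ⟨m00, m01, m10, m11⟩ := sl2_mul_entries_h9 (g * x) g⁻¹
  obtain ⟨n00, n01, n10, n11⟩ := sl2_mul_entries_h9 g x
  obtain ⟨i00, i01, i10, i11⟩ := sl2_inv_entries_h9 g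
  obtain ⟨-, hdet⟩ := sl2_entries_h9 g
  rw [m00, m11, n00, n01, n10, n11, i00, i01, i10, i11]
  linear_combination (x.1 0 0 + x.1 1 1) * hdet

end Cfsg.Agent.Helper9
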