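import Mathlib
import Cfsg.Agent.Helper9.Tor1
import Cfsg.Agent.Helper9.SL2k

/-!
# Regular semisimple elements of `SL(2, F)` (helper9)

`x` with `(tr x)² ≠ 4`: the centralizer is commutative with cyclic finite subgroups, and a
conjugate of `x` commuting with `x` is `x` or `x⁻¹`.
-/

set_option autoImplicit false
open scoped MatrixGroups

namespace Cfsg.Agent.Helper9

/-- regular semisimple: `(tr x)² ≠ 4`. -/
def sl2Good_h9 {F : Type*} [Field F] (x : SL(2, F)) : Prop := (x.1 0 0 + x.1 1 1) ^ 2 ≠ 4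

theorem sl2_good_diag_h9 {F : Type*} [Field F] (x : SL(2, F)) (hx : sl2Good_h9 x) :
    ∃ (Q : SL(2, AlgebraicClosure F)) (l m : AlgebraicClosure F) (hlm : l * m = 1), l ≠ m ∧
      l + m = algebraMap F (AlgebraicClosure F) (x.1 0 0 + x.1 1 1) ∧
      Matrix.SpecialLinearGroup.map (algebraMap F (AlgebraicClosure F)) x * Q
        = Q * sl2Dg_h9 l m hlm := by
  let ι := algebraMap F (AlgebraicClosure F)
  let t := ι (x.1 0 0 + x.1 1 1)
  let p : Polynomial (AlgebraicClosure F) :=
    Polynomial.C 1 * Polynomial.X ^ 2 + Polynomial.C (-t) * Polynomial.X + Polynomial.C 1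
  have hdeg : p.degree = 2 := Polynomial.degree_quadratic one_ne_zero
  obtain ⟨l, hl⟩ := IsAlgClosed.exists_root p (by rw [hdeg]; norm_num)
  have hroot : l ^ 2 - t * l + 1 = 0 := by
    have := hl
    simp only [p, Polynomial.IsRoot.def, Polynomial.eval_add, Polynomial.eval_mul,
      Polynomial.eval_C, Polynomial.eval_pow, Polynomial.eval_X] at this
    linear_combination this
  have hlm : l * (t - l) = 1 := by linear_combination -hroot
  have hne : l ≠ t - l := by
    intro h
    apply hx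
    have h2 : t = 2 * l := by linear_combination -h
    have h3 : l ^ 2 = 1 := by
      rw [h2] at hroot
      linear_combination -hroot
    have h4 : t ^ 2 = 4 := by rw [h2]; linear_combination 4 * h3
    apply (algebraMap F (AlgebraicClosure F)).injective
    rw [map_pow, map_ofNat]
    exact h4
  have hsum : l + (t - l) = (Matrix.SpecialLinearGroup.map ι x).1 0 0
      + (Matrix.SpecialLinearGroup.map ι x).1 1 1 := by
    have e0 : (Matrix.SpecialLinearGroup.map ι x).1 0 0 = ι (x.1 0 0) := rfl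
    have e1 : (Matrix.SpecialLinearGroup.map ι x).1 1 1 = ι (x.1 1 1) := rfl
    rw [e0, e1, ← map_add]
    ring
  obtain ⟨Q, hQ⟩ := sl2_diag_h9 (Matrix.SpecialLinearGroup.map ι x) l (t - l) hlm hsum hne
  exact ⟨Q, l, t - l, hlm, hne, by ring, hQ⟩

/-- for `y` commuting with `x`, the conjugate `Q⁻¹ y Q` is diagonal. -/
theorem sl2_good_W_h9 {F : Type*} [Field F] (x : SL(2, F))
    (Q : SL(2, AlgebraicClosure F)) (l m : AlgebraicClosure F) (hlm : l * m = 1) (hne : l ≠ m)
    (hQ : Matrix.SpecialLinearGroup.map (algebraMap F (AlgebraicClosure F)) x * Q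
        = Q * sl2Dg_h9 l m hlm) (y : SL(2, F)) (hy : y * x = x * y) :
    (Q⁻¹ * Matrix.SpecialLinearGroup.map (algebraMap F (AlgebraicClosure F)) y * Q).1 0 1 = 0 ∧
    (Q⁻¹ * Matrix.SpecialLinearGroup.map (algebraMap F (AlgebraicClosure F)) y * Q).1 1 0 = 0 := by
  apply sl2_comm_Dg_h9 _ l m hlm hne
  have e1 : Matrix.SpecialLinearGroup.map (algebraMap F (AlgebraicClosure F)) x
      = Q * sl2Dg_h9 l m hlm * Q⁻¹ := by rw [← hQ]; group
  have e2 : Matrix.SpecialLinearGroup.map (algebraMap F (AlgebraicClosure F)) y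
      * Matrix.SpecialLinearGroup.map (algebraMap F (AlgebraicClosure F)) x
      = Matrix.SpecialLinearGroup.map (algebraMap F (AlgebraicClosure F)) x
      * Matrix.SpecialLinearGroup.map (algebraMap F (AlgebraicClosure F)) y := by
    rw [← map_mul, ← map_mul, hy]
  generalize Matrix.SpecialLinearGroup.map (algebraMap F (AlgebraicClosure F)) x = X at e1 e2
  generalize Matrix.SpecialLinearGroup.map (algebraMap F (AlgebraicClosure F)) y = Y at e2 ⊢
  generalize sl2Dg_h9 l m hlm = D at e1 ⊢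
  subst e1
  calc Q⁻¹ * Y * Q * D = Q⁻¹ * (Y * (Q * D * Q⁻¹)) * Q := by group
    _ = Q⁻¹ * ((Q * D * Q⁻¹) * Y) * Q := by rw [e2]
    _ = D * (Q⁻¹ * Y * Q) := by group

/-- commutative transitivity at a regular semisimple element. -/
theorem sl2_good_comm_h9 {F : Type*} [Field F] (x : SL(2, F)) (hx : sl2Good_h9 x)
    (y z : SL(2, F)) (hy : y * x = x * y) (hz : z * x = x * z) : y * z = z * y := by
  obtain ⟨Q, l, m, hlm, hne, -, hQ⟩ := sl2_good_diag_h9 x hx
  obtain ⟨y1, y2⟩ := sl2_good_W_h9 x Q l m hlm hne hQ y hy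
  obtain ⟨z1, z2⟩ := sl2_good_W_h9 x Q l m hlm hne hQ z hz
  have hc := sl2_diag_comm_h9 _ _ y1 y2 z1 z2
  apply sl2_map_injective_h9 (algebraMap F (AlgebraicClosure F))
    (algebraMap F (AlgebraicClosure F)).injective
  rw [map_mul, map_mul]
  generalize Matrix.SpecialLinearGroup.map (algebraMap F (AlgebraicClosure F)) y = Y at hc ⊢
  generalize Matrix.SpecialLinearGroup.map (algebraMap F (AlgebraicClosure F)) z = Z at hc ⊢
  calc Y * Z = Q * ((Q⁻¹ * Y * Q) * (Q⁻¹ * Z * Q)) * Q⁻¹ := by group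
    _ = Q * ((Q⁻¹ * Z * Q) * (Q⁻¹ * Y * Q)) * Q⁻¹ := by rw [hc]
    _ = Z * Y := by group

/-- a conjugate-like element commuting with `x` with the same trace is `x` or `x⁻¹`. -/
theorem sl2_good_conj_h9 {F : Type*} [Field F] (x : SL(2, F)) (hx : sl2Good_h9 x)
    (x' : SL(2, F)) (hc : x' * x = x * x')
    (htr : x'.1 0 0 + x'.1 1 1 = x.1 0 0 + x.1 1 1) : x' = x ∨ x' = x⁻¹ := by
  obtain ⟨Q, l, m, hlm, hne, hsum, hQ⟩ := sl2_good_diag_h9 x hx
  obtain ⟨w1, w2⟩ := sl2_good_W_h9 x Q l m hlm hne hQ x' hc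
  obtain ⟨d00, d01, d10, d11⟩ := sl2Dg_entries_h9 l m hlm
  have hinj := sl2_map_injective_h9 (algebraMap F (AlgebraicClosure F))
    (algebraMap F (AlgebraicClosure F)).injective
  have htrW : (Q⁻¹ * Matrix.SpecialLinearGroup.map (algebraMap F (AlgebraicClosure F)) x' * Q).1 0 0
      + (Q⁻¹ * Matrix.SpecialLinearGroup.map (algebraMap F (AlgebraicClosure F)) x' * Q).1 1 1
      = l + m := by
    have h1 := sl2_trace_conj_h9 Q⁻¹
      (Matrix.SpecialLinearGroup.map (algebraMap F (AlgebraicClosure F)) x')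
    rw [inv_inv] at h1
    rw [h1, hsum, ← htr, map_add]
    rfl
  obtain ⟨-, hdet⟩ := sl2_entries_h9
    (Q⁻¹ * Matrix.SpecialLinearGroup.map (algebraMap F (AlgebraicClosure F)) x' * Q)
  rw [w1, w2] at hdet
  have e1 : Matrix.SpecialLinearGroup.map (algebraMap F (AlgebraicClosure F)) x
      = Q * sl2Dg_h9 l m hlm * Q⁻¹ := by rw [← hQ]; group
  generalize hW : Q⁻¹ * Matrix.SpecialLinearGroup.map (algebraMap F (AlgebraicClosure F)) x' * Q
    = W at w1 w2 htrW hdet
  have e2 : Matrix.SpecialLinearGroup.map (algebraMap F (AlgebraicClosure F)) x'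
      = Q * W * Q⁻¹ := by rw [← hW]; group
  have hq : (W.1 0 0 - l) * (W.1 0 0 - m) = 0 := by
    linear_combination (W.1 0 0) * htrW + hlm - hdet
  rcases mul_eq_zero.mp hq with h | h
  · left
    apply hinj
    rw [e1, e2]
    congr 2
    apply sl2_ext_h9
    · rw [d00]; linear_combination h
    · rw [d01, w1]
    · rw [d10, w2]
    · rw [d11]; linear_combination htrW - h
  · right
    apply hinj
    rw [map_inv, e1, e2]
    have : (Q * sl2Dg_h9 l m hlm * Q⁻¹)⁻¹ = Q * (sl2Dg_h9 l m hlm)⁻¹ * Q⁻¹ := by group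
    rw [this]
    congr 2
    obtain ⟨i00, i01, i10, i11⟩ := sl2_inv_entries_h9 (sl2Dg_h9 l m hlm)
    apply sl2_ext_h9
    · rw [i00, d11]; linear_combination h
    · rw [i01, d01, w1]; ring
    · rw [i10, d10, w2]; ring
    · rw [i11, d00]; linear_combination htrW - h

/-- finite subgroups of the centralizer of a regular semisimple element are cyclic. -/
theorem sl2_good_cyclic_h9 {F : Type*} [Field F] (x : SL(2, F)) (hx : sl2Good_h9 x)
    (A : Subgroup SL(2, F)) [Finite A] (hA : ∀ a ∈ A, a * x = x * a) : IsCyclic A := by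
  obtain ⟨Q, l, m, hlm, hne, -, hQ⟩ := sl2_good_diag_h9 x hx
  have hW := fun (a : A) => sl2_good_W_h9 x Q l m hlm hne hQ a.1 (hA a.1 a.2)
  let f : A →* AlgebraicClosure F :=
    { toFun := fun a =>
        (Q⁻¹ * Matrix.SpecialLinearGroup.map (algebraMap F (AlgebraicClosure F)) a.1 * Q).1 0 0
      map_one' := by
        have : Q⁻¹ * Matrix.SpecialLinearGroup.map (algebraMap F (AlgebraicClosure F))
            ((1 : A) : SL(2, F)) * Q = 1 := by
          rw [Subgroup.coe_one, map_one]; group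
        rw [this]
        exact sl2_one_entries_h9.1
      map_mul' := by
        intro a b
        have : Q⁻¹ * Matrix.SpecialLinearGroup.map (algebraMap F (AlgebraicClosure F))
            ((a * b : A) : SL(2, F)) * Q
            = (Q⁻¹ * Matrix.SpecialLinearGroup.map (algebraMap F (AlgebraicClosure F)) a.1 * Q)
            * (Q⁻¹ * Matrix.SpecialLinearGroup.map (algebraMap F (AlgebraicClosure F)) b.1 * Q) := by
          rw [Subgroup.coe_mul, map_mul]; group
        rw [this, (sl2_mul_entries_h9 _ _).1, (hW a).1]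
        ring }
  have hf : Function.Injective f := by
    rw [injective_iff_map_eq_one]
    intro a ha
    have ha' : (Q⁻¹ * Matrix.SpecialLinearGroup.map (algebraMap F (AlgebraicClosure F)) a.1 * Q).1 0 0
        = 1 := ha
    obtain ⟨w1, w2⟩ := hW a
    obtain ⟨-, hdet⟩ := sl2_entries_h9
      (Q⁻¹ * Matrix.SpecialLinearGroup.map (algebraMap F (AlgebraicClosure F)) a.1 * Q)
    rw [w1, w2, ha'] at hdet
    have hone : Q⁻¹ * Matrix.SpecialLinearGroup.map (algebraMap F (AlgebraicClosure F)) a.1 * Q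
        = 1 := by
      obtain ⟨o00, o01, o10, o11⟩ := sl2_one_entries_h9 (F := AlgebraicClosure F)
      apply sl2_ext_h9
      · rw [o00, ha']
      · rw [o01, w1]
      · rw [o10, w2]
      · rw [o11]; linear_combination hdet
    have h1 : Matrix.SpecialLinearGroup.map (algebraMap F (AlgebraicClosure F)) a.1 = 1 := by
      have : Matrix.SpecialLinearGroup.map (algebraMap F (AlgebraicClosure F)) a.1
          = Q * (Q⁻¹ * Matrix.SpecialLinearGroup.map (algebraMap F (AlgebraicClosure F)) a.1 * Q)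
            * Q⁻¹ := by group
      rw [this, hone]; group
    have h2 : a.1 = 1 := by
      apply sl2_map_injective_h9 (algebraMap F (AlgebraicClosure F))
        (algebraMap F (AlgebraicClosure F)).injective
      rw [h1, map_one]
    exact Subtype.ext h2
  exact isCyclic_of_injective_ringHom f hf

end Cfsg.Agent.Helper9
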