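import Mathlib
import Cfsg.Agent.Helper9.Tor2
import Cfsg.Agent.Helper9.Part5

/-!
# Subgroups of `PSL(2, q)` of order prime to `p` carry a Klein partition (helper9)
-/

set_option autoImplicit false
open scoped MatrixGroups

namespace Cfsg.Agent.Helper9

theorem sl2_CH_h9 {F : Type*} [Field F] (x : SL(2, F)) :
    x.1 * x.1 = (x.1 0 0 + x.1 1 1) • x.1 - 1 := by
  obtain ⟨-, hdet⟩ := sl2_entries_h9 x
  ext i j
  fin_cases i <;> fin_cases j
  · simp [Matrix.mul_apply, Fin.sum_univ_two]
    linear_combination -hdet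
  · simp [Matrix.mul_apply, Fin.sum_univ_two]
    ring
  · simp [Matrix.mul_apply, Fin.sum_univ_two]
    ring
  · simp [Matrix.mul_apply, Fin.sum_univ_two]
    linear_combination -hdet

/-- an element of `SL(2, F)` which is not regular semisimple has `p`-th power `±1`. -/
theorem sl2_not_good_pow_h9 {F : Type*} [Field F] {p : ℕ} [hp : Fact p.Prime] [CharP F p]
    (x : SL(2, F)) (h : ¬ sl2Good_h9 x) : x ^ p = 1 ∨ x ^ p = -1 := by
  unfold sl2Good_h9 at h
  rw [not_not] at h
  have hCH := sl2_CH_h9 x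
  have h2 : (x.1 0 0 + x.1 1 1 - 2) * (x.1 0 0 + x.1 1 1 + 2) = 0 := by linear_combination h
  rcases mul_eq_zero.mp h2 with ht | ht
  · left
    have ht' : x.1 0 0 + x.1 1 1 = 2 := by linear_combination ht
    have hNN : (x.1 - 1) ^ 2 = 0 := by
      have e : (x.1 - 1) ^ 2 = x.1 * x.1 - (2 : F) • x.1 + 1 := by
        rw [two_smul]; noncomm_ring
      rw [e, hCH, ht']
      abel
    have hNp : (x.1 - 1) ^ p = 0 := pow_eq_zero_of_le hp.out.two_le hNN
    have h3 : (x.1 - 1) ^ p = x.1 ^ p - 1 ^ p :=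
      sub_pow_char_of_commute _ (Commute.one_right _)
    rw [hNp, one_pow] at h3
    apply Subtype.ext
    rw [Matrix.SpecialLinearGroup.coe_pow, Matrix.SpecialLinearGroup.coe_one]
    exact (sub_eq_zero.mp h3.symm)
  · right
    have ht' : x.1 0 0 + x.1 1 1 = -2 := by linear_combination ht
    have hNN : (x.1 + 1) ^ 2 = 0 := by
      have e : (x.1 + 1) ^ 2 = x.1 * x.1 + (2 : F) • x.1 + 1 := by
        rw [two_smul]; noncomm_ring
      rw [e, hCH, ht', neg_smul]
      abel
    have hNp : (x.1 + 1) ^ p = 0 := pow_eq_zero_of_le hp.out.two_le hNN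
    have h3 : (x.1 + 1) ^ p = x.1 ^ p + 1 ^ p :=
      add_pow_char_of_commute _ (Commute.one_right _)
    rw [hNp, one_pow] at h3
    apply Subtype.ext
    rw [Matrix.SpecialLinearGroup.coe_pow, Matrix.SpecialLinearGroup.coe_neg,
      Matrix.SpecialLinearGroup.coe_one]
    exact eq_neg_of_add_eq_zero_left h3.symm

/-- the lifts of two elements of `PSL(2, F)` commute. -/
def psl2Comm_h9 {F : Type*} [Field F] (a b : Matrix.ProjectiveSpecialLinearGroup (Fin 2) F) :
    Prop :=
  Commute (Quotient.out a : SL(2, F)) (Quotient.out b)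

theorem psl2Comm_iff_h9 {F : Type*} [Field F] (x y : SL(2, F)) :
    psl2Comm_h9 (QuotientGroup.mk x : Matrix.ProjectiveSpecialLinearGroup (Fin 2) F)
      (QuotientGroup.mk y) ↔ Commute x y := by
  unfold psl2Comm_h9
  have hx := (psl2_mk_eq_iff_h9 _ _).mp
    (QuotientGroup.out_eq' (QuotientGroup.mk x : Matrix.ProjectiveSpecialLinearGroup (Fin 2) F))
  have hy := (psl2_mk_eq_iff_h9 _ _).mp
    (QuotientGroup.out_eq' (QuotientGroup.mk y : Matrix.ProjectiveSpecialLinearGroup (Fin 2) F))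
  rcases hx with h | h <;> rcases hy with h' | h' <;> rw [h, h']
  · exact Commute.neg_right_iff
  · exact Commute.neg_left_iff
  · rw [Commute.neg_left_iff, Commute.neg_right_iff]

theorem psl2Comm_lift_h9 {F : Type*} [Field F]
    (a b : Matrix.ProjectiveSpecialLinearGroup (Fin 2) F) (x y : SL(2, F))
    (hx : (QuotientGroup.mk x : Matrix.ProjectiveSpecialLinearGroup (Fin 2) F) = a)
    (hy : (QuotientGroup.mk y : Matrix.ProjectiveSpecialLinearGroup (Fin 2) F) = b) :
    psl2Comm_h9 a b ↔ Commute x y := by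
  subst hx hy
  exact psl2Comm_iff_h9 x y

/-- the "torus" of `y` in `H`: elements whose lifts commute with the lift of `y`. -/
def psl2Tau_h9 {F : Type*} [Field F] (H : Subgroup (Matrix.ProjectiveSpecialLinearGroup (Fin 2) F))
    (y : H) : Subgroup H where
  carrier := {z | psl2Comm_h9 z.1 y.1}
  mul_mem' := by
    intro a b ha hb
    have ha' : Commute (Quotient.out a.1 : SL(2, F)) (Quotient.out y.1) := ha
    have hb' : Commute (Quotient.out b.1 : SL(2, F)) (Quotient.out y.1) := hb
    show psl2Comm_h9 (a * b : H).1 y.1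
    rw [psl2Comm_lift_h9 (a * b : H).1 y.1 (Quotient.out a.1 * Quotient.out b.1) (Quotient.out y.1)
      (by rw [QuotientGroup.mk_mul, QuotientGroup.out_eq', QuotientGroup.out_eq']; rfl)
      (QuotientGroup.out_eq' _)]
    exact Commute.mul_left ha' hb'
  one_mem' := by
    show psl2Comm_h9 (1 : H).1 y.1
    rw [psl2Comm_lift_h9 (1 : H).1 y.1 1 (Quotient.out y.1) (by rfl) (QuotientGroup.out_eq' _)]
    exact Commute.one_left _
  inv_mem' := by
    intro a ha
    have ha' : Commute (Quotient.out a.1 : SL(2, F)) (Quotient.out y.1) := ha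
    show psl2Comm_h9 (a⁻¹ : H).1 y.1
    rw [psl2Comm_lift_h9 (a⁻¹ : H).1 y.1 (Quotient.out a.1)⁻¹ (Quotient.out y.1)
      (by rw [QuotientGroup.mk_inv, QuotientGroup.out_eq']; rfl) (QuotientGroup.out_eq' _)]
    exact Commute.inv_left ha'

theorem mem_psl2Tau_h9 {F : Type*} [Field F]
    (H : Subgroup (Matrix.ProjectiveSpecialLinearGroup (Fin 2) F)) (y z : H) :
    z ∈ psl2Tau_h9 H y ↔ Commute (Quotient.out z.1 : SL(2, F)) (Quotient.out y.1) := Iff.rfl

/-- nontrivial elements of a `p'`-subgroup of `PSL(2, F)` have regular semisimple lifts. -/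
theorem psl2_good_out_h9 {F : Type*} [Field F] [Finite F] {p : ℕ} [hp : Fact p.Prime] [CharP F p]
    (H : Subgroup (Matrix.ProjectiveSpecialLinearGroup (Fin 2) F)) (hH : ¬ p ∣ Nat.card H)
    (y : H) (hy : y ≠ 1) : sl2Good_h9 (Quotient.out y.1 : SL(2, F)) := by
  by_contra hng
  have hpow : (QuotientGroup.mk ((Quotient.out y.1 : SL(2, F)) ^ p) :
      Matrix.ProjectiveSpecialLinearGroup (Fin 2) F) = 1 := by
    rcases sl2_not_good_pow_h9 (p := p) _ hng with h | h
    · rw [h]; rfl
    · rw [h, psl2_mk_neg_h9]; rfl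
  rw [QuotientGroup.mk_pow, QuotientGroup.out_eq'] at hpow
  have hyp : y ^ p = 1 := Subtype.ext (by rw [Subgroup.coe_pow, hpow]; rfl)
  have hdvd := orderOf_dvd_of_pow_eq_one hyp
  rcases (Nat.dvd_prime hp.out).mp hdvd with h | h
  · exact hy (orderOf_eq_one_iff.mp h)
  · apply hH
    rw [← h]
    exact orderOf_dvd_natCard y

end Cfsg.Agent.Helper9
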