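import Mathlib
import Cfsg.Agent.Helper9.Tor3

/-!
# Klein's theorem: subgroups of `PSL(2, q)` of order prime to `p` (helper9)
-/

set_option autoImplicit false
open scoped MatrixGroups

namespace Cfsg.Agent.Helper9

section

variable {F : Type*} [Field F] [Finite F] {p : ℕ} [hp : Fact p.Prime] [CharP F p]
  (H : Subgroup (Matrix.ProjectiveSpecialLinearGroup (Fin 2) F))

theorem psl2Tau_part_h9 (hH : ¬ p ∣ Nat.card H) (y z : H) (hy : y ≠ 1)
    (hz : z ∈ psl2Tau_h9 H y) (hz1 : z ≠ 1) : psl2Tau_h9 H z = psl2Tau_h9 H y := by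
  have gy := psl2_good_out_h9 H hH y hy
  have gz := psl2_good_out_h9 H hH z hz1
  have hzy : Commute (Quotient.out z.1 : SL(2, F)) (Quotient.out y.1) := hz
  ext w
  rw [mem_psl2Tau_h9, mem_psl2Tau_h9]
  constructor
  · intro hw
    exact sl2_good_comm_h9 _ gz _ _ hw.eq hzy.symm.eq
  · intro hw
    exact sl2_good_comm_h9 _ gy _ _ hw.eq hzy.eq

theorem psl2Tau_conj_h9 (g y z : H) :
    z ∈ psl2Tau_h9 H y ↔ g * z * g⁻¹ ∈ psl2Tau_h9 H (g * y * g⁻¹) := by
  show psl2Comm_h9 z.1 y.1 ↔ psl2Comm_h9 (g * z * g⁻¹ : H).1 (g * y * g⁻¹ : H).1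
  rw [psl2Comm_lift_h9 (g * z * g⁻¹ : H).1 (g * y * g⁻¹ : H).1
    (Quotient.out g.1 * Quotient.out z.1 * (Quotient.out g.1)⁻¹)
    (Quotient.out g.1 * Quotient.out y.1 * (Quotient.out g.1)⁻¹)
    (by rw [QuotientGroup.mk_mul, QuotientGroup.mk_mul, QuotientGroup.mk_inv,
      QuotientGroup.out_eq', QuotientGroup.out_eq']; rfl)
    (by rw [QuotientGroup.mk_mul, QuotientGroup.mk_mul, QuotientGroup.mk_inv,
      QuotientGroup.out_eq', QuotientGroup.out_eq']; rfl)]
  rw [Commute.conj_iff]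
  rfl

theorem psl2Tau_cyc_h9 (hH : ¬ p ∣ Nat.card H) (y : H) (hy : y ≠ 1) :
    IsCyclic (psl2Tau_h9 H y) := by
  have gy := psl2_good_out_h9 H hH y hy
  let A : Subgroup SL(2, F) :=
    Subgroup.centralizer {(Quotient.out y.1 : SL(2, F))} ⊓
      H.comap (QuotientGroup.mk' (Subgroup.center SL(2, F)))
  have hA : ∀ a ∈ A, a * (Quotient.out y.1 : SL(2, F)) = Quotient.out y.1 * a := by
    intro a ha
    have := Subgroup.mem_centralizer_iff.mp ha.1 _ (Set.mem_singleton _)
    exact this.symm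
  have hcyc : IsCyclic A := sl2_good_cyclic_h9 _ gy A hA
  have hmemH : ∀ a : A, (QuotientGroup.mk a.1 : Matrix.ProjectiveSpecialLinearGroup (Fin 2) F) ∈ H :=
    fun a => a.2.2
  have hmemT : ∀ a : A, (⟨QuotientGroup.mk a.1, hmemH a⟩ : H) ∈ psl2Tau_h9 H y := by
    intro a
    show psl2Comm_h9 (QuotientGroup.mk a.1) y.1
    rw [psl2Comm_lift_h9 _ y.1 a.1 (Quotient.out y.1) rfl (QuotientGroup.out_eq' _)]
    exact hA a.1 a.2
  let f : A →* psl2Tau_h9 H y := MonoidHom.mk' (fun a => ⟨⟨QuotientGroup.mk a.1, hmemH a⟩, hmemT a⟩)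
    (fun a b => rfl)
  have hf : Function.Surjective f := by
    intro z
    have hzA1 : (Quotient.out z.1.1 : SL(2, F)) ∈
        Subgroup.centralizer {(Quotient.out y.1 : SL(2, F))} := by
      rw [Subgroup.mem_centralizer_iff]
      intro g hg
      rw [Set.mem_singleton_iff] at hg
      rw [hg]
      have := (mem_psl2Tau_h9 H y z.1).mp z.2
      exact this.eq.symm
    have hzA2 : (Quotient.out z.1.1 : SL(2, F)) ∈
        H.comap (QuotientGroup.mk' (Subgroup.center SL(2, F))) := by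
      show (QuotientGroup.mk (Quotient.out z.1.1 : SL(2, F)) :
        Matrix.ProjectiveSpecialLinearGroup (Fin 2) F) ∈ H
      rw [QuotientGroup.out_eq']
      exact z.1.2
    have hzA : (Quotient.out z.1.1 : SL(2, F)) ∈ A := Subgroup.mem_inf.mpr ⟨hzA1, hzA2⟩
    refine ⟨⟨_, hzA⟩, ?_⟩
    apply Subtype.ext
    apply Subtype.ext
    exact QuotientGroup.out_eq' _
  exact isCyclic_of_surjective f hf

theorem psl2Tau_norm_h9 (hH : ¬ p ∣ Nat.card H) (y : H) (hy : y ≠ 1) :
    Nat.card (Subgroup.normalizer (psl2Tau_h9 H y : Set H)) ≤ 2 * Nat.card (psl2Tau_h9 H y) := by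
  have gy := psl2_good_out_h9 H hH y hy
  have hyT : y ∈ psl2Tau_h9 H y := (mem_psl2Tau_h9 H y y).mpr (Commute.refl _)
  -- elements of the normalizer centralize or invert the lift
  have key : ∀ n : H, n ∈ Subgroup.normalizer (psl2Tau_h9 H y : Set H) →
      Quotient.out n.1 * (Quotient.out y.1 : SL(2, F)) * (Quotient.out n.1)⁻¹ = Quotient.out y.1 ∨
      Quotient.out n.1 * (Quotient.out y.1 : SL(2, F)) * (Quotient.out n.1)⁻¹
        = (Quotient.out y.1)⁻¹ := by
    intro n hn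
    have h1 : n * y * n⁻¹ ∈ psl2Tau_h9 H y := (Subgroup.mem_normalizer_iff.mp hn y).mp hyT
    have h2 : psl2Comm_h9 (n * y * n⁻¹ : H).1 y.1 := h1
    rw [psl2Comm_lift_h9 (n * y * n⁻¹ : H).1 y.1
      (Quotient.out n.1 * Quotient.out y.1 * (Quotient.out n.1)⁻¹) (Quotient.out y.1)
      (by rw [QuotientGroup.mk_mul, QuotientGroup.mk_mul, QuotientGroup.mk_inv,
        QuotientGroup.out_eq', QuotientGroup.out_eq']; rfl) (QuotientGroup.out_eq' _)] at h2
    exact sl2_good_conj_h9 _ gy _ h2.eq (sl2_trace_conj_h9 _ _)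
  have hmemT : ∀ n : H, Quotient.out n.1 * (Quotient.out y.1 : SL(2, F)) * (Quotient.out n.1)⁻¹
      = Quotient.out y.1 → n ∈ psl2Tau_h9 H y := by
    intro n hn
    rw [mem_psl2Tau_h9]
    show Quotient.out n.1 * (Quotient.out y.1 : SL(2, F)) = Quotient.out y.1 * Quotient.out n.1
    calc Quotient.out n.1 * (Quotient.out y.1 : SL(2, F))
        = (Quotient.out n.1 * (Quotient.out y.1 : SL(2, F)) * (Quotient.out n.1)⁻¹)
          * Quotient.out n.1 := by group
      _ = Quotient.out y.1 * Quotient.out n.1 := by rw [hn]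
  have e1 : Nat.card (Subgroup.normalizer (psl2Tau_h9 H y : Set H))
      = ((Subgroup.normalizer (psl2Tau_h9 H y : Set H) : Subgroup H) : Set H).ncard := rfl
  have e2 : Nat.card (psl2Tau_h9 H y) = ((psl2Tau_h9 H y : Subgroup H) : Set H).ncard := rfl
  by_cases hsub : ∀ n ∈ Subgroup.normalizer (psl2Tau_h9 H y : Set H), n ∈ psl2Tau_h9 H y
  · have := Subgroup.card_le_of_le (show Subgroup.normalizer (psl2Tau_h9 H y : Set H)
      ≤ psl2Tau_h9 H y from hsub)
    omega
  · obtain ⟨n₀, hn₀'⟩ := not_forall.mp hsub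
    obtain ⟨hn₀, hn₀T⟩ := Classical.not_imp.mp hn₀'
    have hn₀inv : Quotient.out n₀.1 * (Quotient.out y.1 : SL(2, F)) * (Quotient.out n₀.1)⁻¹
        = (Quotient.out y.1)⁻¹ := by
      rcases key n₀ hn₀ with h | h
      · exact absurd (hmemT n₀ h) hn₀T
      · exact h
    have hcover : ((Subgroup.normalizer (psl2Tau_h9 H y : Set H) : Subgroup H) : Set H) ⊆
        ((psl2Tau_h9 H y : Subgroup H) : Set H) ∪
          (fun t => n₀ * t) '' ((psl2Tau_h9 H y : Subgroup H) : Set H) := by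
      intro n hn
      by_cases hnT : n ∈ psl2Tau_h9 H y
      · left; exact hnT
      · right
        refine ⟨n₀⁻¹ * n, ?_, by group⟩
        have hninv : Quotient.out n.1 * (Quotient.out y.1 : SL(2, F)) * (Quotient.out n.1)⁻¹
            = (Quotient.out y.1)⁻¹ := by
          rcases key n hn with h | h
          · exact absurd (hmemT n h) hnT
          · exact h
        show psl2Comm_h9 (n₀⁻¹ * n : H).1 y.1
        rw [psl2Comm_lift_h9 (n₀⁻¹ * n : H).1 y.1
          ((Quotient.out n₀.1)⁻¹ * Quotient.out n.1) (Quotient.out y.1)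
          (by rw [QuotientGroup.mk_mul, QuotientGroup.mk_inv,
            QuotientGroup.out_eq', QuotientGroup.out_eq']; rfl) (QuotientGroup.out_eq' _)]
        show (Quotient.out n₀.1)⁻¹ * Quotient.out n.1 * (Quotient.out y.1 : SL(2, F))
          = Quotient.out y.1 * ((Quotient.out n₀.1)⁻¹ * Quotient.out n.1)
        have e3 : Quotient.out n.1 * (Quotient.out y.1 : SL(2, F))
            = (Quotient.out y.1)⁻¹ * Quotient.out n.1 := by
          rw [← hninv]; group
        have e4 : (Quotient.out n₀.1)⁻¹ * (Quotient.out y.1 : SL(2, F))⁻¹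
            = Quotient.out y.1 * (Quotient.out n₀.1)⁻¹ := by
          rw [← hn₀inv]; group
        calc (Quotient.out n₀.1)⁻¹ * Quotient.out n.1 * (Quotient.out y.1 : SL(2, F))
            = (Quotient.out n₀.1)⁻¹ * (Quotient.out n.1 * (Quotient.out y.1 : SL(2, F))) := by
              group
          _ = ((Quotient.out n₀.1)⁻¹ * (Quotient.out y.1 : SL(2, F))⁻¹) * Quotient.out n.1 := by
              rw [e3]; group
          _ = Quotient.out y.1 * ((Quotient.out n₀.1)⁻¹ * Quotient.out n.1) := by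
              rw [e4]; group
    have h1 := Set.ncard_le_ncard hcover
    have h2 := Set.ncard_union_le ((psl2Tau_h9 H y : Subgroup H) : Set H)
      ((fun t => n₀ * t) '' ((psl2Tau_h9 H y : Subgroup H) : Set H))
    have h3 := Set.ncard_image_le (f := fun t => n₀ * t)
      (s := ((psl2Tau_h9 H y : Subgroup H) : Set H))
    rw [e1, e2]
    omega

/-- the Klein partition of a `p'`-subgroup of `PSL(2, q)`. -/
def psl2KPart_h9 (hH : ¬ p ∣ Nat.card H) : KPart_h9 H where
  τ := psl2Tau_h9 H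
  h_mem := fun y => (mem_psl2Tau_h9 H y y).mpr (Commute.refl _)
  h_cyc := psl2Tau_cyc_h9 H hH
  h_part := fun y z hy hz hz1 => psl2Tau_part_h9 H hH y z hy hz hz1
  h_conj := psl2Tau_conj_h9 H
  h_norm := psl2Tau_norm_h9 H hH

/-- **Klein**: a subgroup of `PSL(2, q)` of order prime to `p` is cyclic, dihedral, `A₄`, `S₄`
or `A₅`. -/
theorem psl2_pprime_h9 (hH : ¬ p ∣ Nat.card H) :
    IsCyclic H ∨ (∃ k : ℕ, Nat.card H = 2 * k ∧ Nonempty (H ≃* DihedralGroup k)) ∨
    Nonempty (H ≃* alternatingGroup (Fin 4)) ∨ Nonempty (H ≃* Equiv.Perm (Fin 4)) ∨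
    Nonempty (H ≃* alternatingGroup (Fin 5)) := by
  rcases (psl2KPart_h9 H hH).classify with h | ⟨y, -, hc, hd⟩ | h | h | h
  · exact Or.inl ((psl2KPart_h9 H hH).cyclic_of_first h)
  · exact Or.inr (Or.inl ⟨_, hc, hd⟩)
  · exact Or.inr (Or.inr (Or.inl h))
  · exact Or.inr (Or.inr (Or.inr (Or.inl h)))
  · exact Or.inr (Or.inr (Or.inr (Or.inr h)))

end

end Cfsg.Agent.Helper9
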