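import Mathlib
import Cfsg.Agent.Helper9.Tor4

/-!
# Orders of tori in `SL(2, q)` and `PSL(2, q)` (helper9)
-/

set_option autoImplicit false
open scoped MatrixGroups

namespace Cfsg.Agent.Helper9

/-- the eigenvalue character on a subgroup of the centralizer of a regular semisimple element. -/
theorem sl2_good_hom_h9 {F : Type*} [Field F] (x : SL(2, F)) (hx : sl2Good_h9 x)
    (A : Subgroup SL(2, F)) (hA : ∀ a ∈ A, a * x = x * a) :
    ∃ f : A →* AlgebraicClosure F, Function.Injective f ∧
      ∀ a : A, f a ^ 2 - algebraMap F (AlgebraicClosure F) (a.1.1 0 0 + a.1.1 1 1) * f a + 1 = 0 := by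
  obtain ⟨Q, l, m, hlm, hne, -, hQ⟩ := sl2_good_diag_h9 x hx
  have hW := fun (a : A) => sl2_good_W_h9 x Q l m hlm hne hQ a.1 (hA a.1 a.2)
  let f : A →* AlgebraicClosure F :=
    { toFun := fun a =>
        (Q⁻¹ * Matrix.SpecialLinearGroup.map (algebraMap F (AlgebraicClosure F)) a.1 * Q).1 0 0
      map_one' := by
        have : Q⁻¹ * Matrix.SpecialLinearGroup.map (algebraMap F (AlgebraicClosure F))
            ((1 : A) : SL(2, F)) * Q = 1 := by
          rw [Subgroup.coe_one, map_one]; group
        rw [this]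
        exact sl2_one_entries_h9.1
      map_mul' := by
        intro a b
        have : Q⁻¹ * Matrix.SpecialLinearGroup.map (algebraMap F (AlgebraicClosure F))
            ((a * b : A) : SL(2, F)) * Q
            = (Q⁻¹ * Matrix.SpecialLinearGroup.map (algebraMap F (AlgebraicClosure F)) a.1 * Q)
            * (Q⁻¹ * Matrix.SpecialLinearGroup.map (algebraMap F (AlgebraicClosure F)) b.1 * Q) := by
          rw [Subgroup.coe_mul, map_mul]; group
        rw [this, (sl2_mul_entries_h9 _ _).1, (hW a).1]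
        ring }
  have hfdef : ∀ a : A, f a
      = (Q⁻¹ * Matrix.SpecialLinearGroup.map (algebraMap F (AlgebraicClosure F)) a.1 * Q).1 0 0 :=
    fun a => rfl
  refine ⟨f, ?_, ?_⟩
  · rw [injective_iff_map_eq_one]
    intro a ha
    have ha' : (Q⁻¹ * Matrix.SpecialLinearGroup.map (algebraMap F (AlgebraicClosure F)) a.1 * Q).1 0 0
        = 1 := ha
    obtain ⟨w1, w2⟩ := hW a
    obtain ⟨-, hdet⟩ := sl2_entries_h9
      (Q⁻¹ * Matrix.SpecialLinearGroup.map (algebraMap F (AlgebraicClosure F)) a.1 * Q)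
    rw [w1, w2, ha'] at hdet
    have hone : Q⁻¹ * Matrix.SpecialLinearGroup.map (algebraMap F (AlgebraicClosure F)) a.1 * Q
        = 1 := by
      obtain ⟨o00, o01, o10, o11⟩ := sl2_one_entries_h9 (F := AlgebraicClosure F)
      apply sl2_ext_h9
      · rw [o00, ha']
      · rw [o01, w1]
      · rw [o10, w2]
      · rw [o11]; linear_combination hdet
    have h1 : Matrix.SpecialLinearGroup.map (algebraMap F (AlgebraicClosure F)) a.1 = 1 := by
      have : Matrix.SpecialLinearGroup.map (algebraMap F (AlgebraicClosure F)) a.1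
          = Q * (Q⁻¹ * Matrix.SpecialLinearGroup.map (algebraMap F (AlgebraicClosure F)) a.1 * Q)
            * Q⁻¹ := by group
      rw [this, hone]; group
    have h2 : a.1 = 1 := by
      apply sl2_map_injective_h9 (algebraMap F (AlgebraicClosure F))
        (algebraMap F (AlgebraicClosure F)).injective
      rw [h1, map_one]
    exact Subtype.ext h2
  · intro a
    rw [hfdef]
    obtain ⟨w1, w2⟩ := hW a
    obtain ⟨-, hdet⟩ := sl2_entries_h9
      (Q⁻¹ * Matrix.SpecialLinearGroup.map (algebraMap F (AlgebraicClosure F)) a.1 * Q)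
    rw [w1, w2] at hdet
    have htr := sl2_trace_conj_h9 Q⁻¹
      (Matrix.SpecialLinearGroup.map (algebraMap F (AlgebraicClosure F)) a.1)
    rw [inv_inv] at htr
    have e0 : (Matrix.SpecialLinearGroup.map (algebraMap F (AlgebraicClosure F)) a.1).1 0 0
        + (Matrix.SpecialLinearGroup.map (algebraMap F (AlgebraicClosure F)) a.1).1 1 1
        = algebraMap F (AlgebraicClosure F) (a.1.1 0 0 + a.1.1 1 1) := by
      rw [map_add]; rfl
    rw [e0] at htr
    rw [← htr]
    linear_combination -hdet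

/-- a subgroup of the centralizer of a regular semisimple element of `SL(2, q)` has order
dividing `q - 1` or `q + 1`. -/
theorem sl2_good_card_dvd_h9 {F : Type*} [Field F] [Fintype F] (x : SL(2, F))
    (hx : sl2Good_h9 x) (A : Subgroup SL(2, F)) (hA : ∀ a ∈ A, a * x = x * a) :
    Nat.card A ∣ Fintype.card F - 1 ∨ Nat.card A ∣ Fintype.card F + 1 := by
  obtain ⟨f, hf, hquad⟩ := sl2_good_hom_h9 x hx A hA
  haveI : IsCyclic A := isCyclic_of_injective_ringHom f hf
  obtain ⟨g, hg⟩ := IsCyclic.exists_generator (α := A)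
  have hord : orderOf g = Nat.card A := orderOf_eq_card_of_forall_mem_zpowers hg
  haveI := ringChar.charP F
  obtain ⟨n, hprime, hcard⟩ := FiniteField.card F (ringChar F)
  haveI : Fact (ringChar F).Prime := ⟨hprime⟩
  haveI : CharP (AlgebraicClosure F) (ringChar F) :=
    charP_of_injective_algebraMap (algebraMap F (AlgebraicClosure F)).injective _
  have hs : ∀ s : F, s ^ (ringChar F ^ (n : ℕ)) = s := by
    intro s
    rw [← hcard]; exact FiniteField.pow_card s
  have E := hquad g
  generalize hν : f g = ν at E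
  generalize hsdef : g.1.1 0 0 + g.1.1 1 1 = s at E
  have Eq : (ν ^ (ringChar F ^ (n : ℕ))) ^ 2
      - algebraMap F (AlgebraicClosure F) s * ν ^ (ringChar F ^ (n : ℕ)) + 1 = 0 := by
    have h1 : (ν ^ 2 - algebraMap F (AlgebraicClosure F) s * ν + 1) ^ (ringChar F ^ (n : ℕ))
        = (ν ^ (ringChar F ^ (n : ℕ))) ^ 2
          - algebraMap F (AlgebraicClosure F) s * ν ^ (ringChar F ^ (n : ℕ)) + 1 := by
      rw [add_pow_char_pow, sub_pow_char_pow, mul_pow, one_pow, ← map_pow, hs s, ← pow_mul,
        ← pow_mul, mul_comm 2]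
    rw [← h1, E, zero_pow]
    exact pow_ne_zero _ hprime.ne_zero
  rw [← hcard] at Eq
  have hνν' : ν * (algebraMap F (AlgebraicClosure F) s - ν) = 1 := by linear_combination -E
  have hν0 : ν ≠ 0 := by
    rintro rfl
    simp at hνν'
  have hprod : (ν ^ Fintype.card F - ν)
      * (ν ^ Fintype.card F - (algebraMap F (AlgebraicClosure F) s - ν)) = 0 := by
    linear_combination Eq + hνν'
  have hq1 : 1 ≤ Fintype.card F := Fintype.card_pos
  rcases mul_eq_zero.mp hprod with h | h
  · left
    have h1 : ν ^ (Fintype.card F - 1) = 1 := by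
      have e : ν ^ Fintype.card F = ν ^ (Fintype.card F - 1) * ν := by
        rw [← pow_succ]; congr 1; omega
      have h2 : ν ^ (Fintype.card F - 1) * ν = 1 * ν := by
        rw [← e, one_mul]; linear_combination h
      exact mul_right_cancel₀ hν0 h2
    have h3 : g ^ (Fintype.card F - 1) = 1 := by
      apply hf
      rw [map_pow, map_one, hν, h1]
    rw [← hord]
    exact orderOf_dvd_of_pow_eq_one h3
  · right
    have h1 : ν ^ (Fintype.card F + 1) = 1 := by
      rw [pow_succ]
      linear_combination ν * h + hνν'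
    have h3 : g ^ (Fintype.card F + 1) = 1 := by
      apply hf
      rw [map_pow, map_one, hν, h1]
    rw [← hord]
    exact orderOf_dvd_of_pow_eq_one h3

/-- in odd characteristic the torus `τ y` of a `p'`-subgroup of `PSL(2, q)` has order dividing
`(q - 1) / 2` or `(q + 1) / 2`. -/
theorem psl2Tau_card_dvd_h9 {F : Type*} [Field F] [Fintype F] {p : ℕ} [hp : Fact p.Prime]
    [CharP F p] (h2 : (2 : F) ≠ 0)
    (H : Subgroup (Matrix.ProjectiveSpecialLinearGroup (Fin 2) F)) (hH : ¬ p ∣ Nat.card H)
    (y : H) (hy : y ≠ 1) :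
    2 * Nat.card (psl2Tau_h9 H y) ∣ Fintype.card F - 1 ∨
      2 * Nat.card (psl2Tau_h9 H y) ∣ Fintype.card F + 1 := by
  have gy := psl2_good_out_h9 H hH y hy
  let A : Subgroup SL(2, F) :=
    Subgroup.centralizer {(Quotient.out y.1 : SL(2, F))} ⊓
      H.comap (QuotientGroup.mk' (Subgroup.center SL(2, F)))
  have hA : ∀ a ∈ A, a * (Quotient.out y.1 : SL(2, F)) = Quotient.out y.1 * a := by
    intro a ha
    have := Subgroup.mem_centralizer_iff.mp ha.1 _ (Set.mem_singleton _)
    exact this.symm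
  have hmemH : ∀ a : A, (QuotientGroup.mk a.1 : Matrix.ProjectiveSpecialLinearGroup (Fin 2) F) ∈ H :=
    fun a => a.2.2
  have hmemT : ∀ a : A, (⟨QuotientGroup.mk a.1, hmemH a⟩ : H) ∈ psl2Tau_h9 H y := by
    intro a
    show psl2Comm_h9 (QuotientGroup.mk a.1) y.1
    rw [psl2Comm_lift_h9 _ y.1 a.1 (Quotient.out y.1) rfl (QuotientGroup.out_eq' _)]
    exact hA a.1 a.2
  let f : A →* psl2Tau_h9 H y := MonoidHom.mk' (fun a => ⟨⟨QuotientGroup.mk a.1, hmemH a⟩, hmemT a⟩)
    (fun a b => rfl)
  have hfval : ∀ a : A, ((f a).1.1 : Matrix.ProjectiveSpecialLinearGroup (Fin 2) F)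
      = QuotientGroup.mk a.1 := fun a => rfl
  have hf : Function.Surjective f := by
    intro z
    have hzA1 : (Quotient.out z.1.1 : SL(2, F)) ∈
        Subgroup.centralizer {(Quotient.out y.1 : SL(2, F))} := by
      rw [Subgroup.mem_centralizer_iff]
      intro g hg
      rw [Set.mem_singleton_iff] at hg
      rw [hg]
      have := (mem_psl2Tau_h9 H y z.1).mp z.2
      exact this.eq.symm
    have hzA2 : (Quotient.out z.1.1 : SL(2, F)) ∈
        H.comap (QuotientGroup.mk' (Subgroup.center SL(2, F))) := by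
      show (QuotientGroup.mk (Quotient.out z.1.1 : SL(2, F)) :
        Matrix.ProjectiveSpecialLinearGroup (Fin 2) F) ∈ H
      rw [QuotientGroup.out_eq']
      exact z.1.2
    have hzA : (Quotient.out z.1.1 : SL(2, F)) ∈ A := Subgroup.mem_inf.mpr ⟨hzA1, hzA2⟩
    refine ⟨⟨_, hzA⟩, ?_⟩
    apply Subtype.ext
    apply Subtype.ext
    exact QuotientGroup.out_eq' _
  -- the kernel is `{1, -1}`
  have hnegA1 : (-1 : SL(2, F)) ∈ Subgroup.centralizer {(Quotient.out y.1 : SL(2, F))} := by
    rw [Subgroup.mem_centralizer_iff]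
    intro g _
    rw [mul_neg, neg_mul, mul_one, one_mul]
  have hnegA2 : (-1 : SL(2, F)) ∈ H.comap (QuotientGroup.mk' (Subgroup.center SL(2, F))) := by
    show (QuotientGroup.mk (-1 : SL(2, F)) : Matrix.ProjectiveSpecialLinearGroup (Fin 2) F) ∈ H
    rw [psl2_mk_neg_h9]
    exact H.one_mem
  have hnegA : (-1 : SL(2, F)) ∈ A := Subgroup.mem_inf.mpr ⟨hnegA1, hnegA2⟩
  have hnegker : (⟨-1, hnegA⟩ : A) ∈ f.ker := by
    rw [MonoidHom.mem_ker]
    apply Subtype.ext
    apply Subtype.ext
    rw [hfval]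
    show (QuotientGroup.mk (-1 : SL(2, F)) : Matrix.ProjectiveSpecialLinearGroup (Fin 2) F) = 1
    rw [psl2_mk_neg_h9]; rfl
  have hneg1 : (-1 : SL(2, F)) ≠ 1 := by
    intro h
    have h00 := congrArg (fun g : SL(2, F) => g.1 0 0) h
    simp only [(sl2_neg_entries_h9 (1 : SL(2, F))).1, (sl2_one_entries_h9 (F := F)).1] at h00
    apply h2
    linear_combination -h00
  have hker2 : Nat.card f.ker = 2 := by
    rw [Nat.card_eq_two_iff' (1 : f.ker)]
    refine ⟨⟨⟨-1, hnegA⟩, hnegker⟩, ?_, ?_⟩
    · intro h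
      apply hneg1
      have := congrArg (fun c : f.ker => (c.1.1 : SL(2, F))) h
      exact this
    · intro c hc
      have hck := c.2
      rw [MonoidHom.mem_ker] at hck
      have h1 : (QuotientGroup.mk c.1.1 : Matrix.ProjectiveSpecialLinearGroup (Fin 2) F)
          = QuotientGroup.mk (1 : SL(2, F)) := by
        rw [← hfval, hck]; rfl
      rcases (psl2_mk_eq_iff_h9 _ _).mp h1 with h | h
      · exfalso
        apply hc
        apply Subtype.ext
        apply Subtype.ext
        exact h
      · apply Subtype.ext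
        apply Subtype.ext
        exact h
  have hcard : Nat.card A = 2 * Nat.card (psl2Tau_h9 H y) := by
    have h1 := Subgroup.card_eq_card_quotient_mul_card_subgroup f.ker
    have h3 : Nat.card (A ⧸ f.ker) = Nat.card (psl2Tau_h9 H y) :=
      Nat.card_congr (QuotientGroup.quotientKerEquivOfSurjective f hf).toEquiv
    rw [h3, hker2] at h1
    rw [h1, mul_comm]
  have := sl2_good_card_dvd_h9 _ gy A hA
  rw [hcard] at this
  exact this

end Cfsg.Agent.Helper9
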