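import Mathlib
import Cfsg.Agent.Helper9.Tor5
import Cfsg.Agent.Helper9.Mix2
import Cfsg.Agent.Helper9.SL2m
import Cfsg.Agent.Helper9.SL2h

/-!
# Dickson: subgroups of `PSL(2, q)` of order divisible by `p`, general lemmas (helper9)

The partition `psl2Tau_h9 H` for an arbitrary subgroup `H` of `PSL(2, F)`; unipotent classes are
Sylow `p`-subgroups.
-/

set_option autoImplicit false
open scoped MatrixGroups

namespace Cfsg.Agent.Helper9

/-- the centralizer of a non-central element of `SL(2, F)` is commutative. -/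
theorem sl2_comm_of_noncentral_h9 {F : Type*} [Field F] (x : SL(2, F)) (hx : x ≠ 1)
    (hx' : x ≠ -1) (y z : SL(2, F)) (hy : y * x = x * y) (hz : z * x = x * z) :
    y * z = z * y := by
  obtain ⟨-, xdet⟩ := sl2_entries_h9 x
  obtain ⟨a00, a01, a10, a11⟩ := sl2_mul_entries_h9 y x
  obtain ⟨b00, b01, b10, b11⟩ := sl2_mul_entries_h9 x y
  obtain ⟨c00, c01, c10, c11⟩ := sl2_mul_entries_h9 z x
  obtain ⟨d00, d01, d10, d11⟩ := sl2_mul_entries_h9 x z
  obtain ⟨m00, m01, m10, m11⟩ := sl2_mul_entries_h9 y z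
  obtain ⟨n00, n01, n10, n11⟩ := sl2_mul_entries_h9 z y
  rw [hy] at a00 a01 a10 a11
  rw [hz] at c00 c01 c10 c11
  have ey1 : y.1 0 1 * x.1 1 0 = x.1 0 1 * y.1 1 0 := by linear_combination b00 - a00
  have ey2 : y.1 0 0 * x.1 0 1 + y.1 0 1 * x.1 1 1 = x.1 0 0 * y.1 0 1 + x.1 0 1 * y.1 1 1 :=
    a01.symm.trans b01
  have ey3 : y.1 1 0 * x.1 0 0 + y.1 1 1 * x.1 1 0 = x.1 1 0 * y.1 0 0 + x.1 1 1 * y.1 1 0 :=
    a10.symm.trans b10
  have ez1 : z.1 0 1 * x.1 1 0 = x.1 0 1 * z.1 1 0 := by linear_combination d00 - c00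
  have ez2 : z.1 0 0 * x.1 0 1 + z.1 0 1 * x.1 1 1 = x.1 0 0 * z.1 0 1 + x.1 0 1 * z.1 1 1 :=
    c01.symm.trans d01
  have ez3 : z.1 1 0 * x.1 0 0 + z.1 1 1 * x.1 1 0 = x.1 1 0 * z.1 0 0 + x.1 1 1 * z.1 1 0 :=
    c10.symm.trans d10
  by_cases hb : x.1 0 1 = 0
  · by_cases hc : x.1 1 0 = 0
    · have had : x.1 0 0 - x.1 1 1 ≠ 0 := by
        intro h
        have h' : x.1 0 0 = x.1 1 1 := sub_eq_zero.mp h
        rw [hb, hc, h'] at xdet
        have h1 : (x.1 1 1 - 1) * (x.1 1 1 + 1) = 0 := by linear_combination xdet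
        obtain ⟨o00, o01, o10, o11⟩ := sl2_one_entries_h9 (F := F)
        obtain ⟨k00, k01, k10, k11⟩ := sl2_neg_entries_h9 (1 : SL(2, F))
        rcases mul_eq_zero.mp h1 with h2 | h2
        · apply hx
          have h3 : x.1 1 1 = 1 := by linear_combination h2
          apply sl2_ext_h9
          · rw [o00, h', h3]
          · rw [o01, hb]
          · rw [o10, hc]
          · rw [o11, h3]
        · apply hx'
          have h3 : x.1 1 1 = -1 := by linear_combination h2
          apply sl2_ext_h9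
          · rw [k00, o00, h', h3]
          · rw [k01, o01, hb, neg_zero]
          · rw [k10, o10, hc, neg_zero]
          · rw [k11, o11, h3]
      rw [hb] at ey2 ez2
      rw [hc] at ey3 ez3
      have hy01 : y.1 0 1 = 0 := by
        have : y.1 0 1 * (x.1 0 0 - x.1 1 1) = 0 := by linear_combination -ey2
        exact (mul_eq_zero.mp this).resolve_right had
      have hy10 : y.1 1 0 = 0 := by
        have : y.1 1 0 * (x.1 0 0 - x.1 1 1) = 0 := by linear_combination ey3
        exact (mul_eq_zero.mp this).resolve_right had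
      have hz01 : z.1 0 1 = 0 := by
        have : z.1 0 1 * (x.1 0 0 - x.1 1 1) = 0 := by linear_combination -ez2
        exact (mul_eq_zero.mp this).resolve_right had
      have hz10 : z.1 1 0 = 0 := by
        have : z.1 1 0 * (x.1 0 0 - x.1 1 1) = 0 := by linear_combination ez3
        exact (mul_eq_zero.mp this).resolve_right had
      exact sl2_diag_comm_h9 y z hy01 hy10 hz01 hz10
    · have hy01 : y.1 0 1 = x.1 0 1 * y.1 1 0 / x.1 1 0 := by rw [eq_div_iff hc]; exact ey1
      have hy00' : y.1 0 0 - y.1 1 1 = (x.1 0 0 - x.1 1 1) * y.1 1 0 / x.1 1 0 := by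
        rw [eq_div_iff hc]; linear_combination -ey3
      have hy00 : y.1 0 0 = y.1 1 1 + (x.1 0 0 - x.1 1 1) * y.1 1 0 / x.1 1 0 := by
        rw [← hy00']; ring
      have hz01 : z.1 0 1 = x.1 0 1 * z.1 1 0 / x.1 1 0 := by rw [eq_div_iff hc]; exact ez1
      have hz00' : z.1 0 0 - z.1 1 1 = (x.1 0 0 - x.1 1 1) * z.1 1 0 / x.1 1 0 := by
        rw [eq_div_iff hc]; linear_combination -ez3
      have hz00 : z.1 0 0 = z.1 1 1 + (x.1 0 0 - x.1 1 1) * z.1 1 0 / x.1 1 0 := by
        rw [← hz00']; ring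
      apply sl2_ext_h9
      · rw [m00, n00, hy01, hy00, hz01, hz00]; first | (field_simp; ring) | field_simp
      · rw [m01, n01, hy01, hy00, hz01, hz00]; first | (field_simp; ring) | field_simp
      · rw [m10, n10, hy00, hz00]; first | (field_simp; ring) | field_simp
      · rw [m11, n11, hy01, hz01]; first | (field_simp; ring) | field_simp
  · have hy10 : y.1 1 0 = x.1 1 0 * y.1 0 1 / x.1 0 1 := by
      rw [eq_div_iff hb]; linear_combination -ey1
    have hy00' : y.1 0 0 - y.1 1 1 = (x.1 0 0 - x.1 1 1) * y.1 0 1 / x.1 0 1 := by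
      rw [eq_div_iff hb]; linear_combination ey2
    have hy00 : y.1 0 0 = y.1 1 1 + (x.1 0 0 - x.1 1 1) * y.1 0 1 / x.1 0 1 := by
      rw [← hy00']; ring
    have hz10 : z.1 1 0 = x.1 1 0 * z.1 0 1 / x.1 0 1 := by
      rw [eq_div_iff hb]; linear_combination -ez1
    have hz00' : z.1 0 0 - z.1 1 1 = (x.1 0 0 - x.1 1 1) * z.1 0 1 / x.1 0 1 := by
      rw [eq_div_iff hb]; linear_combination ez2
    have hz00 : z.1 0 0 = z.1 1 1 + (x.1 0 0 - x.1 1 1) * z.1 0 1 / x.1 0 1 := by
      rw [← hz00']; ring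
    apply sl2_ext_h9
    · rw [m00, n00, hy10, hy00, hz10, hz00]; first | (field_simp; ring) | field_simp
    · rw [m01, n01, hy00, hz00]; first | (field_simp; ring) | field_simp
    · rw [m10, n10, hy10, hy00, hz10, hz00]; first | (field_simp; ring) | field_simp
    · rw [m11, n11, hy10, hz10]; first | (field_simp; ring) | field_simp

/-- commuting up to sign with a non-regular element means commuting. -/
theorem sl2_comm_of_sign_h9 {F : Type*} [Field F] (a b : SL(2, F)) (hb : ¬ sl2Good_h9 b)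
    (h : a * b = b * a ∨ a * b = -(b * a)) : a * b = b * a := by
  rcases h with h | h
  · exact h
  · have htr := sl2_trace_conj_h9 a b
    have e : a * b * a⁻¹ = -b := by rw [h, neg_mul, mul_inv_cancel_right]
    rw [e] at htr
    obtain ⟨n00, -, -, n11⟩ := sl2_neg_entries_h9 b
    rw [n00, n11] at htr
    unfold sl2Good_h9 at hb
    rw [not_not] at hb
    have h2 : (2 : F) = 0 := by
      have h4 : (2 : F) ^ 4 = 0 := by
        linear_combination (-(2 * (b.1 0 0 + b.1 1 1))) * htr - 4 * hb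
      exact pow_eq_zero_iff (by norm_num) |>.mp h4
    rw [h, sl2_neg_char_two_h9 h2]

/-- elements whose `p^j`-th power is central are not regular semisimple. -/
theorem sl2_not_good_of_ppow_h9 {F : Type*} [Field F] {p : ℕ} [hp : Fact p.Prime] [CharP F p]
    (x : SL(2, F)) (j : ℕ) (h : x ^ (p ^ j) = 1 ∨ x ^ (p ^ j) = -1) : ¬ sl2Good_h9 x := by
  unfold sl2Good_h9
  rw [not_not]
  rcases h with h | h
  · have := sl2_unip_trace_h9 x j h
    rw [this]; norm_num
  · by_cases h2 : (2 : F) = 0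
    · rw [sl2_neg_one_char_two_h9 h2] at h
      have := sl2_unip_trace_h9 x j h
      rw [this]; norm_num
    · have hp2 : p ≠ 2 := by
        rintro rfl
        exact h2 (by have := CharP.cast_eq_zero F 2; exact_mod_cast this)
      have hodd : Odd (p ^ j) := (hp.out.odd_of_ne_two hp2).pow
      have h' : (-x) ^ (p ^ j) = 1 := by rw [hodd.neg_pow, h, neg_neg]
      have := sl2_unip_trace_h9 (-x) j h'
      obtain ⟨n00, -, -, n11⟩ := sl2_neg_entries_h9 x
      rw [n00, n11] at this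
      have e : x.1 0 0 + x.1 1 1 = -2 := by linear_combination -this
      rw [e]; norm_num

theorem psl2_out_ne_h9 {F : Type*} [Field F]
    (y : Matrix.ProjectiveSpecialLinearGroup (Fin 2) F) (hy : y ≠ 1) :
    (Quotient.out y : SL(2, F)) ≠ 1 ∧ (Quotient.out y : SL(2, F)) ≠ -1 := by
  have h0 : (QuotientGroup.mk (Quotient.out y : SL(2, F)) :
      Matrix.ProjectiveSpecialLinearGroup (Fin 2) F) = y := QuotientGroup.out_eq' y
  constructor
  · intro h
    rw [h] at h0
    exact hy h0.symm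
  · intro h
    rw [h, psl2_mk_neg_h9] at h0
    exact hy h0.symm

/-- a non-regular element of `PSL(2, F)` has `p`-th power one. -/
theorem psl2_pow_p_of_not_good_h9 {F : Type*} [Field F] {p : ℕ} [hp : Fact p.Prime] [CharP F p]
    (y : Matrix.ProjectiveSpecialLinearGroup (Fin 2) F)
    (hng : ¬ sl2Good_h9 (Quotient.out y : SL(2, F))) : y ^ p = 1 := by
  have hpow : (QuotientGroup.mk ((Quotient.out y : SL(2, F)) ^ p) :
      Matrix.ProjectiveSpecialLinearGroup (Fin 2) F) = 1 := by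
    rcases sl2_not_good_pow_h9 (p := p) _ hng with h | h
    · rw [h]; rfl
    · rw [h, psl2_mk_neg_h9]; rfl
  rw [QuotientGroup.mk_pow, QuotientGroup.out_eq'] at hpow
  exact hpow

/-- `p`-elements of `PSL(2, F)` are not regular semisimple. -/
theorem psl2_not_good_of_pow_h9 {F : Type*} [Field F] {p : ℕ} [hp : Fact p.Prime] [CharP F p]
    (y : Matrix.ProjectiveSpecialLinearGroup (Fin 2) F) (j : ℕ) (h : y ^ (p ^ j) = 1) :
    ¬ sl2Good_h9 (Quotient.out y : SL(2, F)) := by
  apply sl2_not_good_of_ppow_h9 _ j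
  have h0 : (QuotientGroup.mk ((Quotient.out y : SL(2, F)) ^ (p ^ j)) :
      Matrix.ProjectiveSpecialLinearGroup (Fin 2) F) = QuotientGroup.mk (1 : SL(2, F)) := by
    rw [QuotientGroup.mk_pow, QuotientGroup.out_eq', h]; rfl
  exact (psl2_mk_eq_iff_h9 _ _).mp h0

/-- commuting elements of `PSL(2, F)`, one of them non-regular, have commuting lifts. -/
theorem psl2Comm_of_comm_h9 {F : Type*} [Field F]
    (a b : Matrix.ProjectiveSpecialLinearGroup (Fin 2) F) (hab : a * b = b * a)
    (hb : ¬ sl2Good_h9 (Quotient.out b : SL(2, F))) : psl2Comm_h9 a b := by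
  have h0 : (QuotientGroup.mk ((Quotient.out a : SL(2, F)) * Quotient.out b) :
      Matrix.ProjectiveSpecialLinearGroup (Fin 2) F)
      = QuotientGroup.mk ((Quotient.out b : SL(2, F)) * Quotient.out a) := by
    rw [QuotientGroup.mk_mul, QuotientGroup.mk_mul, QuotientGroup.out_eq', QuotientGroup.out_eq']
    exact hab
  exact sl2_comm_of_sign_h9 _ _ hb ((psl2_mk_eq_iff_h9 _ _).mp h0)

section

variable {F : Type*} [Field F] [Finite F]
  (H : Subgroup (Matrix.ProjectiveSpecialLinearGroup (Fin 2) F))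

theorem psl2Tau_part_gen_h9 (y z : H) (hy : y ≠ 1)
    (hz : z ∈ psl2Tau_h9 H y) (hz1 : z ≠ 1) : psl2Tau_h9 H z = psl2Tau_h9 H y := by
  have hy' : y.1 ≠ 1 := fun h => hy (Subtype.ext h)
  have hz' : z.1 ≠ 1 := fun h => hz1 (Subtype.ext h)
  obtain ⟨y1, y2⟩ := psl2_out_ne_h9 y.1 hy'
  obtain ⟨z1, z2⟩ := psl2_out_ne_h9 z.1 hz'
  have hzy : Commute (Quotient.out z.1 : SL(2, F)) (Quotient.out y.1) := hz
  ext w
  rw [mem_psl2Tau_h9, mem_psl2Tau_h9]
  constructor
  · intro hw
    exact sl2_comm_of_noncentral_h9 _ z1 z2 _ _ hw.eq hzy.symm.eq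
  · intro hw
    exact sl2_comm_of_noncentral_h9 _ y1 y2 _ _ hw.eq hzy.eq

/-- the partition of an arbitrary subgroup of `PSL(2, F)`. -/
def psl2MPart_h9 : MPart_h9 H where
  τ := psl2Tau_h9 H
  h_mem := fun y => (mem_psl2Tau_h9 H y y).mpr (Commute.refl _)
  h_part := fun y z hy hz hz1 => psl2Tau_part_gen_h9 H y z hy hz hz1
  h_conj := psl2Tau_conj_h9 H

/-- the preimage of the torus of `y` in `SL(2, F)`. -/
theorem psl2Tau_surj_h9 (y : H) :
    ∃ (A : Subgroup SL(2, F)) (f : A →* psl2Tau_h9 H y),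
      (∀ a ∈ A, a * (Quotient.out y.1 : SL(2, F)) = Quotient.out y.1 * a) ∧
      Function.Surjective f ∧
      (∀ a : A, ((f a).1.1 : Matrix.ProjectiveSpecialLinearGroup (Fin 2) F)
        = QuotientGroup.mk a.1) ∧ (-1 : SL(2, F)) ∈ A := by
  let A : Subgroup SL(2, F) :=
    Subgroup.centralizer {(Quotient.out y.1 : SL(2, F))} ⊓
      H.comap (QuotientGroup.mk' (Subgroup.center SL(2, F)))
  have hA : ∀ a ∈ A, a * (Quotient.out y.1 : SL(2, F)) = Quotient.out y.1 * a := by
    intro a ha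
    have := Subgroup.mem_centralizer_iff.mp ha.1 _ (Set.mem_singleton _)
    exact this.symm
  have hmemH : ∀ a : A, (QuotientGroup.mk a.1 : Matrix.ProjectiveSpecialLinearGroup (Fin 2) F) ∈ H :=
    fun a => a.2.2
  have hmemT : ∀ a : A, (⟨QuotientGroup.mk a.1, hmemH a⟩ : H) ∈ psl2Tau_h9 H y := by
    intro a
    show psl2Comm_h9 (QuotientGroup.mk a.1) y.1
    rw [psl2Comm_lift_h9 _ y.1 a.1 (Quotient.out y.1) rfl (QuotientGroup.out_eq' _)]
    exact hA a.1 a.2
  let f : A →* psl2Tau_h9 H y := MonoidHom.mk' (fun a => ⟨⟨QuotientGroup.mk a.1, hmemH a⟩, hmemT a⟩)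
    (fun a b => rfl)
  have hf : Function.Surjective f := by
    intro z
    have hzA1 : (Quotient.out z.1.1 : SL(2, F)) ∈
        Subgroup.centralizer {(Quotient.out y.1 : SL(2, F))} := by
      rw [Subgroup.mem_centralizer_iff]
      intro g hg
      rw [Set.mem_singleton_iff] at hg
      rw [hg]
      have := (mem_psl2Tau_h9 H y z.1).mp z.2
      exact this.eq.symm
    have hzA2 : (Quotient.out z.1.1 : SL(2, F)) ∈
        H.comap (QuotientGroup.mk' (Subgroup.center SL(2, F))) := by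
      show (QuotientGroup.mk (Quotient.out z.1.1 : SL(2, F)) :
        Matrix.ProjectiveSpecialLinearGroup (Fin 2) F) ∈ H
      rw [QuotientGroup.out_eq']
      exact z.1.2
    have hzA : (Quotient.out z.1.1 : SL(2, F)) ∈ A := Subgroup.mem_inf.mpr ⟨hzA1, hzA2⟩
    refine ⟨⟨_, hzA⟩, ?_⟩
    apply Subtype.ext
    apply Subtype.ext
    exact QuotientGroup.out_eq' _
  have hnegA1 : (-1 : SL(2, F)) ∈ Subgroup.centralizer {(Quotient.out y.1 : SL(2, F))} := by
    rw [Subgroup.mem_centralizer_iff]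
    intro g _
    rw [mul_neg, neg_mul, mul_one, one_mul]
  have hnegA2 : (-1 : SL(2, F)) ∈ H.comap (QuotientGroup.mk' (Subgroup.center SL(2, F))) := by
    show (QuotientGroup.mk (-1 : SL(2, F)) : Matrix.ProjectiveSpecialLinearGroup (Fin 2) F) ∈ H
    rw [psl2_mk_neg_h9]
    exact H.one_mem
  exact ⟨A, f, hA, hf, fun a => rfl, Subgroup.mem_inf.mpr ⟨hnegA1, hnegA2⟩⟩

theorem psl2Tau_cyc_good_h9 (y : H)
    (gy : sl2Good_h9 (Quotient.out y.1 : SL(2, F))) : IsCyclic (psl2Tau_h9 H y) := by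
  obtain ⟨A, f, hA, hf, -, -⟩ := psl2Tau_surj_h9 H y
  have hcyc : IsCyclic A := sl2_good_cyclic_h9 _ gy A hA
  exact isCyclic_of_surjective f hf

theorem psl2Tau_dvd_good_h9 [Fintype F] (y : H)
    (gy : sl2Good_h9 (Quotient.out y.1 : SL(2, F))) :
    Nat.card (psl2Tau_h9 H y) ∣ Fintype.card F - 1 ∨
      Nat.card (psl2Tau_h9 H y) ∣ Fintype.card F + 1 := by
  obtain ⟨A, f, hA, hf, -, -⟩ := psl2Tau_surj_h9 H y
  have h1 := Subgroup.card_dvd_of_surjective f hf
  rcases sl2_good_card_dvd_h9 _ gy A hA with h | h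
  · exact Or.inl (h1.trans h)
  · exact Or.inr (h1.trans h)

theorem psl2Tau_dvd2_good_h9 [Fintype F] (h2 : (2 : F) ≠ 0) (y : H)
    (gy : sl2Good_h9 (Quotient.out y.1 : SL(2, F))) :
    2 * Nat.card (psl2Tau_h9 H y) ∣ Fintype.card F - 1 ∨
      2 * Nat.card (psl2Tau_h9 H y) ∣ Fintype.card F + 1 := by
  obtain ⟨A, f, hA, hf, hfval, hnegA⟩ := psl2Tau_surj_h9 H y
  have hnegker : (⟨-1, hnegA⟩ : A) ∈ f.ker := by
    rw [MonoidHom.mem_ker]
    apply Subtype.ext
    apply Subtype.ext
    rw [hfval]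
    show (QuotientGroup.mk (-1 : SL(2, F)) : Matrix.ProjectiveSpecialLinearGroup (Fin 2) F) = 1
    rw [psl2_mk_neg_h9]; rfl
  have hneg1 : (-1 : SL(2, F)) ≠ 1 := sl2_neg_one_ne_one_h9 h2
  have hker2 : Nat.card f.ker = 2 := by
    rw [Nat.card_eq_two_iff' (1 : f.ker)]
    refine ⟨⟨⟨-1, hnegA⟩, hnegker⟩, ?_, ?_⟩
    · intro h
      apply hneg1
      have := congrArg (fun c : f.ker => (c.1.1 : SL(2, F))) h
      exact this
    · intro c hc
      have hck := c.2
      rw [MonoidHom.mem_ker] at hck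
      have h1 : (QuotientGroup.mk c.1.1 : Matrix.ProjectiveSpecialLinearGroup (Fin 2) F)
          = QuotientGroup.mk (1 : SL(2, F)) := by
        rw [← hfval, hck]; rfl
      rcases (psl2_mk_eq_iff_h9 _ _).mp h1 with h | h
      · exfalso
        apply hc
        apply Subtype.ext
        apply Subtype.ext
        exact h
      · apply Subtype.ext
        apply Subtype.ext
        exact h
  have hcard : Nat.card A = 2 * Nat.card (psl2Tau_h9 H y) := by
    have h1 := Subgroup.card_eq_card_quotient_mul_card_subgroup f.ker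
    have h3 : Nat.card (A ⧸ f.ker) = Nat.card (psl2Tau_h9 H y) :=
      Nat.card_congr (QuotientGroup.quotientKerEquivOfSurjective f hf).toEquiv
    rw [h3, hker2] at h1
    rw [h1, mul_comm]
  have := sl2_good_card_dvd_h9 _ gy A hA
  rw [hcard] at this
  exact this

theorem psl2Tau_norm_good_h9 (y : H)
    (gy : sl2Good_h9 (Quotient.out y.1 : SL(2, F))) :
    Nat.card (Subgroup.normalizer (psl2Tau_h9 H y : Set H)) ≤ 2 * Nat.card (psl2Tau_h9 H y) := by
  have hyT : y ∈ psl2Tau_h9 H y := (mem_psl2Tau_h9 H y y).mpr (Commute.refl _)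
  have key : ∀ n : H, n ∈ Subgroup.normalizer (psl2Tau_h9 H y : Set H) →
      Quotient.out n.1 * (Quotient.out y.1 : SL(2, F)) * (Quotient.out n.1)⁻¹ = Quotient.out y.1 ∨
      Quotient.out n.1 * (Quotient.out y.1 : SL(2, F)) * (Quotient.out n.1)⁻¹
        = (Quotient.out y.1)⁻¹ := by
    intro n hn
    have h1 : n * y * n⁻¹ ∈ psl2Tau_h9 H y := (Subgroup.mem_normalizer_iff.mp hn y).mp hyT
    have h2 : psl2Comm_h9 (n * y * n⁻¹ : H).1 y.1 := h1
    rw [psl2Comm_lift_h9 (n * y * n⁻¹ : H).1 y.1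
      (Quotient.out n.1 * Quotient.out y.1 * (Quotient.out n.1)⁻¹) (Quotient.out y.1)
      (by rw [QuotientGroup.mk_mul, QuotientGroup.mk_mul, QuotientGroup.mk_inv,
        QuotientGroup.out_eq', QuotientGroup.out_eq']; rfl) (QuotientGroup.out_eq' _)] at h2
    exact sl2_good_conj_h9 _ gy _ h2.eq (sl2_trace_conj_h9 _ _)
  have hmemT : ∀ n : H, Quotient.out n.1 * (Quotient.out y.1 : SL(2, F)) * (Quotient.out n.1)⁻¹
      = Quotient.out y.1 → n ∈ psl2Tau_h9 H y := by
    intro n hn
    rw [mem_psl2Tau_h9]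
    show Quotient.out n.1 * (Quotient.out y.1 : SL(2, F)) = Quotient.out y.1 * Quotient.out n.1
    calc Quotient.out n.1 * (Quotient.out y.1 : SL(2, F))
        = (Quotient.out n.1 * (Quotient.out y.1 : SL(2, F)) * (Quotient.out n.1)⁻¹)
          * Quotient.out n.1 := by group
      _ = Quotient.out y.1 * Quotient.out n.1 := by rw [hn]
  have e1 : Nat.card (Subgroup.normalizer (psl2Tau_h9 H y : Set H))
      = ((Subgroup.normalizer (psl2Tau_h9 H y : Set H) : Subgroup H) : Set H).ncard := rfl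
  have e2 : Nat.card (psl2Tau_h9 H y) = ((psl2Tau_h9 H y : Subgroup H) : Set H).ncard := rfl
  by_cases hsub : ∀ n ∈ Subgroup.normalizer (psl2Tau_h9 H y : Set H), n ∈ psl2Tau_h9 H y
  · have := Subgroup.card_le_of_le (show Subgroup.normalizer (psl2Tau_h9 H y : Set H)
      ≤ psl2Tau_h9 H y from hsub)
    omega
  · obtain ⟨n₀, hn₀'⟩ := not_forall.mp hsub
    obtain ⟨hn₀, hn₀T⟩ := Classical.not_imp.mp hn₀'
    have hn₀inv : Quotient.out n₀.1 * (Quotient.out y.1 : SL(2, F)) * (Quotient.out n₀.1)⁻¹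
        = (Quotient.out y.1)⁻¹ := by
      rcases key n₀ hn₀ with h | h
      · exact absurd (hmemT n₀ h) hn₀T
      · exact h
    have hcover : ((Subgroup.normalizer (psl2Tau_h9 H y : Set H) : Subgroup H) : Set H) ⊆
        ((psl2Tau_h9 H y : Subgroup H) : Set H) ∪
          (fun t => n₀ * t) '' ((psl2Tau_h9 H y : Subgroup H) : Set H) := by
      intro n hn
      by_cases hnT : n ∈ psl2Tau_h9 H y
      · left; exact hnT
      · right
        refine ⟨n₀⁻¹ * n, ?_, by group⟩
        have hninv : Quotient.out n.1 * (Quotient.out y.1 : SL(2, F)) * (Quotient.out n.1)⁻¹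
            = (Quotient.out y.1)⁻¹ := by
          rcases key n hn with h | h
          · exact absurd (hmemT n h) hnT
          · exact h
        show psl2Comm_h9 (n₀⁻¹ * n : H).1 y.1
        rw [psl2Comm_lift_h9 (n₀⁻¹ * n : H).1 y.1
          ((Quotient.out n₀.1)⁻¹ * Quotient.out n.1) (Quotient.out y.1)
          (by rw [QuotientGroup.mk_mul, QuotientGroup.mk_inv,
            QuotientGroup.out_eq', QuotientGroup.out_eq']; rfl) (QuotientGroup.out_eq' _)]
        show (Quotient.out n₀.1)⁻¹ * Quotient.out n.1 * (Quotient.out y.1 : SL(2, F))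
          = Quotient.out y.1 * ((Quotient.out n₀.1)⁻¹ * Quotient.out n.1)
        have e3 : Quotient.out n.1 * (Quotient.out y.1 : SL(2, F))
            = (Quotient.out y.1)⁻¹ * Quotient.out n.1 := by
          rw [← hninv]; group
        have e4 : (Quotient.out n₀.1)⁻¹ * (Quotient.out y.1 : SL(2, F))⁻¹
            = Quotient.out y.1 * (Quotient.out n₀.1)⁻¹ := by
          rw [← hn₀inv]; group
        calc (Quotient.out n₀.1)⁻¹ * Quotient.out n.1 * (Quotient.out y.1 : SL(2, F))
            = (Quotient.out n₀.1)⁻¹ * (Quotient.out n.1 * (Quotient.out y.1 : SL(2, F))) := by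
              group
          _ = ((Quotient.out n₀.1)⁻¹ * (Quotient.out y.1 : SL(2, F))⁻¹) * Quotient.out n.1 := by
              rw [e3]; group
          _ = Quotient.out y.1 * ((Quotient.out n₀.1)⁻¹ * Quotient.out n.1) := by
              rw [e4]; group
    have h1 := Set.ncard_le_ncard hcover
    have h2 := Set.ncard_union_le ((psl2Tau_h9 H y : Subgroup H) : Set H)
      ((fun t => n₀ * t) '' ((psl2Tau_h9 H y : Subgroup H) : Set H))
    have h3 := Set.ncard_image_le (f := fun t => n₀ * t)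
      (s := ((psl2Tau_h9 H y : Subgroup H) : Set H))
    rw [e1, e2]
    omega

end

end Cfsg.Agent.Helper9
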