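import Mathlib
import Cfsg.Agent.Helper9.Dk1
import Cfsg.Agent.Helper9.SL2l

/-!
# Dickson: the unipotent class is a Sylow class; the numerical theorem (helper9)
-/

set_option autoImplicit false
open scoped MatrixGroups

namespace Cfsg.Agent.Helper9

theorem ff_coprime_h9 {F : Type*} [Field F] [Fintype F] {p : ℕ} [hp : Fact p.Prime] [CharP F p]
    (m : ℕ) (h : m ∣ Fintype.card F - 1 ∨ m ∣ Fintype.card F + 1) : Nat.Coprime m p := by
  obtain ⟨n, -, hn⟩ := FiniteField.card F p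
  have hpq : p ∣ Fintype.card F := by rw [hn]; exact dvd_pow_self p n.ne_zero
  have hq1 : 1 < Fintype.card F := Fintype.one_lt_card
  apply Nat.Coprime.symm
  rw [Nat.Prime.coprime_iff_not_dvd hp.out]
  intro hpm
  have hp1 : p ∣ 1 := by
    rcases h with h | h
    · have h1 := Nat.dvd_sub hpq (hpm.trans h)
      have e : Fintype.card F - (Fintype.card F - 1) = 1 := by omega
      rwa [e] at h1
    · have h1 := Nat.dvd_sub (hpm.trans h) hpq
      have e : Fintype.card F + 1 - Fintype.card F = 1 := by omega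
      rwa [e] at h1
  exact hp.out.one_lt.ne' (Nat.dvd_one.mp hp1)

theorem sl2_conj_E_10_h9 {F : Type*} [Field F] (x : SL(2, F)) (a : F) :
    (x * sl2E_h9 a * x⁻¹).1 1 0 = -a * (x.1 1 0) ^ 2 := by
  obtain ⟨m00, m01, m10, m11⟩ := sl2_mul_entries_h9 (x * sl2E_h9 a) x⁻¹
  obtain ⟨n00, n01, n10, n11⟩ := sl2_mul_entries_h9 x (sl2E_h9 a)
  obtain ⟨i00, i01, i10, i11⟩ := sl2_inv_entries_h9 x
  obtain ⟨e00, e01, e10, e11⟩ := sl2E_entries_h9 a
  rw [m10, n10, n11, i00, i10, e00, e01, e10, e11]; ring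

theorem sl2_conj_E_upper_h9 {F : Type*} [Field F] (x : SL(2, F)) (hx : x.1 1 0 = 0) (a : F) :
    x * sl2E_h9 a * x⁻¹ = sl2E_h9 (a * (x.1 0 0) ^ 2) := by
  obtain ⟨m00, m01, m10, m11⟩ := sl2_mul_entries_h9 (x * sl2E_h9 a) x⁻¹
  obtain ⟨n00, n01, n10, n11⟩ := sl2_mul_entries_h9 x (sl2E_h9 a)
  obtain ⟨i00, i01, i10, i11⟩ := sl2_inv_entries_h9 x
  obtain ⟨e00, e01, e10, e11⟩ := sl2E_entries_h9 a
  obtain ⟨f00, f01, f10, f11⟩ := sl2E_entries_h9 (a * (x.1 0 0) ^ 2)
  obtain ⟨-, hdet⟩ := sl2_entries_h9 x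
  rw [hx] at hdet
  apply sl2_ext_h9
  · simp only [m00, n00, n01, i00, i10, e00, e01, e10, e11, f00, hx]; linear_combination hdet
  · simp only [m01, n00, n01, i01, i11, e00, e01, e10, e11, f01, hx]; ring
  · simp only [m10, n10, n11, i00, i10, e00, e01, e10, e11, f10, hx]; ring
  · simp only [m11, n10, n11, i01, i11, e00, e01, e10, e11, f11, hx]; linear_combination hdet

theorem psl2Comm_E_iff_h9 {F : Type*} [Field F]
    (g : Matrix.ProjectiveSpecialLinearGroup (Fin 2) F) (a : F) (ha : a ≠ 0) :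
    psl2Comm_h9 g (QuotientGroup.mk (sl2E_h9 a)) ↔
      (Quotient.out g : SL(2, F)).1 1 0 = 0 ∧
        (Quotient.out g : SL(2, F)).1 0 0 = (Quotient.out g : SL(2, F)).1 1 1 := by
  rw [psl2Comm_lift_h9 g _ (Quotient.out g) (sl2E_h9 a) (QuotientGroup.out_eq' _) rfl]
  constructor
  · intro h; exact (sl2_comm_E_iff_h9 ha _).mp h.eq.symm
  · intro h; exact ((sl2_comm_E_iff_h9 ha _).mpr h).symm

theorem isPGroup_zpowers_h9 {p : ℕ} [hp : Fact p.Prime] {G : Type*} [Group G] (x : G) (hx : x ^ p = 1) :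
    IsPGroup p (Subgroup.zpowers x) := by
  by_cases hx1 : x = 1
  · subst hx1
    rw [Subgroup.zpowers_one_eq_bot]
    exact IsPGroup.of_bot
  · have hord : orderOf x = p := orderOf_eq_prime hx hx1
    exact IsPGroup.of_card (n := 1) (by rw [Nat.card_zpowers, hord, pow_one])

section

variable {F : Type*} [Field F] [Fintype F] {p : ℕ} [hp : Fact p.Prime] [hc : CharP F p]
  (H : Subgroup (Matrix.ProjectiveSpecialLinearGroup (Fin 2) F))

include hp hc

/-- elements of a unipotent class are not regular semisimple. -/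
theorem psl2Tau_unip_h9 (u : H) (hu : u ≠ 1)
    (hng : ¬ sl2Good_h9 (Quotient.out u.1 : SL(2, F))) (z : H) (hz : z ∈ psl2Tau_h9 H u) :
    ¬ sl2Good_h9 (Quotient.out z.1 : SL(2, F)) := by
  intro gz
  have humem : u ∈ psl2Tau_h9 H z := (mem_psl2Tau_h9 H z u).mpr
    ((mem_psl2Tau_h9 H u z).mp hz).symm
  have hcop : Nat.Coprime (Nat.card (psl2Tau_h9 H z)) p :=
    ff_coprime_h9 (p := p) _ (psl2Tau_dvd_good_h9 H z gz)
  have hup : u.1 ^ p = 1 := psl2_pow_p_of_not_good_h9 (p := p) u.1 hng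
  let u' : psl2Tau_h9 H z := ⟨u, humem⟩
  have h1 : u' ^ p = 1 := by
    apply Subtype.ext
    apply Subtype.ext
    simpa using hup
  have h2 : orderOf u' ∣ p := orderOf_dvd_of_pow_eq_one h1
  have h3 : orderOf u' ∣ Nat.card (psl2Tau_h9 H z) := orderOf_dvd_natCard u'
  have h4 : orderOf u' = 1 := Nat.Coprime.eq_one_of_dvd (hcop.coprime_dvd_left h3) h2
  have h5 : u' = 1 := orderOf_eq_one_iff.mp h4
  exact hu (congrArg Subtype.val h5)

theorem psl2Tau_unip_pow_h9 (u : H) (hu : u ≠ 1)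
    (hng : ¬ sl2Good_h9 (Quotient.out u.1 : SL(2, F))) (z : H) (hz : z ∈ psl2Tau_h9 H u) :
    z ^ p = 1 := by
  apply Subtype.ext
  have := psl2_pow_p_of_not_good_h9 (p := p) z.1 (psl2Tau_unip_h9 (p := p) H u hu hng z hz)
  simpa using this

/-- a unipotent class is a Sylow `p`-subgroup. -/
noncomputable def psl2TauSylow_h9 (u : H) (hu : u ≠ 1)
    (hng : ¬ sl2Good_h9 (Quotient.out u.1 : SL(2, F))) : Sylow p H where
  toSubgroup := psl2Tau_h9 H u
  isPGroup' := by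
    intro z
    refine ⟨1, ?_⟩
    rw [pow_one]
    apply Subtype.ext
    have := psl2Tau_unip_pow_h9 (p := p) H u hu hng z.1 z.2
    simpa using this
  is_maximal' := by
    intro Q hQ hle
    apply le_antisymm _ hle
    intro r hr
    have huQ : u ∈ Q := hle ((mem_psl2Tau_h9 H u u).mpr (Commute.refl _))
    haveI : Nontrivial Q := ⟨⟨⟨u, huQ⟩, 1, fun h => hu (congrArg Subtype.val h)⟩⟩
    haveI := hQ.center_nontrivial
    obtain ⟨z, hz⟩ := exists_ne (1 : Subgroup.center Q)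
    have hzc := z.2
    obtain ⟨k, hk⟩ := hQ z.1
    have hzng : ¬ sl2Good_h9 (Quotient.out z.1.1.1 : SL(2, F)) := by
      apply psl2_not_good_of_pow_h9 (p := p) z.1.1.1 k
      have := congrArg (fun t : Q => (t.1.1)) hk
      simpa using this
    have hz1 : z.1.1 ≠ 1 := fun h => hz (Subtype.ext (Subtype.ext h))
    have hcomm : z.1.1 * u = u * z.1.1 := by
      have := Subgroup.mem_center_iff.mp hzc ⟨u, huQ⟩
      exact (congrArg Subtype.val this).symm
    have hzT : z.1.1 ∈ psl2Tau_h9 H u :=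
      psl2Comm_of_comm_h9 z.1.1.1 u.1 (congrArg Subtype.val hcomm) hng
    have hτ := psl2Tau_part_gen_h9 H u z.1.1 hu hzT hz1
    rw [← hτ]
    have hcomm2 : r * z.1.1 = z.1.1 * r := by
      have := Subgroup.mem_center_iff.mp hzc ⟨r, hr⟩
      exact congrArg Subtype.val this
    exact psl2Comm_of_comm_h9 r.1 z.1.1.1 (congrArg Subtype.val hcomm2) hzng

theorem psl2TauSylow_coe_h9 (u : H) (hu : u ≠ 1)
    (hng : ¬ sl2Good_h9 (Quotient.out u.1 : SL(2, F))) :
    ((psl2TauSylow_h9 (p := p) H u hu hng : Sylow p H) : Subgroup H) = psl2Tau_h9 H u := rfl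

/-- non-regular elements are conjugate into the unipotent class. -/
theorem psl2_rel_of_not_good_h9 (u : H) (hu : u ≠ 1)
    (hng : ¬ sl2Good_h9 (Quotient.out u.1 : SL(2, F))) (y : H)
    (hyng : ¬ sl2Good_h9 (Quotient.out y.1 : SL(2, F))) : (psl2MPart_h9 H).rel u y := by
  have hyp : y ^ p = 1 := by
    apply Subtype.ext
    have := psl2_pow_p_of_not_good_h9 (p := p) y.1 hyng
    simpa using this
  have hP : IsPGroup p (Subgroup.zpowers y) := isPGroup_zpowers_h9 y hyp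
  obtain ⟨Q', hQ'⟩ := hP.exists_le_sylow
  obtain ⟨g, hg⟩ := MulAction.exists_smul_eq H (psl2TauSylow_h9 (p := p) H u hu hng) Q'
  have hyQ : y ∈ (Q' : Subgroup H) := hQ' (Subgroup.mem_zpowers y)
  rw [← hg, Sylow.coe_subgroup_smul, Subgroup.mem_pointwise_smul_iff_inv_smul_mem] at hyQ
  refine ⟨g⁻¹, ?_⟩
  have e : (MulAut.conj g)⁻¹ • y = g⁻¹ * y * g⁻¹⁻¹ := by
    rw [MulAut.smul_def, ← map_inv, MulAut.conj_apply]
  rw [e] at hyQ
  exact hyQ

theorem psl2_not_rel_of_good_h9 (u : H) (hu : u ≠ 1)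
    (hng : ¬ sl2Good_h9 (Quotient.out u.1 : SL(2, F))) (y : H)
    (gy : sl2Good_h9 (Quotient.out y.1 : SL(2, F))) : ¬ (psl2MPart_h9 H).rel u y := by
  rintro ⟨g, hg⟩
  have h1 := psl2Tau_unip_pow_h9 (p := p) H u hu hng _ hg
  rw [conj_pow] at h1
  have hyp : y ^ p = 1 := by
    have : y ^ p = g⁻¹ * (g * y ^ p * g⁻¹) * g := by group
    rw [this, h1]; group
  apply psl2_not_good_of_pow_h9 (p := p) y.1 1 _ gy
  rw [pow_one]
  have := congrArg Subtype.val hyp
  simpa using this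

omit [Fintype F] in
theorem psl2_good_ne_one_h9 (y : H) (gy : sl2Good_h9 (Quotient.out y.1 : SL(2, F))) : y ≠ 1 := by
  rintro rfl
  apply psl2_not_good_of_pow_h9 (p := p) (1 : H).1 0 _ gy
  simp

theorem psl2_hS_h9 (u : H) (hu : u ≠ 1)
    (hng : ¬ sl2Good_h9 (Quotient.out u.1 : SL(2, F))) (x : H)
    (hx : x ∈ Subgroup.normalizer (psl2Tau_h9 H u : Set H))
    (hrel : (psl2MPart_h9 H).rel u x) : x ∈ psl2Tau_h9 H u := by
  obtain ⟨g, hg⟩ := hrel
  have h1 := psl2Tau_unip_pow_h9 (p := p) H u hu hng _ hg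
  rw [conj_pow] at h1
  have hxp : x ^ p = 1 := by
    have : x ^ p = g⁻¹ * (g * x ^ p * g⁻¹) * g := by group
    rw [this, h1]; group
  have hP : IsPGroup p (Subgroup.zpowers x) := isPGroup_zpowers_h9 x hxp
  have key := hP.inf_normalizer_sylow (psl2TauSylow_h9 (p := p) H u hu hng)
  have hmem : x ∈ Subgroup.zpowers x ⊓
      Subgroup.normalizer ((psl2TauSylow_h9 (p := p) H u hu hng : Sylow p H) : Set H) :=
    ⟨Subgroup.mem_zpowers x, hx⟩
  have hmem' := key ▸ hmem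
  exact hmem'.2

omit [Fintype F] hp hc in
theorem psl2_hC_h9 (u : H) (hng : ¬ sl2Good_h9 (Quotient.out u.1 : SL(2, F))) (n : H)
    (h : n * u = u * n) : n ∈ psl2Tau_h9 H u :=
  psl2Comm_of_comm_h9 n.1 u.1 (congrArg Subtype.val h) hng

theorem psl2_hT_h9 (u : H) (hu : u ≠ 1)
    (hng : ¬ sl2Good_h9 (Quotient.out u.1 : SL(2, F))) (y : H)
    (hr : ¬ (psl2MPart_h9 H).rel u y) :
    sl2Good_h9 (Quotient.out y.1 : SL(2, F)) := by
  by_contra hyng
  exact hr (psl2_rel_of_not_good_h9 (p := p) H u hu hng y hyng)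

end

end Cfsg.Agent.Helper9
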