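import Mathlib
import Cfsg.Agent.Helper9.Dk2

/-!
# Dickson: subgroups in normal position (helper9)

`H ≤ PSL(2, F)` containing the image of `E(a₀)`, `a₀ ≠ 0`: the unipotent class of `u = E(a₀)`,
its normalizer (the upper triangular elements of `H`) and the numerical theorem.
-/

set_option autoImplicit false
open scoped MatrixGroups

namespace Cfsg.Agent.Helper9

section

variable {F : Type*} [Field F] [Fintype F] {p : ℕ} [hp : Fact p.Prime] [hc : CharP F p]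
  (H : Subgroup (Matrix.ProjectiveSpecialLinearGroup (Fin 2) F)) (a₀ : F) (ha₀ : a₀ ≠ 0)
  (hE : (QuotientGroup.mk (sl2E_h9 a₀) : Matrix.ProjectiveSpecialLinearGroup (Fin 2) F) ∈ H)

omit [Fintype F] in
include ha₀ in
theorem npU_ne_one_h9 :
    (⟨QuotientGroup.mk (sl2E_h9 a₀), hE⟩ : H) ≠ 1 := by
  intro h
  have h1 : (QuotientGroup.mk (sl2E_h9 a₀) : Matrix.ProjectiveSpecialLinearGroup (Fin 2) F)
      = QuotientGroup.mk (1 : SL(2, F)) := congrArg Subtype.val h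
  obtain ⟨-, e01, -, -⟩ := sl2E_entries_h9 a₀
  rcases (psl2_mk_eq_iff_h9 _ _).mp h1 with h2 | h2
  · rw [h2, (sl2_one_entries_h9 (F := F)).2.1] at e01
    exact ha₀ e01.symm
  · rw [h2, (sl2_neg_entries_h9 (1 : SL(2, F))).2.1, (sl2_one_entries_h9 (F := F)).2.1,
      neg_zero] at e01
    exact ha₀ e01.symm

omit [Fintype F] in
include hp hc in
theorem npU_not_good_h9 :
    ¬ sl2Good_h9 (Quotient.out (QuotientGroup.mk (sl2E_h9 a₀) :
      Matrix.ProjectiveSpecialLinearGroup (Fin 2) F) : SL(2, F)) := by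
  apply psl2_not_good_of_pow_h9 (p := p) _ 1
  rw [pow_one, ← QuotientGroup.mk_pow, sl2E_pow_h9, CharP.cast_eq_zero, zero_mul, sl2E_zero_h9]
  rfl

omit [Fintype F] in
include ha₀ in
theorem np_mem_tau_h9 (z : H) :
    z ∈ psl2Tau_h9 H ⟨QuotientGroup.mk (sl2E_h9 a₀), hE⟩ ↔
      (Quotient.out z.1 : SL(2, F)).1 1 0 = 0 ∧
        (Quotient.out z.1 : SL(2, F)).1 0 0 = (Quotient.out z.1 : SL(2, F)).1 1 1 :=
  psl2Comm_E_iff_h9 z.1 a₀ ha₀

include ha₀ in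
theorem np_mem_norm_h9 (n : H) :
    n ∈ Subgroup.normalizer (psl2Tau_h9 H ⟨QuotientGroup.mk (sl2E_h9 a₀), hE⟩ : Set H) ↔
      (Quotient.out n.1 : SL(2, F)).1 1 0 = 0 := by
  constructor
  · intro hn
    have hu : (⟨QuotientGroup.mk (sl2E_h9 a₀), hE⟩ : H) ∈
        psl2Tau_h9 H ⟨QuotientGroup.mk (sl2E_h9 a₀), hE⟩ :=
      (mem_psl2Tau_h9 H _ _).mpr (Commute.refl _)
    have h1 := (Subgroup.mem_normalizer_iff.mp hn _).mp hu
    have h2 : psl2Comm_h9 (n * ⟨QuotientGroup.mk (sl2E_h9 a₀), hE⟩ * n⁻¹ : H).1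
        (QuotientGroup.mk (sl2E_h9 a₀)) := h1
    rw [psl2Comm_lift_h9 _ _ (Quotient.out n.1 * sl2E_h9 a₀ * (Quotient.out n.1)⁻¹) (sl2E_h9 a₀)
      (by rw [QuotientGroup.mk_mul, QuotientGroup.mk_mul, QuotientGroup.mk_inv,
        QuotientGroup.out_eq']; rfl) rfl] at h2
    have h3 := ((sl2_comm_E_iff_h9 ha₀ _).mp h2.eq.symm).1
    rw [sl2_conj_E_10_h9] at h3
    have h4 : (Quotient.out n.1 : SL(2, F)).1 1 0 ^ 2 = 0 := by
      rcases mul_eq_zero.mp h3 with h | h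
      · exact absurd (neg_eq_zero.mp h) ha₀
      · exact h
    exact pow_eq_zero_iff (by norm_num) |>.mp h4
  · intro hn
    apply mem_normalizer_of_conj_mem_h9
    intro z hz
    have hz' := (sl2_comm_E_iff_h9 ha₀ _).mpr ((np_mem_tau_h9 H a₀ ha₀ hE z).mp hz)
    show psl2Comm_h9 (n * z * n⁻¹ : H).1 (QuotientGroup.mk (sl2E_h9 a₀))
    rw [psl2Comm_lift_h9 _ _ (Quotient.out n.1 * Quotient.out z.1 * (Quotient.out n.1)⁻¹)
      (sl2E_h9 a₀)
      (by rw [QuotientGroup.mk_mul, QuotientGroup.mk_mul, QuotientGroup.mk_inv,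
        QuotientGroup.out_eq', QuotientGroup.out_eq']; rfl) rfl]
    obtain ⟨-, hdet⟩ := sl2_entries_h9 (Quotient.out n.1 : SL(2, F))
    rw [hn] at hdet
    have h00 : (Quotient.out n.1 : SL(2, F)).1 0 0 ≠ 0 := by
      intro h
      rw [h] at hdet
      simp at hdet
    have ha' : a₀ * (Quotient.out n.1 : SL(2, F)).1 0 0 ^ 2 ≠ 0 :=
      mul_ne_zero ha₀ (pow_ne_zero 2 h00)
    have hc1 : Commute (Quotient.out n.1 * Quotient.out z.1 * (Quotient.out n.1)⁻¹)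
        (Quotient.out n.1 * sl2E_h9 a₀ * (Quotient.out n.1 : SL(2, F))⁻¹) := by
      rw [Commute.conj_iff]
      exact hz'.symm
    rw [sl2_conj_E_upper_h9 _ hn] at hc1
    exact (sl2_comm_E_transfer_h9 (v := a₀) ha' _ hc1.eq.symm).symm

include hp hc ha₀ in
/-- the torus of a generator of `N(Q)/Q`. -/
theorem np_hK_h9 (q₁ k : ℕ)
    (hq₁ : Nat.card (psl2Tau_h9 H ⟨QuotientGroup.mk (sl2E_h9 a₀), hE⟩) = q₁)
    (hN : Nat.card (Subgroup.normalizer
      (psl2Tau_h9 H ⟨QuotientGroup.mk (sl2E_h9 a₀), hE⟩ : Set H)) = q₁ * k) (hk : 2 ≤ k) :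
    ∃ y₁ : H, sl2Good_h9 (Quotient.out y₁.1 : SL(2, F)) ∧ Nat.card (psl2Tau_h9 H y₁) = k := by
  obtain ⟨u, hu⟩ : ∃ u : H, u = ⟨QuotientGroup.mk (sl2E_h9 a₀), hE⟩ := ⟨_, rfl⟩
  rw [← hu] at hq₁ hN
  have hu1 : u ≠ 1 := by rw [hu]; exact npU_ne_one_h9 H a₀ ha₀ hE
  have memT : ∀ z : H, z ∈ psl2Tau_h9 H u ↔ (Quotient.out z.1 : SL(2, F)).1 1 0 = 0 ∧
        (Quotient.out z.1 : SL(2, F)).1 0 0 = (Quotient.out z.1 : SL(2, F)).1 1 1 := by
    intro z; rw [hu]; exact np_mem_tau_h9 H a₀ ha₀ hE z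
  have memN : ∀ n : H, n ∈ Subgroup.normalizer (psl2Tau_h9 H u : Set H) ↔
      (Quotient.out n.1 : SL(2, F)).1 1 0 = 0 := by
    intro n; rw [hu]; exact np_mem_norm_h9 H a₀ ha₀ hE n
  obtain ⟨N, hNdef⟩ : ∃ N : Subgroup H, N = Subgroup.normalizer (psl2Tau_h9 H u : Set H) :=
    ⟨_, rfl⟩
  rw [← hNdef] at hN
  have hN10 : ∀ n : N, (Quotient.out n.1.1 : SL(2, F)).1 1 0 = 0 :=
    fun n => (memN n.1).mp (hNdef ▸ n.2)
  have hdet : ∀ n : N, (Quotient.out n.1.1 : SL(2, F)).1 0 0 *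
      (Quotient.out n.1.1 : SL(2, F)).1 1 1 = 1 := by
    intro n
    obtain ⟨-, d⟩ := sl2_entries_h9 (Quotient.out n.1.1 : SL(2, F))
    rw [hN10 n] at d
    linear_combination d
  have h00 : ∀ n : N, (Quotient.out n.1.1 : SL(2, F)).1 0 0 ≠ 0 := by
    intro n h
    have := hdet n
    rw [h] at this
    simp at this
  let φ : N →* Fˣ := MonoidHom.mk'
    (fun n => Units.mk0 (((Quotient.out n.1.1 : SL(2, F)).1 0 0) ^ 2) (pow_ne_zero 2 (h00 n))) (by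
      intro n n'
      apply Units.ext
      simp only [Units.val_mul, Units.val_mk0]
      have h0 : (QuotientGroup.mk (Quotient.out (n * n').1.1 : SL(2, F)) :
          Matrix.ProjectiveSpecialLinearGroup (Fin 2) F)
          = QuotientGroup.mk ((Quotient.out n.1.1 : SL(2, F)) * Quotient.out n'.1.1) := by
        rw [QuotientGroup.out_eq', QuotientGroup.mk_mul, QuotientGroup.out_eq',
          QuotientGroup.out_eq']
        rfl
      obtain ⟨m00, -, -, -⟩ := sl2_mul_entries_h9 (Quotient.out n.1.1 : SL(2, F))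
        (Quotient.out n'.1.1)
      rcases (psl2_mk_eq_iff_h9 _ _).mp h0 with h | h
      · rw [h, m00, hN10 n']; ring
      · rw [h, (sl2_neg_entries_h9 _).1, m00, hN10 n']; ring)
  have hφ : ∀ n : N, ((φ n : Fˣ) : F) = ((Quotient.out n.1.1 : SL(2, F)).1 0 0) ^ 2 :=
    fun n => rfl
  have hker : ∀ n : N, φ n = 1 ↔ n.1 ∈ psl2Tau_h9 H u := by
    intro n
    rw [memT, Units.ext_iff, hφ, Units.val_one]
    have d := hdet n
    constructor
    · intro h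
      refine ⟨hN10 n, ?_⟩
      have h1 : (Quotient.out n.1.1 : SL(2, F)).1 0 0 *
          ((Quotient.out n.1.1 : SL(2, F)).1 0 0 - (Quotient.out n.1.1 : SL(2, F)).1 1 1) = 0 := by
        linear_combination h - d
      rcases mul_eq_zero.mp h1 with h2 | h2
      · exact absurd h2 (h00 n)
      · exact sub_eq_zero.mp h2
    · rintro ⟨-, h⟩
      rw [← h] at d
      linear_combination d
  have hkerS : φ.ker = (psl2Tau_h9 H u).subgroupOf N := by
    ext n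
    rw [MonoidHom.mem_ker, Subgroup.mem_subgroupOf]
    exact hker n
  have hTN : psl2Tau_h9 H u ≤ N := by rw [hNdef]; exact Subgroup.le_normalizer
  have hkercard : Nat.card φ.ker = q₁ := by
    rw [hkerS, ← hq₁]
    exact Nat.card_congr (Subgroup.subgroupOfEquivOfLe hTN).toEquiv
  have hrange : Nat.card φ.range = k := by
    have h1 := Subgroup.card_mul_index φ.ker
    rw [Subgroup.index_ker, hkercard, hN] at h1
    have hq0 : 0 < q₁ := by rw [← hq₁]; exact Nat.card_pos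
    exact Nat.eq_of_mul_eq_mul_left hq0 h1
  obtain ⟨ζ, hζ⟩ := IsCyclic.exists_generator (α := φ.range)
  have hordζ : orderOf ζ = k := by
    rw [orderOf_eq_card_of_forall_mem_zpowers hζ, hrange]
  obtain ⟨y₁, hy₁⟩ := ζ.2
  have hordφ : orderOf (φ y₁) = k := by
    rw [← hordζ, ← Subgroup.orderOf_coe ζ, hy₁]
  have hφ1 : φ y₁ ≠ 1 := by
    intro h
    rw [h, orderOf_one] at hordφ
    omega
  have hy₁T : y₁.1 ∉ psl2Tau_h9 H u := fun h => hφ1 ((hker y₁).mpr h)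
  have hgood : sl2Good_h9 (Quotient.out y₁.1.1 : SL(2, F)) := by
    intro h
    apply hy₁T
    rw [memT]
    refine ⟨hN10 y₁, ?_⟩
    have d := hdet y₁
    have h1 : ((Quotient.out y₁.1.1 : SL(2, F)).1 0 0 - (Quotient.out y₁.1.1 : SL(2, F)).1 1 1) ^ 2
        = 0 := by linear_combination h - 4 * d
    exact sub_eq_zero.mp (pow_eq_zero_iff (by norm_num) |>.mp h1)
  have hne : (Quotient.out y₁.1.1 : SL(2, F)).1 0 0 - (Quotient.out y₁.1.1 : SL(2, F)).1 1 1 ≠ 0 := by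
    intro h
    apply hy₁T
    rw [memT]
    exact ⟨hN10 y₁, sub_eq_zero.mp h⟩
  refine ⟨y₁.1, hgood, ?_⟩
  -- the torus of y₁ lies in N
  have hTy : ∀ z : H, z ∈ psl2Tau_h9 H y₁.1 → z ∈ N := by
    intro z hz
    rw [hNdef, memN]
    have hcomm : (Quotient.out z.1 : SL(2, F)) * Quotient.out y₁.1.1
        = Quotient.out y₁.1.1 * Quotient.out z.1 := ((mem_psl2Tau_h9 H y₁.1 z).mp hz).eq
    obtain ⟨-, -, m10, -⟩ := sl2_mul_entries_h9 (Quotient.out z.1 : SL(2, F)) (Quotient.out y₁.1.1)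
    obtain ⟨-, -, n10, -⟩ := sl2_mul_entries_h9 (Quotient.out y₁.1.1 : SL(2, F)) (Quotient.out z.1)
    rw [hcomm, n10, hN10 y₁] at m10
    have h1 : (Quotient.out z.1 : SL(2, F)).1 1 0 *
        ((Quotient.out y₁.1.1 : SL(2, F)).1 0 0 - (Quotient.out y₁.1.1 : SL(2, F)).1 1 1) = 0 := by
      linear_combination -m10
    exact (mul_eq_zero.mp h1).resolve_right hne
  have hy₁1 : y₁.1 ≠ 1 := psl2_good_ne_one_h9 (p := p) H y₁.1 hgood
  apply le_antisymm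
  · -- injection into the range
    let ψ : psl2Tau_h9 H y₁.1 → φ.range := fun z => ⟨φ ⟨z.1, hTy z.1 z.2⟩, ⟨_, rfl⟩⟩
    have hψ : Function.Injective ψ := by
      intro z z' hzz
      have h1 : φ ⟨z.1, hTy z.1 z.2⟩ = φ ⟨z'.1, hTy z'.1 z'.2⟩ := congrArg Subtype.val hzz
      have h2 : φ (⟨z.1, hTy z.1 z.2⟩ * ⟨z'.1, hTy z'.1 z'.2⟩⁻¹) = 1 := by
        rw [map_mul, map_inv, h1, mul_inv_cancel]
      have h3 : z.1 * z'.1⁻¹ ∈ psl2Tau_h9 H u := (hker _).mp h2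
      have h4 : z.1 * z'.1⁻¹ ∈ psl2Tau_h9 H y₁.1 := Subgroup.mul_mem _ z.2 (Subgroup.inv_mem _ z'.2)
      by_cases h5 : z.1 * z'.1⁻¹ = 1
      · apply Subtype.ext
        exact mul_inv_eq_one.mp h5
      · exfalso
        have e1 := psl2Tau_part_gen_h9 H u _ hu1 h3 h5
        have e2 := psl2Tau_part_gen_h9 H y₁.1 _ hy₁1 h4 h5
        apply hy₁T
        rw [← e1, e2]
        exact (mem_psl2Tau_h9 H _ _).mpr (Commute.refl _)
    have := Nat.card_le_card_of_injective ψ hψ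
    rw [hrange] at this
    exact this
  · have h1 : orderOf (φ y₁) ∣ orderOf y₁ := orderOf_map_dvd φ y₁
    have h2 : orderOf y₁ = orderOf y₁.1 := (Subgroup.orderOf_coe y₁).symm
    let y' : psl2Tau_h9 H y₁.1 := ⟨y₁.1, (mem_psl2Tau_h9 H _ _).mpr (Commute.refl _)⟩
    have h3 : orderOf y₁.1 = orderOf y' := Subgroup.orderOf_coe y'
    have h4 : orderOf y' ∣ Nat.card (psl2Tau_h9 H y₁.1) := orderOf_dvd_natCard y'
    rw [hordφ, h2, h3] at h1
    exact Nat.le_of_dvd Nat.card_pos (h1.trans h4)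

include hp hc ha₀ in
/-- **The numerical theorem** for subgroups in normal position. -/
theorem np_main_h9 (q₁ k : ℕ)
    (hq₁ : Nat.card (psl2Tau_h9 H ⟨QuotientGroup.mk (sl2E_h9 a₀), hE⟩) = q₁)
    (hN : Nat.card (Subgroup.normalizer
      (psl2Tau_h9 H ⟨QuotientGroup.mk (sl2E_h9 a₀), hE⟩ : Set H)) = q₁ * k) (h4 : 4 ≤ q₁)
    (hnn : ∃ g : H, (Quotient.out g.1 : SL(2, F)).1 1 0 ≠ 0) :
    Nat.card H = (q₁ + 1) * (q₁ * k) ∧ 2 ≤ k ∧ (k = q₁ - 1 ∨ 2 * k = q₁ - 1) ∧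
      ∀ y : H, sl2Good_h9 (Quotient.out y.1 : SL(2, F)) →
        Nat.card (Subgroup.normalizer (psl2Tau_h9 H y : Set H)) = 2 * Nat.card (psl2Tau_h9 H y) ∧
        (Nat.card (psl2Tau_h9 H y) = k ∨ Nat.card (psl2Tau_h9 H y) * (q₁ - 1) = k * (q₁ + 1)) := by
  have hu1 := npU_ne_one_h9 H a₀ ha₀ hE
  have hng := npU_not_good_h9 (p := p) a₀
  have hK := np_hK_h9 (p := p) H a₀ ha₀ hE q₁ k hq₁ hN
  obtain ⟨u, hu⟩ : ∃ u : H, u = ⟨QuotientGroup.mk (sl2E_h9 a₀), hE⟩ := ⟨_, rfl⟩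
  have hng' : ¬ sl2Good_h9 (Quotient.out u.1 : SL(2, F)) := by rw [hu]; exact hng
  have hnn' : Subgroup.normalizer (psl2Tau_h9 H u : Set H) ≠ ⊤ := by
    intro h
    obtain ⟨g, hg⟩ := hnn
    apply hg
    rw [← np_mem_norm_h9 H a₀ ha₀ hE g, ← hu, h]
    exact Subgroup.mem_top g
  rw [← hu] at hq₁ hN hu1
  obtain ⟨h1, h2, h3, h5⟩ := (psl2MPart_h9 H).main u hu1 q₁ k hq₁ hN h4
    (fun y _ hr => psl2Tau_norm_good_h9 H y (psl2_hT_h9 (p := p) H u hu1 hng' y hr))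
    (fun x hx _ hrel => psl2_hS_h9 (p := p) H u hu1 hng' x hx hrel)
    (fun n hn => psl2_hC_h9 H u hng' n hn)
    (fun hk => by
      obtain ⟨y₁, gy, hc⟩ := hK hk
      exact ⟨y₁, psl2_good_ne_one_h9 (p := p) H y₁ gy,
        psl2_not_rel_of_good_h9 (p := p) H u hu1 hng' y₁ gy, hc⟩)
    hnn'
  refine ⟨h1, h2, h3, ?_⟩
  intro y gy
  exact h5 y (psl2_good_ne_one_h9 (p := p) H y gy)
    (psl2_not_rel_of_good_h9 (p := p) H u hu1 hng' y gy)

end

end Cfsg.Agent.Helper9
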