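import Mathlib
import Cfsg.Agent.Helper9.Dk3

/-!
# Dickson: the stabiliser subfield of the unipotent class (helper9)

For `H ≤ PSL(2, F)` containing the image of `E(1)`: `A = {b | E(b) ∈ H}`, the subfield
`S = {c | c A ⊆ A}`, and `A = S` when `N(Q)/Q` is large.
-/

set_option autoImplicit false
open scoped MatrixGroups

namespace Cfsg.Agent.Helper9

theorem psl2_out_mk_h9 {F : Type*} [Field F] (x : SL(2, F)) :
    (Quotient.out (QuotientGroup.mk x : Matrix.ProjectiveSpecialLinearGroup (Fin 2) F) : SL(2, F))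
      = x ∨
    (Quotient.out (QuotientGroup.mk x : Matrix.ProjectiveSpecialLinearGroup (Fin 2) F) : SL(2, F))
      = -x :=
  (psl2_mk_eq_iff_h9 _ _).mp (QuotientGroup.out_eq' _)

section

variable {F : Type*} [Field F]
  (H : Subgroup (Matrix.ProjectiveSpecialLinearGroup (Fin 2) F))

/-- the additive group `{b | E(b) ∈ H}`. -/
def npA_h9 : AddSubgroup F where
  carrier := {b | (QuotientGroup.mk (sl2E_h9 b) : Matrix.ProjectiveSpecialLinearGroup (Fin 2) F) ∈ H}
  add_mem' := by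
    intro a b ha hb
    show (QuotientGroup.mk (sl2E_h9 (a + b)) : Matrix.ProjectiveSpecialLinearGroup (Fin 2) F) ∈ H
    rw [← sl2E_mul_h9, QuotientGroup.mk_mul]
    exact H.mul_mem ha hb
  zero_mem' := by
    show (QuotientGroup.mk (sl2E_h9 (0 : F)) : Matrix.ProjectiveSpecialLinearGroup (Fin 2) F) ∈ H
    rw [sl2E_zero_h9]
    exact H.one_mem
  neg_mem' := by
    intro a ha
    show (QuotientGroup.mk (sl2E_h9 (-a)) : Matrix.ProjectiveSpecialLinearGroup (Fin 2) F) ∈ H
    rw [← sl2E_inv_h9, QuotientGroup.mk_inv]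
    exact H.inv_mem ha

theorem mem_npA_h9 (b : F) : b ∈ npA_h9 H ↔
    (QuotientGroup.mk (sl2E_h9 b) : Matrix.ProjectiveSpecialLinearGroup (Fin 2) F) ∈ H := Iff.rfl

/-- the stabiliser subfield `{c | c A ⊆ A}`. -/
def npS_h9 [Fintype F] : Subfield F where
  carrier := {c | ∀ b ∈ npA_h9 H, c * b ∈ npA_h9 H}
  mul_mem' := fun {c c'} hc hc' b hb => by rw [mul_assoc]; exact hc _ (hc' b hb)
  one_mem' := fun b hb => by rw [one_mul]; exact hb
  add_mem' := fun {c c'} hc hc' b hb => by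
    rw [add_mul]; exact (npA_h9 H).add_mem (hc b hb) (hc' b hb)
  zero_mem' := fun b _ => by rw [zero_mul]; exact (npA_h9 H).zero_mem
  neg_mem' := fun {c} hc b hb => by rw [neg_mul]; exact (npA_h9 H).neg_mem (hc b hb)
  inv_mem' := fun c hc => by
    by_cases h0 : c = 0
    · subst h0
      rw [inv_zero]
      intro b _
      rw [zero_mul]; exact (npA_h9 H).zero_mem
    · have hpow : ∀ n : ℕ, ∀ b ∈ npA_h9 H, c ^ n * b ∈ npA_h9 H := by
        intro n
        induction n with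
        | zero => intro b hb; simpa using hb
        | succ n ih => intro b hb; rw [pow_succ, mul_assoc]; exact ih _ (hc b hb)
      have e : c⁻¹ = c ^ (Fintype.card F - 2) := by
        have h1 := FiniteField.pow_card_sub_one_eq_one c h0
        have hq : 1 < Fintype.card F := Fintype.one_lt_card
        have e2 : Fintype.card F - 1 = (Fintype.card F - 2) + 1 := by omega
        rw [e2, pow_succ] at h1
        exact inv_eq_of_mul_eq_one_left h1
      intro b hb
      rw [e]; exact hpow _ b hb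

theorem mem_npS_h9 [Fintype F] (c : F) : c ∈ npS_h9 H ↔ ∀ b ∈ npA_h9 H, c * b ∈ npA_h9 H :=
  Iff.rfl

/-- squares of diagonal entries of upper triangular elements of `H` lie in `S`. -/
theorem np_sq_mem_S_h9 [Fintype F] (h : Matrix.ProjectiveSpecialLinearGroup (Fin 2) F)
    (hh : h ∈ H) (h10 : (Quotient.out h : SL(2, F)).1 1 0 = 0) :
    (Quotient.out h : SL(2, F)).1 0 0 ^ 2 ∈ npS_h9 H := by
  intro b hb
  show (QuotientGroup.mk (sl2E_h9 ((Quotient.out h : SL(2, F)).1 0 0 ^ 2 * b)) :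
    Matrix.ProjectiveSpecialLinearGroup (Fin 2) F) ∈ H
  rw [mul_comm, ← sl2_conj_E_upper_h9 _ h10, QuotientGroup.mk_mul, QuotientGroup.mk_mul,
    QuotientGroup.mk_inv, QuotientGroup.out_eq']
  exact H.mul_mem (H.mul_mem hh hb) (H.inv_mem hh)

end

section

variable {F : Type*} [Field F] [Fintype F] {p : ℕ} [hp : Fact p.Prime] [hc : CharP F p]
  (H : Subgroup (Matrix.ProjectiveSpecialLinearGroup (Fin 2) F))
  (hE : (QuotientGroup.mk (sl2E_h9 (1 : F)) : Matrix.ProjectiveSpecialLinearGroup (Fin 2) F) ∈ H)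

omit [Fintype F] in
theorem np_mem_norm_mk_h9 [Fintype F] (x : SL(2, F))
    (hx : (QuotientGroup.mk x : Matrix.ProjectiveSpecialLinearGroup (Fin 2) F) ∈ H) :
    (⟨QuotientGroup.mk x, hx⟩ : H) ∈ Subgroup.normalizer
      (psl2Tau_h9 H ⟨QuotientGroup.mk (sl2E_h9 (1 : F)), hE⟩ : Set H) ↔ x.1 1 0 = 0 := by
  rw [np_mem_norm_h9 H 1 one_ne_zero hE]
  rcases psl2_out_mk_h9 x with h | h
  · rw [h]
  · show (Quotient.out (QuotientGroup.mk x : Matrix.ProjectiveSpecialLinearGroup (Fin 2) F) :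
      SL(2, F)).1 1 0 = 0 ↔ _
    rw [h, (sl2_neg_entries_h9 x).2.2.1, neg_eq_zero]

/-- `A` is in bijection with the unipotent class. -/
theorem np_card_A_h9 :
    Nat.card (npA_h9 H) = Nat.card (psl2Tau_h9 H ⟨QuotientGroup.mk (sl2E_h9 (1 : F)), hE⟩) := by
  have hmem : ∀ b : npA_h9 H, (⟨QuotientGroup.mk (sl2E_h9 b.1), b.2⟩ : H) ∈
      psl2Tau_h9 H ⟨QuotientGroup.mk (sl2E_h9 (1 : F)), hE⟩ := by
    intro b
    rw [np_mem_tau_h9 H 1 one_ne_zero hE]
    obtain ⟨e00, e01, e10, e11⟩ := sl2E_entries_h9 b.1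
    show (Quotient.out (QuotientGroup.mk (sl2E_h9 b.1) :
      Matrix.ProjectiveSpecialLinearGroup (Fin 2) F) : SL(2, F)).1 1 0 = 0 ∧
      (Quotient.out (QuotientGroup.mk (sl2E_h9 b.1) :
      Matrix.ProjectiveSpecialLinearGroup (Fin 2) F) : SL(2, F)).1 0 0 =
      (Quotient.out (QuotientGroup.mk (sl2E_h9 b.1) :
      Matrix.ProjectiveSpecialLinearGroup (Fin 2) F) : SL(2, F)).1 1 1
    rcases psl2_out_mk_h9 (sl2E_h9 b.1) with h | h
    · rw [h, e00, e10, e11]; exact ⟨rfl, rfl⟩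
    · obtain ⟨n00, n01, n10, n11⟩ := sl2_neg_entries_h9 (sl2E_h9 b.1)
      rw [h, n00, n10, n11, e00, e10, e11]; exact ⟨neg_zero, rfl⟩
  let f : npA_h9 H → psl2Tau_h9 H ⟨QuotientGroup.mk (sl2E_h9 (1 : F)), hE⟩ :=
    fun b => ⟨⟨QuotientGroup.mk (sl2E_h9 b.1), b.2⟩, hmem b⟩
  apply Nat.card_eq_of_bijective f
  constructor
  · intro b b' hbb
    have h1 : (QuotientGroup.mk (sl2E_h9 b.1) : Matrix.ProjectiveSpecialLinearGroup (Fin 2) F)
        = QuotientGroup.mk (sl2E_h9 b'.1) := congrArg (fun z => z.1.1) hbb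
    obtain ⟨e00, e01, e10, e11⟩ := sl2E_entries_h9 b.1
    obtain ⟨f00, f01, f10, f11⟩ := sl2E_entries_h9 b'.1
    apply Subtype.ext
    rcases (psl2_mk_eq_iff_h9 _ _).mp h1 with h | h
    · rw [← e01, h, f01]
    · obtain ⟨n00, n01, n10, n11⟩ := sl2_neg_entries_h9 (sl2E_h9 b'.1)
      have h00 : (1 : F) = -1 := by
        have := congrArg (fun g : SL(2, F) => g.1 0 0) h
        simp only [e00, n00, f00] at this
        exact this
      have h01 : b.1 = -b'.1 := by
        have := congrArg (fun g : SL(2, F) => g.1 0 1) h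
        simp only [e01, n01, f01] at this
        exact this
      linear_combination h01 - b'.1 * h00
  · intro z
    obtain ⟨z10, z00⟩ := (np_mem_tau_h9 H 1 one_ne_zero hE z.1).mp z.2
    obtain ⟨-, hdet⟩ := sl2_entries_h9 (Quotient.out z.1.1 : SL(2, F))
    rw [z10, ← z00] at hdet
    have hsq : ((Quotient.out z.1.1 : SL(2, F)).1 0 0 - 1) *
        ((Quotient.out z.1.1 : SL(2, F)).1 0 0 + 1) = 0 := by linear_combination hdet
    have hz0 : (QuotientGroup.mk (Quotient.out z.1.1 : SL(2, F)) :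
        Matrix.ProjectiveSpecialLinearGroup (Fin 2) F) = z.1.1 := QuotientGroup.out_eq' _
    rcases mul_eq_zero.mp hsq with h | h
    · have h1 : (Quotient.out z.1.1 : SL(2, F)).1 0 0 = 1 := by linear_combination h
      have e : (Quotient.out z.1.1 : SL(2, F)) = sl2E_h9 ((Quotient.out z.1.1 : SL(2, F)).1 0 1) := by
        obtain ⟨e00, e01, e10, e11⟩ := sl2E_entries_h9 ((Quotient.out z.1.1 : SL(2, F)).1 0 1)
        apply sl2_ext_h9
        · rw [e00, h1]
        · rw [e01]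
        · rw [e10, z10]
        · rw [e11, ← z00, h1]
      have hb : (Quotient.out z.1.1 : SL(2, F)).1 0 1 ∈ npA_h9 H := by
        show (QuotientGroup.mk (sl2E_h9 ((Quotient.out z.1.1 : SL(2, F)).1 0 1)) :
          Matrix.ProjectiveSpecialLinearGroup (Fin 2) F) ∈ H
        rw [← e, hz0]; exact z.1.2
      refine ⟨⟨_, hb⟩, ?_⟩
      apply Subtype.ext
      apply Subtype.ext
      show (QuotientGroup.mk (sl2E_h9 ((Quotient.out z.1.1 : SL(2, F)).1 0 1)) :
          Matrix.ProjectiveSpecialLinearGroup (Fin 2) F) = z.1.1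
      rw [← e, hz0]
    · have h1 : (Quotient.out z.1.1 : SL(2, F)).1 0 0 = -1 := by linear_combination h
      have e : (Quotient.out z.1.1 : SL(2, F))
          = -sl2E_h9 (-(Quotient.out z.1.1 : SL(2, F)).1 0 1) := by
        obtain ⟨e00, e01, e10, e11⟩ := sl2E_entries_h9 (-(Quotient.out z.1.1 : SL(2, F)).1 0 1)
        obtain ⟨n00, n01, n10, n11⟩ := sl2_neg_entries_h9
          (sl2E_h9 (-(Quotient.out z.1.1 : SL(2, F)).1 0 1))
        apply sl2_ext_h9
        · rw [n00, e00, h1]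
        · rw [n01, e01, neg_neg]
        · rw [n10, e10, z10, neg_zero]
        · rw [n11, e11, ← z00, h1]
      have hb : -(Quotient.out z.1.1 : SL(2, F)).1 0 1 ∈ npA_h9 H := by
        show (QuotientGroup.mk (sl2E_h9 (-(Quotient.out z.1.1 : SL(2, F)).1 0 1)) :
          Matrix.ProjectiveSpecialLinearGroup (Fin 2) F) ∈ H
        rw [← psl2_mk_neg_h9, ← e, hz0]; exact z.1.2
      refine ⟨⟨_, hb⟩, ?_⟩
      apply Subtype.ext
      apply Subtype.ext
      show (QuotientGroup.mk (sl2E_h9 (-(Quotient.out z.1.1 : SL(2, F)).1 0 1)) :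
          Matrix.ProjectiveSpecialLinearGroup (Fin 2) F) = z.1.1
      rw [← psl2_mk_neg_h9, ← e, hz0]

end

end Cfsg.Agent.Helper9
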