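import Mathlib
import Cfsg.Agent.Helper9.Tor4

/-!
# Overgroups of order divisible by `p` in `PSL(2, p)` (helper9)

Over the prime field, a proper subgroup `M` of `PSL(2, p)` of order divisible by `p` lies in a
Borel subgroup, so its `p'`-subgroups are commutative.
-/

set_option autoImplicit false
open scoped MatrixGroups

namespace Cfsg.Agent.Helper9

/-- lower unitriangular. -/
def sl2L_h9 {F : Type*} [Field F] (u : F) : SL(2, F) :=
  ⟨!![1, 0; u, 1], by simp [Matrix.det_fin_two]⟩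

theorem sl2L_entries_h9 {F : Type*} [Field F] (u : F) :
    (sl2L_h9 u).1 0 0 = 1 ∧ (sl2L_h9 u).1 0 1 = 0 ∧ (sl2L_h9 u).1 1 0 = u ∧
      (sl2L_h9 u).1 1 1 = 1 := by
  refine ⟨?_, ?_, ?_, ?_⟩ <;> simp [sl2L_h9]

/-- in a prime field every element is a natural number. -/
theorem prime_field_natCast_h9 {F : Type*} [Field F] [Fintype F] (p : ℕ) [Fact p.Prime]
    (hF : Fintype.card F = p) (s : F) : ∃ k : ℕ, (k : F) = s := by
  haveI := charP_of_card_eq_prime hF
  have hinj : Function.Injective (ZMod.castHom (dvd_refl p) F) := RingHom.injective _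
  have hbij : Function.Bijective (ZMod.castHom (dvd_refl p) F) := by
    rw [Fintype.bijective_iff_injective_and_card]
    exact ⟨hinj, by rw [ZMod.card, hF]⟩
  obtain ⟨z, hz⟩ := hbij.2 s
  refine ⟨z.val, ?_⟩
  rw [← hz, ZMod.castHom_apply, ZMod.natCast_val]

/-- `SL(2, F)` is generated by the elementary matrices. -/
theorem sl2_gen_EL_h9 {F : Type*} [Field F] (S : Subgroup SL(2, F)) (hE : ∀ s, sl2E_h9 s ∈ S)
    (hL : ∀ u, sl2L_h9 u ∈ S) : S = ⊤ := by
  have key : ∀ t : SL(2, F), t.1 1 0 ≠ 0 → t ∈ S := by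
    intro t ht
    have e : t = sl2E_h9 ((t.1 0 0 - 1) / t.1 1 0) * sl2L_h9 (t.1 1 0)
        * sl2E_h9 ((t.1 1 1 - 1) / t.1 1 0) := by
      obtain ⟨-, hdet⟩ := sl2_entries_h9 t
      obtain ⟨m00, m01, m10, m11⟩ := sl2_mul_entries_h9
        (sl2E_h9 ((t.1 0 0 - 1) / t.1 1 0) * sl2L_h9 (t.1 1 0))
        (sl2E_h9 ((t.1 1 1 - 1) / t.1 1 0))
      obtain ⟨n00, n01, n10, n11⟩ := sl2_mul_entries_h9
        (sl2E_h9 ((t.1 0 0 - 1) / t.1 1 0)) (sl2L_h9 (t.1 1 0))
      obtain ⟨a00, a01, a10, a11⟩ := sl2E_entries_h9 ((t.1 0 0 - 1) / t.1 1 0)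
      obtain ⟨b00, b01, b10, b11⟩ := sl2E_entries_h9 ((t.1 1 1 - 1) / t.1 1 0)
      obtain ⟨l00, l01, l10, l11⟩ := sl2L_entries_h9 (t.1 1 0)
      apply sl2_ext_h9
      · rw [m00, n00, n01, a00, a01, b00, b10, l00, l10, l01, l11]
        field_simp
        ring
      · rw [m01, n00, n01, a00, a01, b01, b11, l00, l10, l01, l11]
        field_simp
        linear_combination -hdet
      · rw [m10, n10, n11, a10, a11, b00, b10, l00, l10, l01, l11]
        ring
      · rw [m11, n10, n11, a10, a11, b01, b11, l00, l10, l01, l11]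
        field_simp
        ring
    rw [e]
    exact S.mul_mem (S.mul_mem (hE _) (hL _)) (hE _)
  rw [eq_top_iff]
  intro t _
  by_cases ht : t.1 1 0 = 0
  · obtain ⟨-, hdet⟩ := sl2_entries_h9 t
    rw [ht] at hdet
    have h11 : t.1 1 1 ≠ 0 := by
      intro h
      rw [h] at hdet
      simp at hdet
    have h2 : t * sl2L_h9 1 ∈ S := by
      apply key
      obtain ⟨m00, m01, m10, m11⟩ := sl2_mul_entries_h9 t (sl2L_h9 1)
      obtain ⟨l00, l01, l10, l11⟩ := sl2L_entries_h9 (1 : F)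
      rw [m10, l00, l10, ht]
      simpa using h11
    have : t = t * sl2L_h9 1 * (sl2L_h9 1)⁻¹ := by group
    rw [this]
    exact S.mul_mem h2 (S.inv_mem (hL 1))
  · exact key t ht

/-- over the prime field, a subgroup of `SL(2, p)` containing a nontrivial upper unitriangular
element and an element with nonzero lower-left entry is everything. -/
theorem sl2_prime_gen_h9 {F : Type*} [Field F] [Fintype F] (p : ℕ) [Fact p.Prime]
    (hF : Fintype.card F = p) (S : Subgroup SL(2, F)) (c : F) (hc : c ≠ 0)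
    (hE : sl2E_h9 c ∈ S) (g : SL(2, F)) (hg : g ∈ S) (hg10 : g.1 1 0 ≠ 0) : S = ⊤ := by
  have hEall : ∀ s, sl2E_h9 s ∈ S := by
    intro s
    obtain ⟨k, hk⟩ := prime_field_natCast_h9 p hF (s / c)
    have : sl2E_h9 s = sl2E_h9 c ^ k := by
      rw [sl2E_pow_h9, hk]
      congr 1
      field_simp
    rw [this]
    exact S.pow_mem hE k
  -- `g'` with zero upper-left entry
  have hg' : sl2E_h9 (-(g.1 0 0) / g.1 1 0) * g ∈ S := S.mul_mem (hEall _) hg
  obtain ⟨m00, m01, m10, m11⟩ := sl2_mul_entries_h9 (sl2E_h9 (-(g.1 0 0) / g.1 1 0)) g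
  obtain ⟨a00, a01, a10, a11⟩ := sl2E_entries_h9 (-(g.1 0 0) / g.1 1 0)
  have g00 : (sl2E_h9 (-(g.1 0 0) / g.1 1 0) * g).1 0 0 = 0 := by
    rw [m00, a00, a01]; field_simp; ring
  have g10 : (sl2E_h9 (-(g.1 0 0) / g.1 1 0) * g).1 1 0 = g.1 1 0 := by
    rw [m10, a10, a11]; ring
  obtain ⟨-, hdet⟩ := sl2_entries_h9 (sl2E_h9 (-(g.1 0 0) / g.1 1 0) * g)
  rw [g00, g10] at hdet
  generalize sl2E_h9 (-(g.1 0 0) / g.1 1 0) * g = g' at hg' g00 g10 hdet
  have hLall : ∀ u, sl2L_h9 u ∈ S := by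
    intro u
    have e : sl2L_h9 u = g' * sl2E_h9 (-u / (g.1 1 0) ^ 2) * g'⁻¹ := by
      rw [eq_mul_inv_iff_mul_eq]
      obtain ⟨n00, n01, n10, n11⟩ := sl2_mul_entries_h9 (sl2L_h9 u) g'
      obtain ⟨k00, k01, k10, k11⟩ := sl2_mul_entries_h9 g' (sl2E_h9 (-u / (g.1 1 0) ^ 2))
      obtain ⟨l00, l01, l10, l11⟩ := sl2L_entries_h9 u
      obtain ⟨b00, b01, b10, b11⟩ := sl2E_entries_h9 (-u / (g.1 1 0) ^ 2)
      apply sl2_ext_h9
      · rw [n00, k00, l00, l01, b00, b10]; ring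
      · rw [n01, k01, l00, l01, b01, b11, g00]; ring
      · rw [n10, k10, l10, l11, b00, b10, g00]; ring
      · rw [n11, k11, l10, l11, b01, b11, g10]
        field_simp
        linear_combination (-u) * hdet
    rw [e]
    exact S.mul_mem (S.mul_mem hg' (hEall _)) (S.inv_mem hg')
  exact sl2_gen_EL_h9 S hEall hLall

end Cfsg.Agent.Helper9
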