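import Mathlib
import Cfsg.Agent.Helper9.Dk4
import Cfsg.Agent.Helper9.Prime1

/-!
# Dickson: `A = S` and the Bruhat decomposition of `H` (helper9)
-/

set_option autoImplicit false
open scoped MatrixGroups

namespace Cfsg.Agent.Helper9

section

variable {F : Type*} [Field F] [Fintype F] {p : ℕ} [hp : Fact p.Prime] [hc : CharP F p]
  (H : Subgroup (Matrix.ProjectiveSpecialLinearGroup (Fin 2) F))
  (hE : (QuotientGroup.mk (sl2E_h9 (1 : F)) : Matrix.ProjectiveSpecialLinearGroup (Fin 2) F) ∈ H)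

/-- at least `k` nonzero elements of `S`. -/
theorem np_sq_count_h9 (q₁ k : ℕ)
    (hq₁ : Nat.card (psl2Tau_h9 H ⟨QuotientGroup.mk (sl2E_h9 (1 : F)), hE⟩) = q₁)
    (hN : Nat.card (Subgroup.normalizer
      (psl2Tau_h9 H ⟨QuotientGroup.mk (sl2E_h9 (1 : F)), hE⟩ : Set H)) = q₁ * k) :
    k + 1 ≤ Nat.card (npS_h9 H) := by
  classical
  obtain ⟨u, hu⟩ : ∃ u : H, u = ⟨QuotientGroup.mk (sl2E_h9 (1 : F)), hE⟩ := ⟨_, rfl⟩
  rw [← hu] at hq₁ hN
  have memT : ∀ z : H, z ∈ psl2Tau_h9 H u ↔ (Quotient.out z.1 : SL(2, F)).1 1 0 = 0 ∧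
        (Quotient.out z.1 : SL(2, F)).1 0 0 = (Quotient.out z.1 : SL(2, F)).1 1 1 := by
    intro z; rw [hu]; exact np_mem_tau_h9 H 1 one_ne_zero hE z
  have memN : ∀ n : H, n ∈ Subgroup.normalizer (psl2Tau_h9 H u : Set H) ↔
      (Quotient.out n.1 : SL(2, F)).1 1 0 = 0 := by
    intro n; rw [hu]; exact np_mem_norm_h9 H 1 one_ne_zero hE n
  obtain ⟨N, hNdef⟩ : ∃ N : Subgroup H, N = Subgroup.normalizer (psl2Tau_h9 H u : Set H) :=
    ⟨_, rfl⟩
  rw [← hNdef] at hN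
  have hN10 : ∀ n : N, (Quotient.out n.1.1 : SL(2, F)).1 1 0 = 0 :=
    fun n => (memN n.1).mp (hNdef ▸ n.2)
  have hdet : ∀ n : N, (Quotient.out n.1.1 : SL(2, F)).1 0 0 *
      (Quotient.out n.1.1 : SL(2, F)).1 1 1 = 1 := by
    intro n
    obtain ⟨-, d⟩ := sl2_entries_h9 (Quotient.out n.1.1 : SL(2, F))
    rw [hN10 n] at d
    linear_combination d
  have h00 : ∀ n : N, (Quotient.out n.1.1 : SL(2, F)).1 0 0 ≠ 0 := by
    intro n h
    have := hdet n
    rw [h] at this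
    simp at this
  let φ : N →* Fˣ := MonoidHom.mk'
    (fun n => Units.mk0 (((Quotient.out n.1.1 : SL(2, F)).1 0 0) ^ 2) (pow_ne_zero 2 (h00 n))) (by
      intro n n'
      apply Units.ext
      simp only [Units.val_mul, Units.val_mk0]
      have h0 : (QuotientGroup.mk (Quotient.out (n * n').1.1 : SL(2, F)) :
          Matrix.ProjectiveSpecialLinearGroup (Fin 2) F)
          = QuotientGroup.mk ((Quotient.out n.1.1 : SL(2, F)) * Quotient.out n'.1.1) := by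
        rw [QuotientGroup.out_eq', QuotientGroup.mk_mul, QuotientGroup.out_eq',
          QuotientGroup.out_eq']
        rfl
      obtain ⟨m00, -, -, -⟩ := sl2_mul_entries_h9 (Quotient.out n.1.1 : SL(2, F))
        (Quotient.out n'.1.1)
      rcases (psl2_mk_eq_iff_h9 _ _).mp h0 with h | h
      · rw [h, m00, hN10 n']; ring
      · rw [h, (sl2_neg_entries_h9 _).1, m00, hN10 n']; ring)
  have hφ : ∀ n : N, ((φ n : Fˣ) : F) = ((Quotient.out n.1.1 : SL(2, F)).1 0 0) ^ 2 :=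
    fun n => rfl
  have hker : ∀ n : N, φ n = 1 ↔ n.1 ∈ psl2Tau_h9 H u := by
    intro n
    rw [memT, Units.ext_iff, hφ, Units.val_one]
    have d := hdet n
    constructor
    · intro h
      refine ⟨hN10 n, ?_⟩
      have h1 : (Quotient.out n.1.1 : SL(2, F)).1 0 0 *
          ((Quotient.out n.1.1 : SL(2, F)).1 0 0 - (Quotient.out n.1.1 : SL(2, F)).1 1 1) = 0 := by
        linear_combination h - d
      rcases mul_eq_zero.mp h1 with h2 | h2
      · exact absurd h2 (h00 n)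
      · exact sub_eq_zero.mp h2
    · rintro ⟨-, h⟩
      rw [← h] at d
      linear_combination d
  have hkerS : φ.ker = (psl2Tau_h9 H u).subgroupOf N := by
    ext n
    rw [MonoidHom.mem_ker, Subgroup.mem_subgroupOf]
    exact hker n
  have hTN : psl2Tau_h9 H u ≤ N := by rw [hNdef]; exact Subgroup.le_normalizer
  have hkercard : Nat.card φ.ker = q₁ := by
    rw [hkerS, ← hq₁]
    exact Nat.card_congr (Subgroup.subgroupOfEquivOfLe hTN).toEquiv
  have hrange : Nat.card φ.range = k := by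
    have h1 := Subgroup.card_mul_index φ.ker
    rw [Subgroup.index_ker, hkercard, hN] at h1
    have hq0 : 0 < q₁ := by rw [← hq₁]; exact Nat.card_pos
    exact Nat.eq_of_mul_eq_mul_left hq0 h1
  -- the injection of `Option (range φ)` into `S`
  have hmemS : ∀ ζ : φ.range, ((ζ.1 : Fˣ) : F) ∈ npS_h9 H := by
    intro ζ
    obtain ⟨n, hn⟩ := ζ.2
    rw [← hn, hφ]
    exact np_sq_mem_S_h9 H n.1.1 n.1.2 (hN10 n)
  let g : Option φ.range → npS_h9 H := fun o =>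
    match o with
    | none => 0
    | some ζ => ⟨((ζ.1 : Fˣ) : F), hmemS ζ⟩
  have hg : Function.Injective g := by
    intro o o' h
    match o, o' with
    | none, none => rfl
    | none, some ζ =>
      exfalso
      have h1 : (0 : F) = ((ζ.1 : Fˣ) : F) := congrArg Subtype.val h
      exact (Units.ne_zero ζ.1) h1.symm
    | some ζ, none =>
      exfalso
      have h1 : ((ζ.1 : Fˣ) : F) = 0 := congrArg Subtype.val h
      exact (Units.ne_zero ζ.1) h1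
    | some ζ, some ζ' =>
      have h1 : ((ζ.1 : Fˣ) : F) = ((ζ'.1 : Fˣ) : F) := congrArg Subtype.val h
      rw [Subtype.ext (Units.ext h1)]
  have := Nat.card_le_card_of_injective g hg
  rw [Nat.card_eq_fintype_card (α := Option φ.range), Fintype.card_option,
    ← Nat.card_eq_fintype_card, hrange] at this
  exact this

omit hp hc in
include hE in
/-- `A = S` when `S` is large. -/
theorem np_A_le_S_h9 (q₁ k : ℕ) (hk : 2 ≤ k) (hkq : k = q₁ - 1 ∨ 2 * k = q₁ - 1)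
    (hcardA : Nat.card (npA_h9 H) = q₁) (hS : k + 1 ≤ Nat.card (npS_h9 H)) :
    ∀ b, b ∈ npA_h9 H → b ∈ npS_h9 H := by
  by_contra hcon
  push Not at hcon
  obtain ⟨a₁, ha₁, ha₁S⟩ := hcon
  have h1A : (1 : F) ∈ npA_h9 H := hE
  let g : npS_h9 H × npS_h9 H → npA_h9 H := fun x =>
    ⟨x.1.1 + x.2.1 * a₁, (npA_h9 H).add_mem (by simpa using x.1.2 1 h1A) (x.2.2 a₁ ha₁)⟩
  have hg : Function.Injective g := by
    rintro ⟨c, c'⟩ ⟨d, d'⟩ h
    have h1 : c.1 + c'.1 * a₁ = d.1 + d'.1 * a₁ := congrArg Subtype.val h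
    have hc' : c' = d' := by
      by_contra hne
      have hne' : c'.1 - d'.1 ≠ 0 := fun h0 => hne (Subtype.ext (sub_eq_zero.mp h0))
      apply ha₁S
      have e : a₁ = (d.1 - c.1) / (c'.1 - d'.1) := by
        rw [eq_div_iff hne']; linear_combination h1
      rw [e]
      exact (npS_h9 H).div_mem ((npS_h9 H).sub_mem d.2 c.2) ((npS_h9 H).sub_mem c'.2 d'.2)
    subst hc'
    have hc : c = d := Subtype.ext (by linear_combination h1)
    rw [hc]
  have h2 := Nat.card_le_card_of_injective g hg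
  rw [Nat.card_prod, hcardA] at h2
  have h3 : (k + 1) * (k + 1) ≤ Nat.card (npS_h9 H) * Nat.card (npS_h9 H) := Nat.mul_le_mul hS hS
  have h4 : q₁ ≤ 2 * k + 1 := by omega
  have h5 : (k + 1) * (k + 1) = k * k + 2 * k + 1 := by ring
  have h6 : 2 * 2 ≤ k * k := Nat.mul_le_mul hk hk
  omega

omit hp hc in
include hE in
theorem np_S_le_A_h9 : ∀ b, b ∈ npS_h9 H → b ∈ npA_h9 H := by
  intro b hb
  have h1A : (1 : F) ∈ npA_h9 H := hE
  simpa using hb 1 h1A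

omit [Fintype F] in
/-- conjugating `E(β)` by an element which is not upper triangular leaves the normalizer. -/
theorem np_conj_E_h9 [Fintype F] (β : F) (hβ : β ∈ npA_h9 H) (g : H)
    (hg : (Quotient.out g.1 : SL(2, F)).1 1 0 ≠ 0)
    (h : g⁻¹ * ⟨QuotientGroup.mk (sl2E_h9 β), hβ⟩ * g ∈ Subgroup.normalizer
      (psl2Tau_h9 H ⟨QuotientGroup.mk (sl2E_h9 (1 : F)), hE⟩ : Set H)) : β = 0 := by
  have hmem : (QuotientGroup.mk ((Quotient.out g.1 : SL(2, F))⁻¹ * sl2E_h9 β * Quotient.out g.1) :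
      Matrix.ProjectiveSpecialLinearGroup (Fin 2) F) ∈ H := by
    rw [QuotientGroup.mk_mul, QuotientGroup.mk_mul, QuotientGroup.mk_inv, QuotientGroup.out_eq']
    exact H.mul_mem (H.mul_mem (H.inv_mem g.2) hβ) g.2
  have e : g⁻¹ * ⟨QuotientGroup.mk (sl2E_h9 β), hβ⟩ * g
      = ⟨QuotientGroup.mk ((Quotient.out g.1 : SL(2, F))⁻¹ * sl2E_h9 β * Quotient.out g.1),
        hmem⟩ := by
    apply Subtype.ext
    show g.1⁻¹ * QuotientGroup.mk (sl2E_h9 β) * g.1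
      = QuotientGroup.mk ((Quotient.out g.1 : SL(2, F))⁻¹ * sl2E_h9 β * Quotient.out g.1)
    rw [QuotientGroup.mk_mul, QuotientGroup.mk_mul, QuotientGroup.mk_inv, QuotientGroup.out_eq']
  rw [e, np_mem_norm_mk_h9 H hE] at h
  have h2 := sl2_conj_E_10_h9 ((Quotient.out g.1 : SL(2, F))⁻¹) β
  rw [inv_inv, h, (sl2_inv_entries_h9 _).2.2.1] at h2
  have h3 : β * (Quotient.out g.1 : SL(2, F)).1 1 0 ^ 2 = 0 := by linear_combination h2
  exact (mul_eq_zero.mp h3).resolve_right (pow_ne_zero 2 hg)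

/-- **Bruhat decomposition** of `H`: every element outside `N(Q)` is `e g₀ n`. -/
theorem np_bruhat_h9 (g₀ : H) (hg₀ : (Quotient.out g₀.1 : SL(2, F)).1 1 0 ≠ 0) (q₁ k : ℕ)
    (hA : Nat.card (npA_h9 H) = q₁)
    (hN : Nat.card (Subgroup.normalizer
      (psl2Tau_h9 H ⟨QuotientGroup.mk (sl2E_h9 (1 : F)), hE⟩ : Set H)) = q₁ * k)
    (hH : Nat.card H = (q₁ + 1) * (q₁ * k)) (h : H)
    (hh : (Quotient.out h.1 : SL(2, F)).1 1 0 ≠ 0) :
    ∃ (b : F) (hb : b ∈ npA_h9 H) (n : H), (Quotient.out n.1 : SL(2, F)).1 1 0 = 0 ∧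
      h = ⟨QuotientGroup.mk (sl2E_h9 b), hb⟩ * g₀ * n := by
  obtain ⟨N, hNdef⟩ : ∃ N : Subgroup H, N = Subgroup.normalizer
      (psl2Tau_h9 H ⟨QuotientGroup.mk (sl2E_h9 (1 : F)), hE⟩ : Set H) := ⟨_, rfl⟩
  rw [← hNdef] at hN
  have memN : ∀ n : H, n ∈ N ↔ (Quotient.out n.1 : SL(2, F)).1 1 0 = 0 := by
    intro n; rw [hNdef]; exact np_mem_norm_h9 H 1 one_ne_zero hE n
  have hEN : ∀ (b : F) (hb : b ∈ npA_h9 H), (⟨QuotientGroup.mk (sl2E_h9 b), hb⟩ : H) ∈ N := by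
    intro b hb
    rw [hNdef]
    exact (np_mem_norm_mk_h9 H hE (sl2E_h9 b) hb).mpr (sl2E_entries_h9 b).2.2.1
  let f : npA_h9 H × N → H := fun x => ⟨QuotientGroup.mk (sl2E_h9 x.1.1), x.1.2⟩ * g₀ * x.2.1
  have hinj : Function.Injective f := by
    rintro ⟨b, n⟩ ⟨b', n'⟩ hf
    have hf' : (⟨QuotientGroup.mk (sl2E_h9 b.1), b.2⟩ : H) * g₀ * n.1
        = ⟨QuotientGroup.mk (sl2E_h9 b'.1), b'.2⟩ * g₀ * n'.1 := hf
    have hβ : b.1 - b'.1 ∈ npA_h9 H := (npA_h9 H).sub_mem b.2 b'.2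
    have e1 : g₀⁻¹ * (⟨QuotientGroup.mk (sl2E_h9 (b.1 - b'.1)), hβ⟩ : H) * g₀ = n'.1 * n.1⁻¹ := by
      have e2 : (⟨QuotientGroup.mk (sl2E_h9 (b.1 - b'.1)), hβ⟩ : H)
          = (⟨QuotientGroup.mk (sl2E_h9 b'.1), b'.2⟩ : H)⁻¹ * ⟨QuotientGroup.mk (sl2E_h9 b.1), b.2⟩ := by
        apply Subtype.ext
        show (QuotientGroup.mk (sl2E_h9 (b.1 - b'.1)) : Matrix.ProjectiveSpecialLinearGroup (Fin 2) F)
          = (QuotientGroup.mk (sl2E_h9 b'.1))⁻¹ * QuotientGroup.mk (sl2E_h9 b.1)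
        rw [← QuotientGroup.mk_inv, ← QuotientGroup.mk_mul, sl2E_inv_h9, sl2E_mul_h9]
        congr 2
        ring
      rw [e2]
      have e3 : (⟨QuotientGroup.mk (sl2E_h9 b.1), b.2⟩ : H) * g₀
          = ⟨QuotientGroup.mk (sl2E_h9 b'.1), b'.2⟩ * g₀ * n'.1 * n.1⁻¹ := by
        rw [← hf']; group
      calc g₀⁻¹ * ((⟨QuotientGroup.mk (sl2E_h9 b'.1), b'.2⟩ : H)⁻¹ *
            ⟨QuotientGroup.mk (sl2E_h9 b.1), b.2⟩) * g₀
          = g₀⁻¹ * (⟨QuotientGroup.mk (sl2E_h9 b'.1), b'.2⟩ : H)⁻¹ *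
            (⟨QuotientGroup.mk (sl2E_h9 b.1), b.2⟩ * g₀) := by group
        _ = n'.1 * n.1⁻¹ := by rw [e3]; group
    have hβ0 : b.1 - b'.1 = 0 := by
      apply np_conj_E_h9 H hE _ hβ g₀ hg₀
      rw [e1, ← hNdef]
      exact N.mul_mem n'.2 (N.inv_mem n.2)
    have hbb : b = b' := Subtype.ext (sub_eq_zero.mp hβ0)
    subst hbb
    have hnn : n.1 = n'.1 := mul_left_cancel hf'
    rw [Subtype.ext hnn]
  have himg : Set.range f ⊆ ((N : Set H))ᶜ := by
    rintro _ ⟨⟨b, n⟩, rfl⟩ hmem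
    have h1 : (⟨QuotientGroup.mk (sl2E_h9 b.1), b.2⟩ : H) * g₀ * n.1 ∈ N := hmem
    have h2 : g₀ ∈ N := by
      have e : g₀ = (⟨QuotientGroup.mk (sl2E_h9 b.1), b.2⟩ : H)⁻¹ *
          (⟨QuotientGroup.mk (sl2E_h9 b.1), b.2⟩ * g₀ * n.1) * n.1⁻¹ := by group
      rw [e]
      exact N.mul_mem (N.mul_mem (N.inv_mem (hEN b.1 b.2)) h1) (N.inv_mem n.2)
    exact hg₀ ((memN g₀).mp h2)
  have hcard1 : (Set.range f).ncard = q₁ * (q₁ * k) := by
    rw [← Set.image_univ, Set.ncard_image_of_injective _ hinj, Set.ncard_univ, Nat.card_prod, hA,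
      hN]
  have hcard2 : (((N : Set H))ᶜ).ncard = q₁ * (q₁ * k) := by
    rw [Set.ncard_compl, hH]
    have : (N : Set H).ncard = q₁ * k := by rw [← hN]; rfl
    rw [this]
    have e : (q₁ + 1) * (q₁ * k) = q₁ * (q₁ * k) + q₁ * k := by ring
    omega
  have heq : Set.range f = ((N : Set H))ᶜ :=
    Set.eq_of_subset_of_ncard_le himg (by rw [hcard1, hcard2]) (Set.toFinite _)
  have hmem : h ∈ Set.range f := by
    rw [heq]
    intro hN'
    exact hh ((memN h).mp hN')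
  obtain ⟨⟨b, n⟩, hbn⟩ := hmem
  exact ⟨b.1, b.2, n.1, (memN n.1).mp n.2, hbn.symm⟩

end

end Cfsg.Agent.Helper9
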