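import Mathlib
import Cfsg.Agent.Helper9.Dk5

/-!
# Dickson: the structure theorem for subgroups in standard position (helper9)

`H ≤ PSL(2, F)` containing `E(1)` and an element `g₀` with upper left entry zero, whose unipotent
class has order `q₁ ≥ 4`: then `S` is a subfield of order `q₁`, `H` contains `E(s)`, `L(s)`
(`s ∈ S`), every element of `H` is a scalar multiple of a matrix over `S`, and
`|H| = (q₁ + 1) q₁ k` with `k = q₁ - 1` or `2k = q₁ - 1`.
-/

set_option autoImplicit false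
open scoped MatrixGroups

namespace Cfsg.Agent.Helper9

/-- a scalar multiple of a matrix over the subfield `S`. -/
def sForm_h9 {F : Type*} [Field F] (S : Subfield F) (x : SL(2, F)) : Prop :=
  ∃ lam : F, lam ≠ 0 ∧ ∀ i j, x.1 i j / lam ∈ S

theorem sForm_mul_h9 {F : Type*} [Field F] (S : Subfield F) (x y : SL(2, F))
    (hx : sForm_h9 S x) (hy : sForm_h9 S y) : sForm_h9 S (x * y) := by
  obtain ⟨l, hl, hx⟩ := hx
  obtain ⟨m, hm, hy⟩ := hy
  refine ⟨l * m, mul_ne_zero hl hm, ?_⟩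
  intro i j
  have e : (x * y).1 i j / (l * m)
      = x.1 i 0 / l * (y.1 0 j / m) + x.1 i 1 / l * (y.1 1 j / m) := by
    rw [Matrix.SpecialLinearGroup.coe_mul, Matrix.mul_apply, Fin.sum_univ_two]
    field_simp
  rw [e]
  exact S.add_mem (S.mul_mem (hx i 0) (hy 0 j)) (S.mul_mem (hx i 1) (hy 1 j))

theorem sForm_neg_h9 {F : Type*} [Field F] (S : Subfield F) (x : SL(2, F))
    (hx : sForm_h9 S x) : sForm_h9 S (-x) := by
  obtain ⟨l, hl, hx⟩ := hx
  refine ⟨l, hl, ?_⟩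
  intro i j
  have e : (-x).1 i j / l = -(x.1 i j / l) := by
    rw [Matrix.SpecialLinearGroup.coe_neg, Matrix.neg_apply, neg_div]
  rw [e]
  exact S.neg_mem (hx i j)

section

variable {F : Type*} [Field F] [Fintype F] {p : ℕ} [hp : Fact p.Prime] [hc : CharP F p]
  (H : Subgroup (Matrix.ProjectiveSpecialLinearGroup (Fin 2) F))
  (hE : (QuotientGroup.mk (sl2E_h9 (1 : F)) : Matrix.ProjectiveSpecialLinearGroup (Fin 2) F) ∈ H)

include hp hc in
theorem np3_struct_h9 (g₀ : H) (hg₀ : (Quotient.out g₀.1 : SL(2, F)).1 0 0 = 0) (q₁ : ℕ)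
    (hq₁ : Nat.card (psl2Tau_h9 H ⟨QuotientGroup.mk (sl2E_h9 (1 : F)), hE⟩) = q₁) (h4 : 4 ≤ q₁) :
    ∃ k, Nat.card H = (q₁ + 1) * (q₁ * k) ∧ 2 ≤ k ∧ (k = q₁ - 1 ∨ 2 * k = q₁ - 1) ∧
      Nat.card (npS_h9 H) = q₁ ∧
      (∀ s ∈ npS_h9 H,
        (QuotientGroup.mk (sl2E_h9 s) : Matrix.ProjectiveSpecialLinearGroup (Fin 2) F) ∈ H ∧
        (QuotientGroup.mk (sl2L_h9 s) : Matrix.ProjectiveSpecialLinearGroup (Fin 2) F) ∈ H) ∧
      (∀ b, (QuotientGroup.mk (sl2E_h9 b) : Matrix.ProjectiveSpecialLinearGroup (Fin 2) F) ∈ H →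
        b ∈ npS_h9 H) ∧
      (∀ h : H, sForm_h9 (npS_h9 H) (Quotient.out h.1 : SL(2, F))) ∧
      (∀ y : H, sl2Good_h9 (Quotient.out y.1 : SL(2, F)) →
        Nat.card (Subgroup.normalizer (psl2Tau_h9 H y : Set H)) = 2 * Nat.card (psl2Tau_h9 H y) ∧
        (Nat.card (psl2Tau_h9 H y) = k ∨ Nat.card (psl2Tau_h9 H y) * (q₁ - 1) = k * (q₁ + 1))) := by
  obtain ⟨k, hN⟩ : ∃ k, Nat.card (Subgroup.normalizer
      (psl2Tau_h9 H ⟨QuotientGroup.mk (sl2E_h9 (1 : F)), hE⟩ : Set H)) = q₁ * k := by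
    have := Subgroup.card_dvd_of_le (Subgroup.le_normalizer
      (H := psl2Tau_h9 H ⟨QuotientGroup.mk (sl2E_h9 (1 : F)), hE⟩))
    rw [hq₁] at this
    obtain ⟨k, hk⟩ := this
    exact ⟨k, hk⟩
  -- entries of g₀
  obtain ⟨-, gdet⟩ := sl2_entries_h9 (Quotient.out g₀.1 : SL(2, F))
  rw [hg₀] at gdet
  have g0110 : (Quotient.out g₀.1 : SL(2, F)).1 0 1 * (Quotient.out g₀.1 : SL(2, F)).1 1 0 = -1 := by
    linear_combination -gdet
  have hg10 : (Quotient.out g₀.1 : SL(2, F)).1 1 0 ≠ 0 := by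
    intro h
    rw [h] at g0110
    simp at g0110
  obtain ⟨hH, hk2, hkq, htori⟩ := np_main_h9 (p := p) H 1 one_ne_zero hE q₁ k hq₁ hN h4 ⟨g₀, hg10⟩
  have hA : Nat.card (npA_h9 H) = q₁ := by rw [np_card_A_h9 H hE, hq₁]
  have hS1 := np_sq_count_h9 H hE q₁ k hq₁ hN
  have hAS := np_A_le_S_h9 H hE q₁ k hk2 hkq hA hS1
  have hSA := np_S_le_A_h9 H hE
  have hScard : Nat.card (npS_h9 H) = q₁ := by
    rw [← hA]
    exact Nat.card_congr (Equiv.subtypeEquivRight (fun b => ⟨hSA b, hAS b⟩))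
  -- the ratio property
  have hratio : ∀ h : H, (Quotient.out h.1 : SL(2, F)).1 1 0 ≠ 0 →
      ∃ (b : F) (_ : b ∈ npA_h9 H) (n : H), (Quotient.out n.1 : SL(2, F)).1 1 0 = 0 ∧
        ((Quotient.out h.1 : SL(2, F)) = sl2E_h9 b * Quotient.out g₀.1 * Quotient.out n.1 ∨
         (Quotient.out h.1 : SL(2, F)) = -(sl2E_h9 b * Quotient.out g₀.1 * Quotient.out n.1)) := by
    intro h hh
    obtain ⟨b, hb, n, hn10, rfl⟩ := np_bruhat_h9 H hE g₀ hg10 q₁ k hA hN hH h hh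
    refine ⟨b, hb, n, hn10, ?_⟩
    apply (psl2_mk_eq_iff_h9 _ _).mp
    rw [QuotientGroup.out_eq', QuotientGroup.mk_mul, QuotientGroup.mk_mul, QuotientGroup.out_eq',
      QuotientGroup.out_eq']
    rfl
  have hratio' : ∀ h : H, (Quotient.out h.1 : SL(2, F)).1 1 0 ≠ 0 →
      (Quotient.out h.1 : SL(2, F)).1 0 0 / (Quotient.out h.1 : SL(2, F)).1 1 0 ∈ npA_h9 H := by
    intro h hh
    obtain ⟨b, hb, n, hn10, hcases⟩ := hratio h hh
    obtain ⟨m00, m01, m10, m11⟩ := sl2_mul_entries_h9 (sl2E_h9 b * Quotient.out g₀.1)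
      (Quotient.out n.1 : SL(2, F))
    obtain ⟨k00, k01, k10, k11⟩ := sl2_mul_entries_h9 (sl2E_h9 b) (Quotient.out g₀.1 : SL(2, F))
    obtain ⟨e00, e01, e10, e11⟩ := sl2E_entries_h9 b
    have key : (Quotient.out h.1 : SL(2, F)).1 0 0 = b * (Quotient.out h.1 : SL(2, F)).1 1 0 := by
      rcases hcases with hc | hc
      · rw [hc, m00, m10, k00, k01, k10, k11, e00, e01, e10, e11, hn10, hg₀]; ring
      · rw [hc, (sl2_neg_entries_h9 _).1, (sl2_neg_entries_h9 _).2.2.1, m00, m10, k00, k01, k10,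
          k11, e00, e01, e10, e11, hn10, hg₀]; ring
    rw [key, mul_div_assoc, div_self hh, mul_one]
    exact hb
  -- upper triangular elements
  have hupper : ∀ n : H, (Quotient.out n.1 : SL(2, F)).1 1 0 = 0 →
      (Quotient.out n.1 : SL(2, F)).1 0 0 * (Quotient.out n.1 : SL(2, F)).1 0 1 ∈ npA_h9 H := by
    intro n hn10
    obtain ⟨-, ndet⟩ := sl2_entries_h9 (Quotient.out n.1 : SL(2, F))
    rw [hn10] at ndet
    have n11 : (Quotient.out n.1 : SL(2, F)).1 1 1 ≠ 0 := by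
      intro h
      rw [h] at ndet
      simp at ndet
    obtain ⟨m00, m01, m10, m11⟩ := sl2_mul_entries_h9 (Quotient.out n.1 : SL(2, F))
      (Quotient.out g₀.1 : SL(2, F))
    have h0 : (Quotient.out (n * g₀).1 : SL(2, F)) = Quotient.out n.1 * Quotient.out g₀.1 ∨
        (Quotient.out (n * g₀).1 : SL(2, F)) = -(Quotient.out n.1 * Quotient.out g₀.1) := by
      apply (psl2_mk_eq_iff_h9 _ _).mp
      rw [QuotientGroup.out_eq', QuotientGroup.mk_mul, QuotientGroup.out_eq', QuotientGroup.out_eq']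
      rfl
    have hne : (Quotient.out n.1 : SL(2, F)).1 1 1 * (Quotient.out g₀.1 : SL(2, F)).1 1 0 ≠ 0 :=
      mul_ne_zero n11 hg10
    have e10 : (Quotient.out (n * g₀).1 : SL(2, F)).1 1 0 ≠ 0 := by
      rcases h0 with hc | hc
      · rw [hc, m10, hn10, zero_mul, zero_add]; exact hne
      · rw [hc, (sl2_neg_entries_h9 _).2.2.1, m10, hn10, zero_mul, zero_add]
        exact neg_ne_zero.mpr hne
    have hr := hratio' (n * g₀) e10
    have e : (Quotient.out (n * g₀).1 : SL(2, F)).1 0 0 / (Quotient.out (n * g₀).1 : SL(2, F)).1 1 0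
        = (Quotient.out n.1 : SL(2, F)).1 0 0 * (Quotient.out n.1 : SL(2, F)).1 0 1 := by
      have hne' : (0 : F) * 0 + (Quotient.out n.1 : SL(2, F)).1 1 1 *
          (Quotient.out g₀.1 : SL(2, F)).1 1 0 ≠ 0 := by
        rw [zero_mul, zero_add]; exact hne
      rcases h0 with hc | hc
      · rw [hc, m00, m10, hn10, hg₀, div_eq_iff hne']
        linear_combination (-((Quotient.out n.1 : SL(2, F)).1 0 1 *
          (Quotient.out g₀.1 : SL(2, F)).1 1 0)) * ndet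
      · rw [hc, (sl2_neg_entries_h9 _).1, (sl2_neg_entries_h9 _).2.2.1, m00, m10, hn10, hg₀,
          neg_div_neg_eq, div_eq_iff hne']
        linear_combination (-((Quotient.out n.1 : SL(2, F)).1 0 1 *
          (Quotient.out g₀.1 : SL(2, F)).1 1 0)) * ndet
    rw [e] at hr
    exact hr
  -- t = d₀ / c₀ ∈ S
  have ht : (Quotient.out g₀.1 : SL(2, F)).1 1 1 / (Quotient.out g₀.1 : SL(2, F)).1 1 0
      ∈ npS_h9 H := by
    have h0 : (Quotient.out (g₀⁻¹).1 : SL(2, F)) = (Quotient.out g₀.1)⁻¹ ∨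
        (Quotient.out (g₀⁻¹).1 : SL(2, F)) = -(Quotient.out g₀.1)⁻¹ := by
      apply (psl2_mk_eq_iff_h9 _ _).mp
      rw [QuotientGroup.out_eq', QuotientGroup.mk_inv, QuotientGroup.out_eq']
      rfl
    obtain ⟨i00, i01, i10, i11⟩ := sl2_inv_entries_h9 (Quotient.out g₀.1 : SL(2, F))
    have e10 : (Quotient.out (g₀⁻¹).1 : SL(2, F)).1 1 0 ≠ 0 := by
      rcases h0 with hc | hc
      · rw [hc, i10]; exact neg_ne_zero.mpr hg10
      · rw [hc, (sl2_neg_entries_h9 _).2.2.1, i10, neg_neg]; exact hg10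
    have hr := hAS _ (hratio' g₀⁻¹ e10)
    have e : (Quotient.out (g₀⁻¹).1 : SL(2, F)).1 0 0 / (Quotient.out (g₀⁻¹).1 : SL(2, F)).1 1 0
        = -((Quotient.out g₀.1 : SL(2, F)).1 1 1 / (Quotient.out g₀.1 : SL(2, F)).1 1 0) := by
      rcases h0 with hc | hc
      · rw [hc, i00, i10]; field_simp
      · rw [hc, (sl2_neg_entries_h9 _).1, (sl2_neg_entries_h9 _).2.2.1, i00, i10]; field_simp
    rw [e] at hr
    have := (npS_h9 H).neg_mem hr
    rwa [neg_neg] at this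
  -- c₀² ∈ S
  have hc2 : (Quotient.out g₀.1 : SL(2, F)).1 1 0 ^ 2 ∈ npS_h9 H := by
    obtain ⟨s, hs⟩ : ∃ s, s = 1 - (Quotient.out g₀.1 : SL(2, F)).1 1 1 /
      (Quotient.out g₀.1 : SL(2, F)).1 1 0 := ⟨_, rfl⟩
    have hsS : s ∈ npS_h9 H := by rw [hs]; exact (npS_h9 H).sub_mem (npS_h9 H).one_mem ht
    have hsA : s ∈ npA_h9 H := hSA s hsS
    let h : H := g₀ * ⟨QuotientGroup.mk (sl2E_h9 s), hsA⟩ * g₀
    have h0 : (Quotient.out h.1 : SL(2, F)) = Quotient.out g₀.1 * sl2E_h9 s * Quotient.out g₀.1 ∨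
        (Quotient.out h.1 : SL(2, F)) = -(Quotient.out g₀.1 * sl2E_h9 s * Quotient.out g₀.1) := by
      apply (psl2_mk_eq_iff_h9 _ _).mp
      rw [QuotientGroup.out_eq', QuotientGroup.mk_mul, QuotientGroup.mk_mul, QuotientGroup.out_eq']
      rfl
    obtain ⟨m00, m01, m10, m11⟩ := sl2_mul_entries_h9 (Quotient.out g₀.1 * sl2E_h9 s)
      (Quotient.out g₀.1 : SL(2, F))
    obtain ⟨k00, k01, k10, k11⟩ := sl2_mul_entries_h9 (Quotient.out g₀.1 : SL(2, F)) (sl2E_h9 s)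
    obtain ⟨e00, e01, e10, e11⟩ := sl2E_entries_h9 s
    have p00 : (Quotient.out g₀.1 * sl2E_h9 s * Quotient.out g₀.1 : SL(2, F)).1 0 0 = -1 := by
      rw [m00, k00, k01, e00, e01, e10, e11, hg₀]; linear_combination g0110
    have p10 : (Quotient.out g₀.1 * sl2E_h9 s * Quotient.out g₀.1 : SL(2, F)).1 1 0
        = (Quotient.out g₀.1 : SL(2, F)).1 1 0 ^ 2 := by
      rw [m10, k10, k11, e00, e01, e10, e11, hg₀, hs]; field_simp; ring
    have hc0 : (Quotient.out g₀.1 : SL(2, F)).1 1 0 ^ 2 ≠ 0 := pow_ne_zero 2 hg10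
    have e10' : (Quotient.out h.1 : SL(2, F)).1 1 0 ≠ 0 := by
      rcases h0 with hc | hc
      · rw [hc, p10]; exact hc0
      · rw [hc, (sl2_neg_entries_h9 _).2.2.1, p10]; exact neg_ne_zero.mpr hc0
    have hr := hAS _ (hratio' h e10')
    have e : (Quotient.out h.1 : SL(2, F)).1 0 0 / (Quotient.out h.1 : SL(2, F)).1 1 0
        = -((Quotient.out g₀.1 : SL(2, F)).1 1 0 ^ 2)⁻¹ := by
      rcases h0 with hc | hc
      · rw [hc, p00, p10]; field_simp
      · rw [hc, (sl2_neg_entries_h9 _).1, (sl2_neg_entries_h9 _).2.2.1, p00, p10]; field_simp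
    rw [e] at hr
    have h1 := (npS_h9 H).inv_mem ((npS_h9 H).neg_mem hr)
    rwa [neg_neg, inv_inv] at h1
  -- the S-form of the pieces
  have formN : ∀ n : H, (Quotient.out n.1 : SL(2, F)).1 1 0 = 0 →
      sForm_h9 (npS_h9 H) (Quotient.out n.1 : SL(2, F)) := by
    intro n hn10
    obtain ⟨-, ndet⟩ := sl2_entries_h9 (Quotient.out n.1 : SL(2, F))
    rw [hn10] at ndet
    have n11 : (Quotient.out n.1 : SL(2, F)).1 1 1 ≠ 0 := by
      intro h
      rw [h] at ndet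
      simp at ndet
    refine ⟨(Quotient.out n.1 : SL(2, F)).1 1 1, n11, ?_⟩
    have h00 : (Quotient.out n.1 : SL(2, F)).1 0 0 / (Quotient.out n.1 : SL(2, F)).1 1 1
        = (Quotient.out n.1 : SL(2, F)).1 0 0 ^ 2 := by
      field_simp; linear_combination -(Quotient.out n.1 : SL(2, F)).1 0 0 * ndet
    have h01 : (Quotient.out n.1 : SL(2, F)).1 0 1 / (Quotient.out n.1 : SL(2, F)).1 1 1
        = (Quotient.out n.1 : SL(2, F)).1 0 0 * (Quotient.out n.1 : SL(2, F)).1 0 1 := by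
      field_simp; linear_combination -(Quotient.out n.1 : SL(2, F)).1 0 1 * ndet
    intro i j
    fin_cases i <;> fin_cases j
    · show (Quotient.out n.1 : SL(2, F)).1 0 0 / _ ∈ _
      rw [h00]; exact np_sq_mem_S_h9 H n.1 n.2 hn10
    · show (Quotient.out n.1 : SL(2, F)).1 0 1 / _ ∈ _
      rw [h01]; exact hAS _ (hupper n hn10)
    · show (Quotient.out n.1 : SL(2, F)).1 1 0 / _ ∈ _
      rw [hn10, zero_div]; exact (npS_h9 H).zero_mem
    · show (Quotient.out n.1 : SL(2, F)).1 1 1 / _ ∈ _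
      rw [div_self n11]; exact (npS_h9 H).one_mem
  have formG : sForm_h9 (npS_h9 H) (Quotient.out g₀.1 : SL(2, F)) := by
    refine ⟨((Quotient.out g₀.1 : SL(2, F)).1 1 0)⁻¹, inv_ne_zero hg10, ?_⟩
    intro i j
    rw [div_inv_eq_mul]
    fin_cases i <;> fin_cases j
    · show (Quotient.out g₀.1 : SL(2, F)).1 0 0 * _ ∈ _
      rw [hg₀, zero_mul]; exact (npS_h9 H).zero_mem
    · show (Quotient.out g₀.1 : SL(2, F)).1 0 1 * _ ∈ _
      rw [g0110]; exact (npS_h9 H).neg_mem (npS_h9 H).one_mem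
    · show (Quotient.out g₀.1 : SL(2, F)).1 1 0 * _ ∈ _
      rw [← sq]; exact hc2
    · show (Quotient.out g₀.1 : SL(2, F)).1 1 1 * _ ∈ _
      have e : (Quotient.out g₀.1 : SL(2, F)).1 1 1 * (Quotient.out g₀.1 : SL(2, F)).1 1 0
          = (Quotient.out g₀.1 : SL(2, F)).1 1 1 / (Quotient.out g₀.1 : SL(2, F)).1 1 0 *
            (Quotient.out g₀.1 : SL(2, F)).1 1 0 ^ 2 := by field_simp
      rw [e]; exact (npS_h9 H).mul_mem ht hc2
  have formE : ∀ b ∈ npA_h9 H, sForm_h9 (npS_h9 H) (sl2E_h9 b) := by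
    intro b hb
    obtain ⟨e00, e01, e10, e11⟩ := sl2E_entries_h9 b
    refine ⟨1, one_ne_zero, ?_⟩
    intro i j
    rw [div_one]
    fin_cases i <;> fin_cases j
    · show (sl2E_h9 b).1 0 0 ∈ _
      rw [e00]; exact (npS_h9 H).one_mem
    · show (sl2E_h9 b).1 0 1 ∈ _
      rw [e01]; exact hAS b hb
    · show (sl2E_h9 b).1 1 0 ∈ _
      rw [e10]; exact (npS_h9 H).zero_mem
    · show (sl2E_h9 b).1 1 1 ∈ _
      rw [e11]; exact (npS_h9 H).one_mem
  refine ⟨k, hH, hk2, hkq, hScard, ?_, ?_, ?_, htori⟩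
  · intro s hs
    refine ⟨hSA s hs, ?_⟩
    -- L(s) = g₀ E(b) g₀⁻¹ with b = -s / c₀²
    obtain ⟨b, hb⟩ : ∃ b, b = -s / (Quotient.out g₀.1 : SL(2, F)).1 1 0 ^ 2 := ⟨_, rfl⟩
    have hbS : b ∈ npS_h9 H := by
      rw [hb]; exact (npS_h9 H).div_mem ((npS_h9 H).neg_mem hs) hc2
    have hbA : (QuotientGroup.mk (sl2E_h9 b) : Matrix.ProjectiveSpecialLinearGroup (Fin 2) F) ∈ H :=
      hSA b hbS
    have e : sl2L_h9 s = Quotient.out g₀.1 * sl2E_h9 b * (Quotient.out g₀.1 : SL(2, F))⁻¹ := by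
      obtain ⟨m00, m01, m10, m11⟩ := sl2_mul_entries_h9 (Quotient.out g₀.1 * sl2E_h9 b)
        (Quotient.out g₀.1 : SL(2, F))⁻¹
      obtain ⟨k00, k01, k10, k11⟩ := sl2_mul_entries_h9 (Quotient.out g₀.1 : SL(2, F)) (sl2E_h9 b)
      obtain ⟨e00, e01, e10, e11⟩ := sl2E_entries_h9 b
      obtain ⟨i00, i01, i10, i11⟩ := sl2_inv_entries_h9 (Quotient.out g₀.1 : SL(2, F))
      obtain ⟨l00, l01, l10, l11⟩ := sl2L_entries_h9 s
      have hc0 : (Quotient.out g₀.1 : SL(2, F)).1 1 0 ^ 2 ≠ 0 := pow_ne_zero 2 hg10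
      apply sl2_ext_h9
      · rw [l00, m00, k00, k01, e00, e01, e10, e11, i00, i10, hg₀]; linear_combination g0110
      · rw [l01, m01, k00, k01, e00, e01, e10, e11, i01, i11, hg₀]; ring
      · rw [l10, sl2_conj_E_10_h9, hb]; field_simp
      · rw [l11, m11, k10, k11, e00, e01, e10, e11, i01, i11, hg₀]; linear_combination g0110
    rw [e, QuotientGroup.mk_mul, QuotientGroup.mk_mul, QuotientGroup.mk_inv, QuotientGroup.out_eq']
    exact H.mul_mem (H.mul_mem g₀.2 hbA) (H.inv_mem g₀.2)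
  · intro b hb
    exact hAS b hb
  · intro h
    by_cases hh : (Quotient.out h.1 : SL(2, F)).1 1 0 = 0
    · exact formN h hh
    · obtain ⟨b, hb, n, hn10, hcases⟩ := hratio h hh
      have hP := sForm_mul_h9 _ _ _ (sForm_mul_h9 _ _ _ (formE b hb) formG) (formN n hn10)
      rcases hcases with hc | hc
      · rw [hc]; exact hP
      · rw [hc]; exact sForm_neg_h9 _ _ hP

end

end Cfsg.Agent.Helper9
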