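import Mathlib
import Cfsg.Agent.Helper9.Ico7
import Cfsg.Agent.Helper9.SL2h
import Cfsg.Agent.S0675

/-!
# `PSL(2, 11)` on the 11 cosets of `A₅` (helper9)
-/

set_option autoImplicit false
open scoped MatrixGroups

namespace Cfsg.Agent.Helper9

theorem not_isSolvable_A5_h9 : ¬ Group.IsSolvable (alternatingGroup (Fin 5)) := by
  intro h
  apply Equiv.Perm.not_isSolvable_fin_5
  haveI := h
  exact Group.isSolvable_of_ker_le_range (alternatingGroup (Fin 5)).subtype
    (Equiv.Perm.sign (α := Fin 5)) (by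
      intro x hx
      exact ⟨⟨x, hx⟩, rfl⟩)

/-- a non-normal subgroup of prime index isomorphic to `A₅` gives a 2-transitive coset action. -/
theorem coset_two_trans_h9 {G : Type*} [Group G] [Finite G] (H : Subgroup G)
    (hidx : (H.index).Prime) (e : H ≃* alternatingGroup (Fin 5)) (hn : ¬ H.Normal) :
    MulAction.IsMultiplyPretransitive G (G ⧸ H) 2 := by
  classical
  letI : Fintype (G ⧸ H) := Fintype.ofFinite _
  have hcard : (Fintype.card (G ⧸ H)).Prime := by
    rw [← Nat.card_eq_fintype_card, ← Subgroup.index_eq_card]; exact hidx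
  let φ := MulAction.toPermHom G (G ⧸ H)
  haveI : MulAction.IsPretransitive φ.range (G ⧸ H) := by
    constructor
    intro a b
    obtain ⟨g, hg⟩ := MulAction.exists_smul_eq G a b
    exact ⟨⟨φ g, g, rfl⟩, hg⟩
  rcases Cfsg.Agent.S0675.result hcard φ.range with hsol | h2
  · exfalso
    haveI := hsol
    -- the restriction of `φ` to `H`
    let ψ : H →* φ.range := (φ.rangeRestrict).comp H.subtype
    haveI hsimp : IsSimpleGroup H := by
      haveI : IsSimpleGroup (alternatingGroup (Fin 5)) := alternatingGroup.isSimpleGroup (by simp)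
      exact e.isSimpleGroup
    rcases ψ.normal_ker.eq_bot_or_eq_top with hk | hk
    · have hinj : Function.Injective ψ := (MonoidHom.ker_eq_bot_iff ψ).mp hk
      haveI : Group.IsSolvable H := Group.isSolvable_of_isSolvable_injective hinj
      have : Group.IsSolvable (alternatingGroup (Fin 5)) :=
        Group.isSolvable_of_isSolvable_injective (f := e.symm.toMonoidHom) e.symm.injective
      exact not_isSolvable_A5_h9 this
    · apply hn
      have hHle : H ≤ H.normalCore := by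
        intro h hh
        rw [Subgroup.normalCore_eq_ker]
        have : (⟨h, hh⟩ : H) ∈ ψ.ker := by rw [hk]; trivial
        have h1 : ψ ⟨h, hh⟩ = 1 := this
        have h2 : φ h = 1 := congrArg Subtype.val h1
        exact h2
      have : H = H.normalCore := le_antisymm hHle (Subgroup.normalCore_le H)
      rw [this]
      infer_instance
  · rw [MulAction.is_two_pretransitive_iff] at h2 ⊢
    intro a b c d hab hcd
    obtain ⟨⟨_, g, rfl⟩, h1, h2'⟩ := h2 hab hcd
    exact ⟨g, h1, h2'⟩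

theorem card_A5_h9 : Nat.card (alternatingGroup (Fin 5)) = 60 := by
  have := two_mul_card_alternatingGroup (α := Fin 5)
  rw [Fintype.card_perm] at this
  rw [Nat.card_eq_fintype_card]
  have h120 : (Fintype.card (Fin 5)).factorial = 120 := by simp [Nat.factorial]
  rw [h120] at this
  omega

/-- the diagonal matrix `diag(t, t⁻¹)`. -/
def sl2D_h9 {F : Type*} [Field F] (t : F) (ht : t ≠ 0) : SL(2, F) :=
  ⟨!![t, 0; 0, t⁻¹], by simp [Matrix.det_fin_two, ht]⟩

theorem sl2D_entries_h9 {F : Type*} [Field F] (t : F) (ht : t ≠ 0) :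
    (sl2D_h9 t ht).1 0 0 = t ∧ (sl2D_h9 t ht).1 0 1 = 0 ∧ (sl2D_h9 t ht).1 1 0 = 0 ∧
      (sl2D_h9 t ht).1 1 1 = t⁻¹ := by
  refine ⟨?_, ?_, ?_, ?_⟩ <;> simp [sl2D_h9]

theorem sl2D_E_h9 {F : Type*} [Field F] (t : F) (ht : t ≠ 0) (u : F) :
    sl2D_h9 t ht * sl2E_h9 u = sl2E_h9 (t ^ 2 * u) * sl2D_h9 t ht := by
  obtain ⟨m00, m01, m10, m11⟩ := sl2_mul_entries_h9 (sl2D_h9 t ht) (sl2E_h9 u)
  obtain ⟨n00, n01, n10, n11⟩ := sl2_mul_entries_h9 (sl2E_h9 (t ^ 2 * u)) (sl2D_h9 t ht)
  obtain ⟨a00, a01, a10, a11⟩ := sl2E_entries_h9 u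
  obtain ⟨b00, b01, b10, b11⟩ := sl2E_entries_h9 (t ^ 2 * u)
  obtain ⟨d00, d01, d10, d11⟩ := sl2D_entries_h9 t ht
  apply sl2_ext_h9
  · rw [m00, n00, a00, a10, b00, b01, d00, d10]; ring
  · rw [m01, n01, a01, a11, b00, b01, d01, d11, d00]
    have htt : t * t⁻¹ = 1 := mul_inv_cancel₀ ht
    linear_combination (-(t * u)) * htt
  · rw [m10, n10, a00, a10, b10, b11, d00, d10]; ring
  · rw [m11, n11, a01, a11, b10, b11, d01, d11, d10]; ring

theorem psl2_11_not_normal_h9 {F : Type*} [Field F] [Fintype F] (hF : Fintype.card F = 11)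
    (H : Subgroup (Matrix.ProjectiveSpecialLinearGroup (Fin 2) F)) (hH : Nat.card H = 60)
    (hidx : H.index = 11) : ¬ H.Normal := by
  intro hn
  have hodd : Fintype.card F % 2 = 1 := by rw [hF]
  have h2 := two_ne_zero_of_odd_card_h9 hodd
  have h11 : (11 : F) = 0 := by
    have := Nat.cast_card_eq_zero F
    rw [hF] at this
    exact_mod_cast this
  have h3 : (3 : F) ≠ 0 := by
    intro h
    have : (1 : F) = 0 := by linear_combination 4 * h - h11
    exact one_ne_zero this
  haveI : Fact (Nat.Prime 11) := ⟨by norm_num⟩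
  have hQ : Nat.card (Matrix.ProjectiveSpecialLinearGroup (Fin 2) F ⧸ H) = 11 := by
    rw [← Subgroup.index_eq_card]; exact hidx
  haveI := isCyclic_of_prime_card hQ
  have hcomm : ∀ a b : Matrix.ProjectiveSpecialLinearGroup (Fin 2) F ⧸ H, a * b = b * a :=
    fun a b => (IsCyclic.commGroup (α := Matrix.ProjectiveSpecialLinearGroup (Fin 2) F ⧸ H)).mul_comm a b
  -- the elements
  have hDE := sl2D_E_h9 (2 : F) h2 1
  have h43 : sl2E_h9 ((2 : F) ^ 2 * 1) = sl2E_h9 (3 : F) * sl2E_h9 (1 : F) := by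
    rw [sl2E_mul_h9]; congr 1; norm_num
  rw [h43] at hDE
  have hDE' := congrArg (fun g : SL(2, F) =>
    (QuotientGroup.mk (QuotientGroup.mk g : Matrix.ProjectiveSpecialLinearGroup (Fin 2) F) :
      Matrix.ProjectiveSpecialLinearGroup (Fin 2) F ⧸ H)) hDE
  simp only [QuotientGroup.mk_mul] at hDE'
  rw [hcomm _ (QuotientGroup.mk (QuotientGroup.mk (sl2E_h9 (1 : F)))), mul_assoc] at hDE'
  have he : (1 : Matrix.ProjectiveSpecialLinearGroup (Fin 2) F ⧸ H) *
      ((QuotientGroup.mk (QuotientGroup.mk (sl2E_h9 (1 : F)))) *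
        (QuotientGroup.mk (QuotientGroup.mk (sl2D_h9 (2 : F) h2))))
      = (QuotientGroup.mk (QuotientGroup.mk (sl2E_h9 (3 : F)))) *
      ((QuotientGroup.mk (QuotientGroup.mk (sl2E_h9 (1 : F)))) *
        (QuotientGroup.mk (QuotientGroup.mk (sl2D_h9 (2 : F) h2)))) := by
    rw [one_mul]; exact hDE'
  have he3 := (mul_right_cancel he).symm
  rw [QuotientGroup.eq_one_iff] at he3
  -- `mk (E 3)` has order 11
  have hpow : (QuotientGroup.mk (sl2E_h9 (3 : F)) : Matrix.ProjectiveSpecialLinearGroup (Fin 2) F) ^ 11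
      = 1 := by
    rw [← QuotientGroup.mk_pow, sl2E_pow_h9]
    have : ((11 : ℕ) : F) * 3 = 0 := by push_cast; rw [h11, zero_mul]
    rw [this, sl2E_zero_h9]; rfl
  have hne : (QuotientGroup.mk (sl2E_h9 (3 : F)) : Matrix.ProjectiveSpecialLinearGroup (Fin 2) F) ≠ 1 := by
    intro h
    rw [show (1 : Matrix.ProjectiveSpecialLinearGroup (Fin 2) F)
      = QuotientGroup.mk (1 : SL(2, F)) from rfl, psl2_mk_eq_iff_h9] at h
    obtain ⟨a00, a01, a10, a11⟩ := sl2E_entries_h9 (3 : F)
    obtain ⟨o00, o01, o10, o11⟩ := sl2_one_entries_h9 (F := F)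
    obtain ⟨n00, n01, n10, n11⟩ := sl2_neg_entries_h9 (1 : SL(2, F))
    rcases h with h | h
    · rw [h, o01] at a01
      exact h3 a01.symm
    · rw [h, n01, o01, neg_zero] at a01
      exact h3 a01.symm
  have hord : orderOf (QuotientGroup.mk (sl2E_h9 (3 : F)) :
      Matrix.ProjectiveSpecialLinearGroup (Fin 2) F) = 11 := orderOf_eq_prime hpow hne
  have hdvd := orderOf_dvd_natCard (⟨_, he3⟩ : H)
  rw [Subgroup.orderOf_mk, hord, hH] at hdvd
  norm_num at hdvd

end Cfsg.Agent.Helper9
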