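import Mathlib
import Cfsg.Agent.Helper9.Prime1

/-!
# Proper subgroups of `PSL(2, p)` of order divisible by `p` (helper9)
-/

set_option autoImplicit false
open scoped MatrixGroups

namespace Cfsg.Agent.Helper9

/-- an element of `PSL(2, F)` with `a ^ p = 1` has a lift with `x ^ p = 1`. -/
theorem sl2_lift_unip_h9 {F : Type*} [Field F] {p : ℕ} [hp : Fact p.Prime] [CharP F p]
    (a : Matrix.ProjectiveSpecialLinearGroup (Fin 2) F) (ha : a ^ p = 1) :
    ∃ x : SL(2, F), (QuotientGroup.mk x : Matrix.ProjectiveSpecialLinearGroup (Fin 2) F) = a ∧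
      x ^ p = 1 := by
  have h0 : (QuotientGroup.mk (Quotient.out a : SL(2, F)) :
      Matrix.ProjectiveSpecialLinearGroup (Fin 2) F) = a := QuotientGroup.out_eq' a
  have h1 : (QuotientGroup.mk ((Quotient.out a : SL(2, F)) ^ p) :
      Matrix.ProjectiveSpecialLinearGroup (Fin 2) F) = QuotientGroup.mk 1 := by
    rw [QuotientGroup.mk_pow, h0, ha]; rfl
  rcases (psl2_mk_eq_iff_h9 _ _).mp h1 with h | h
  · exact ⟨_, h0, h⟩
  · rcases hp.out.eq_two_or_odd' with h2 | hodd
    · refine ⟨_, h0, ?_⟩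
      rw [h]
      have h2F : (2 : F) = 0 := by
        have := CharP.cast_eq_zero F p
        rw [h2] at this
        exact_mod_cast this
      obtain ⟨n00, n01, n10, n11⟩ := sl2_neg_entries_h9 (1 : SL(2, F))
      obtain ⟨o00, o01, o10, o11⟩ := sl2_one_entries_h9 (F := F)
      apply sl2_ext_h9
      · rw [n00, o00]; linear_combination -h2F
      · rw [n01, o01]; ring
      · rw [n10, o10]; ring
      · rw [n11, o11]; linear_combination -h2F
    · refine ⟨-(Quotient.out a : SL(2, F)), ?_, ?_⟩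
      · rw [psl2_mk_neg_h9, h0]
      · rw [hodd.neg_pow, h, neg_neg]

/-- the commutator of two upper triangular elements is upper unitriangular. -/
theorem sl2_upper_comm_h9 {F : Type*} [Field F] (g h : SL(2, F)) (hg : g.1 1 0 = 0)
    (hh : h.1 1 0 = 0) : ∃ s, g * h * g⁻¹ * h⁻¹ = sl2E_h9 s := by
  refine ⟨(g * h * g⁻¹ * h⁻¹).1 0 1, ?_⟩
  obtain ⟨-, gdet⟩ := sl2_entries_h9 g
  obtain ⟨-, hdet⟩ := sl2_entries_h9 h
  rw [hg] at gdet
  rw [hh] at hdet
  obtain ⟨a00, a01, a10, a11⟩ := sl2_mul_entries_h9 g h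
  obtain ⟨b00, b01, b10, b11⟩ := sl2_mul_entries_h9 (g * h) g⁻¹
  obtain ⟨c00, c01, c10, c11⟩ := sl2_mul_entries_h9 (g * h * g⁻¹) h⁻¹
  obtain ⟨i00, i01, i10, i11⟩ := sl2_inv_entries_h9 g
  obtain ⟨j00, j01, j10, j11⟩ := sl2_inv_entries_h9 h
  obtain ⟨e00, e01, e10, e11⟩ := sl2E_entries_h9 ((g * h * g⁻¹ * h⁻¹).1 0 1)
  have A10 : (g * h).1 1 0 = 0 := by rw [a10, hg, hh]; ring
  have B10 : (g * h * g⁻¹).1 1 0 = 0 := by rw [b10, A10, i10, hg]; ring
  apply sl2_ext_h9
  · simp only [c00, b00, a00, i00, i10, j00, j10, hg, hh, e00]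
    linear_combination (h.1 0 0 * h.1 1 1) * gdet + hdet
  · rw [e01]
  · rw [c10, e10, B10, j10, hh]; ring
  · simp only [c11, B10, b11, A10, a11, j11, i11, hg, e11]
    linear_combination (h.1 0 0 * h.1 1 1) * gdet + hdet

/-- Over the prime field: in a proper subgroup `M` of `PSL(2, p)` of order divisible by `p`,
subgroups of order prime to `p` are commutative. -/
theorem psl2_prime_over_h9 {F : Type*} [Field F] [Fintype F] (p : ℕ) [hp : Fact p.Prime]
    (hF : Fintype.card F = p) (M : Subgroup (Matrix.ProjectiveSpecialLinearGroup (Fin 2) F))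
    (hpM : p ∣ Nat.card M) (hM : M ≠ ⊤)
    (H : Subgroup (Matrix.ProjectiveSpecialLinearGroup (Fin 2) F)) (hHM : H ≤ M)
    (hpH : ¬ p ∣ Nat.card H) : ∀ a ∈ H, ∀ b ∈ H, a * b = b * a := by
  haveI := charP_of_card_eq_prime hF
  obtain ⟨u, hu⟩ := exists_prime_orderOf_dvd_card' (G := M) p hpM
  have hup : u.1 ^ p = 1 := by
    have := pow_orderOf_eq_one u
    rw [hu] at this
    exact congrArg Subtype.val this
  obtain ⟨x, hx, hxp⟩ := sl2_lift_unip_h9 u.1 hup
  have htr := sl2_unip_trace_h9 (p := p) x 1 (by rwa [pow_one])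
  have hx1 : x ≠ 1 := by
    rintro rfl
    have h1 : u.1 = 1 := by rw [← hx]; rfl
    have h2 : u = 1 := Subtype.ext h1
    rw [h2, orderOf_one] at hu
    exact hp.out.one_lt.ne hu
  obtain ⟨P, c, hc, hxP⟩ := sl2_unip_conj_h9 x htr hx1
  let S : Subgroup SL(2, F) :=
    (M.comap (QuotientGroup.mk' (Subgroup.center SL(2, F)))).comap (MulAut.conj P).toMonoidHom
  have hS : ∀ g : SL(2, F), g ∈ S ↔
      (QuotientGroup.mk (P * g * P⁻¹) : Matrix.ProjectiveSpecialLinearGroup (Fin 2) F) ∈ M :=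
    fun g => Iff.rfl
  have hES : sl2E_h9 c ∈ S := by
    rw [hS, ← hxP, hx]; exact u.2
  have hupper : ∀ g ∈ S, g.1 1 0 = 0 := by
    intro g hg
    by_contra hne
    have htop := sl2_prime_gen_h9 p hF S c hc hES g hg hne
    apply hM
    rw [eq_top_iff]
    intro a _
    have h1 : P⁻¹ * (Quotient.out a : SL(2, F)) * P ∈ S := by rw [htop]; exact Subgroup.mem_top _
    rw [hS] at h1
    have e : P * (P⁻¹ * (Quotient.out a : SL(2, F)) * P) * P⁻¹ = Quotient.out a := by group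
    rw [e, QuotientGroup.out_eq'] at h1
    exact h1
  intro a ha b hb
  have haS : P⁻¹ * (Quotient.out a : SL(2, F)) * P ∈ S := by
    rw [hS]
    have e : P * (P⁻¹ * (Quotient.out a : SL(2, F)) * P) * P⁻¹ = Quotient.out a := by group
    rw [e, QuotientGroup.out_eq']
    exact hHM ha
  have hbS : P⁻¹ * (Quotient.out b : SL(2, F)) * P ∈ S := by
    rw [hS]
    have e : P * (P⁻¹ * (Quotient.out b : SL(2, F)) * P) * P⁻¹ = Quotient.out b := by group
    rw [e, QuotientGroup.out_eq']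
    exact hHM hb
  obtain ⟨s, hs⟩ := sl2_upper_comm_h9 _ _ (hupper _ haS) (hupper _ hbS)
  -- the commutator of `a` and `b`
  have hcomm : (QuotientGroup.mk (P * sl2E_h9 s * P⁻¹) :
      Matrix.ProjectiveSpecialLinearGroup (Fin 2) F) = a * b * a⁻¹ * b⁻¹ := by
    rw [← hs]
    have e : P * ((P⁻¹ * (Quotient.out a : SL(2, F)) * P) * (P⁻¹ * (Quotient.out b : SL(2, F)) * P)
        * (P⁻¹ * (Quotient.out a : SL(2, F)) * P)⁻¹ * (P⁻¹ * (Quotient.out b : SL(2, F)) * P)⁻¹)
        * P⁻¹ = Quotient.out a * Quotient.out b * (Quotient.out a)⁻¹ * (Quotient.out b)⁻¹ := by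
      group
    rw [e, QuotientGroup.mk_mul, QuotientGroup.mk_mul, QuotientGroup.mk_mul, QuotientGroup.mk_inv,
      QuotientGroup.mk_inv, QuotientGroup.out_eq', QuotientGroup.out_eq']
  have hpow : (a * b * a⁻¹ * b⁻¹) ^ p = 1 := by
    rw [← hcomm, ← QuotientGroup.mk_pow, conj_pow, sl2E_pow_h9, CharP.cast_eq_zero, zero_mul,
      sl2E_zero_h9]
    have : P * 1 * P⁻¹ = 1 := by group
    rw [this]; rfl
  have hcH : a * b * a⁻¹ * b⁻¹ ∈ H :=
    H.mul_mem (H.mul_mem (H.mul_mem ha hb) (H.inv_mem ha)) (H.inv_mem hb)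
  have hone : a * b * a⁻¹ * b⁻¹ = 1 := by
    have h1 : (⟨a * b * a⁻¹ * b⁻¹, hcH⟩ : H) ^ p = 1 := Subtype.ext (by
      rw [Subgroup.coe_pow]; exact hpow)
    have hdvd := orderOf_dvd_of_pow_eq_one h1
    rcases (Nat.dvd_prime hp.out).mp hdvd with h | h
    · have := orderOf_eq_one_iff.mp h
      exact congrArg Subtype.val this
    · exfalso
      apply hpH
      rw [← h]
      exact orderOf_dvd_natCard _
  calc a * b = (a * b * a⁻¹ * b⁻¹) * (b * a) := by group
    _ = b * a := by rw [hone, one_mul]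

end Cfsg.Agent.Helper9
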