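import Mathlib
import Cfsg.Agent.Helper9.Prime2

/-!
# Maximality criterion for `p'`-subgroups of `PSL(2, p)` (helper9)
-/

set_option autoImplicit false
open scoped MatrixGroups

namespace Cfsg.Agent.Helper9

/-- squares commute in a dihedral group. -/
theorem dihedral_sq_comm_h9 (k : ℕ) (x y : DihedralGroup k) : x ^ 2 * y ^ 2 = y ^ 2 * x ^ 2 := by
  cases x <;> cases y <;> simp [sq, add_comm]

theorem perm4_sq_not_comm_h9 :
    ∃ a b : Equiv.Perm (Fin 4), a ^ 2 * b ^ 2 ≠ b ^ 2 * a ^ 2 :=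
  ⟨Equiv.swap 0 1 * Equiv.swap 1 2, Equiv.swap 0 1 * Equiv.swap 1 3, by decide⟩

theorem alt4_sq_not_comm_h9 :
    ∃ a b : alternatingGroup (Fin 4), a ^ 2 * b ^ 2 ≠ b ^ 2 * a ^ 2 := by
  have h1 : Equiv.swap (0 : Fin 4) 1 * Equiv.swap 1 2 ∈ alternatingGroup (Fin 4) := by
    rw [Equiv.Perm.mem_alternatingGroup, Equiv.Perm.sign_mul, Equiv.Perm.sign_swap (by decide),
      Equiv.Perm.sign_swap (by decide)]
    rfl
  have h2 : Equiv.swap (0 : Fin 4) 1 * Equiv.swap 1 3 ∈ alternatingGroup (Fin 4) := by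
    rw [Equiv.Perm.mem_alternatingGroup, Equiv.Perm.sign_mul, Equiv.Perm.sign_swap (by decide),
      Equiv.Perm.sign_swap (by decide)]
    rfl
  refine ⟨⟨_, h1⟩, ⟨_, h2⟩, ?_⟩
  intro h
  have h' := congrArg Subtype.val h
  simp only [Subgroup.coe_mul, Subgroup.coe_pow] at h'
  revert h'
  decide

/-- Over the prime field: a subgroup `H` of `PSL(2, p)` of order prime to `p` containing two
elements whose squares do not commute is maximal, as soon as it has no proper overgroup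
isomorphic to `A₄`, `S₄` or `A₅`. -/
theorem psl2_prime_coatom_h9 {F : Type*} [Field F] [Fintype F] (p : ℕ) [hp : Fact p.Prime]
    (hF : Fintype.card F = p) (H : Subgroup (Matrix.ProjectiveSpecialLinearGroup (Fin 2) F))
    (htop : H ≠ ⊤) (hpH : ¬ p ∣ Nat.card H)
    (a b : Matrix.ProjectiveSpecialLinearGroup (Fin 2) F) (ha : a ∈ H) (hb : b ∈ H)
    (hab : a ^ 2 * b ^ 2 ≠ b ^ 2 * a ^ 2)
    (h4 : ∀ M : Subgroup (Matrix.ProjectiveSpecialLinearGroup (Fin 2) F), H < M → M ≠ ⊤ →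
      Nonempty (M ≃* alternatingGroup (Fin 4)) → False)
    (h4' : ∀ M : Subgroup (Matrix.ProjectiveSpecialLinearGroup (Fin 2) F), H < M → M ≠ ⊤ →
      Nonempty (M ≃* Equiv.Perm (Fin 4)) → False)
    (h5 : ∀ M : Subgroup (Matrix.ProjectiveSpecialLinearGroup (Fin 2) F), H < M → M ≠ ⊤ →
      Nonempty (M ≃* alternatingGroup (Fin 5)) → False) : IsCoatom H := by
  refine ⟨htop, fun M hHM => ?_⟩
  by_contra hM
  have ha2 : a ^ 2 ∈ H := H.pow_mem ha 2
  have hb2 : b ^ 2 ∈ H := H.pow_mem hb 2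
  by_cases hpM : p ∣ Nat.card M
  · exact hab (psl2_prime_over_h9 p hF M hpM hM H hHM.le hpH _ ha2 _ hb2)
  · haveI := charP_of_card_eq_prime hF
    rcases psl2_pprime_h9 M hpM with hc | ⟨k, -, ⟨e⟩⟩ | h | h | h
    · letI := IsCyclic.commGroup (α := M)
      have h1 := mul_comm (⟨a ^ 2, hHM.le ha2⟩ : M) ⟨b ^ 2, hHM.le hb2⟩
      exact hab (congrArg Subtype.val h1)
    · have h1 : (⟨a, hHM.le ha⟩ : M) ^ 2 * (⟨b, hHM.le hb⟩ : M) ^ 2
          = (⟨b, hHM.le hb⟩ : M) ^ 2 * (⟨a, hHM.le ha⟩ : M) ^ 2 := by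
        apply e.injective
        rw [map_mul, map_mul, map_pow, map_pow]
        exact dihedral_sq_comm_h9 k _ _
      exact hab (congrArg Subtype.val h1)
    · exact h4 M hHM hM h
    · exact h4' M hHM hM h
    · exact h5 M hHM hM h

theorem card_perm4_h9 : Nat.card (Equiv.Perm (Fin 4)) = 24 := by
  rw [Nat.card_eq_fintype_card, Fintype.card_perm, Fintype.card_fin]; rfl

theorem card_alt4_h9 : Nat.card (alternatingGroup (Fin 4)) = 12 := by
  have := two_mul_card_alternatingGroup (α := Fin 4)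
  rw [Fintype.card_perm] at this
  rw [Nat.card_eq_fintype_card]
  have h24 : (Fintype.card (Fin 4)).factorial = 24 := by simp [Nat.factorial]
  rw [h24] at this
  omega

end Cfsg.Agent.Helper9
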