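import Mathlib
import Cfsg.Agent.Helper9.Dk6
import Cfsg.Agent.Helper9.Ico8
import Cfsg.Agent.Helper9.Prime3

/-!
# Dickson: small unipotent classes and overgroups of subfield subgroups (helper9)
-/

set_option autoImplicit false
open scoped MatrixGroups

namespace Cfsg.Agent.Helper9

theorem dihedral_odd_comm_h9 (k : ℕ) (x y : DihedralGroup k) (hx : x ^ 3 = 1) :
    y * x * y⁻¹ * x = x * (y * x * y⁻¹) := by
  cases x with
  | r i =>
    cases y with
    | r j => simp [add_comm]
    | sr j => simp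
  | sr i =>
    exfalso
    have h3 : (DihedralGroup.sr i) ^ 3 = DihedralGroup.sr i := by
      rw [pow_succ, pow_succ, pow_one, DihedralGroup.sr_mul_sr, sub_self, ← DihedralGroup.one_def,
        one_mul]
    rw [h3, DihedralGroup.one_def] at hx
    cases hx

section

variable {F : Type*} [Field F] [Fintype F] {p : ℕ} [hp : Fact p.Prime] [hc : CharP F p]
  (H : Subgroup (Matrix.ProjectiveSpecialLinearGroup (Fin 2) F))

include hp hc in
/-- the order of a unipotent class is the `p`-part of the order. -/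
theorem psl2Tau_card_unip_h9 (u : H) (hu : u ≠ 1)
    (hng : ¬ sl2Good_h9 (Quotient.out u.1 : SL(2, F))) :
    Nat.card (psl2Tau_h9 H u) = p ^ (Nat.card H).factorization p :=
  Sylow.card_eq_multiplicity (psl2TauSylow_h9 (p := p) H u hu hng)

include hp hc in
theorem psl2Small_cyc_h9 (hsmall : p ^ (Nat.card H).factorization p ≤ 3) (y : H) (hy : y ≠ 1) :
    IsCyclic (psl2Tau_h9 H y) := by
  by_cases gy : sl2Good_h9 (Quotient.out y.1 : SL(2, F))
  · exact psl2Tau_cyc_good_h9 H y gy
  · have hcard := psl2Tau_card_unip_h9 (p := p) H y hy gy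
    have h2 : 1 < Nat.card (psl2Tau_h9 H y) := by
      rw [Subgroup.one_lt_card_iff_ne_bot]
      intro hbot
      have hm : y ∈ psl2Tau_h9 H y := (psl2MPart_h9 H).h_mem y
      rw [hbot, Subgroup.mem_bot] at hm
      exact hy hm
    have h3 : Nat.card (psl2Tau_h9 H y) ≤ 3 := by rw [hcard]; exact hsmall
    have hpr : (Nat.card (psl2Tau_h9 H y)).Prime := by
      interval_cases (Nat.card (psl2Tau_h9 H y)) <;> norm_num
    have := Fact.mk hpr
    exact isCyclic_of_prime_card rfl

include hp hc in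
theorem psl2Small_norm_h9 (hsmall : p ^ (Nat.card H).factorization p ≤ 3) (y : H) (hy : y ≠ 1) :
    Nat.card (Subgroup.normalizer (psl2Tau_h9 H y : Set H)) ≤ 2 * Nat.card (psl2Tau_h9 H y) := by
  by_cases gy : sl2Good_h9 (Quotient.out y.1 : SL(2, F))
  · exact psl2Tau_norm_good_h9 H y gy
  · have hcard := psl2Tau_card_unip_h9 (p := p) H y hy gy
    have h3 : Nat.card (psl2Tau_h9 H y) ≤ 3 := by rw [hcard]; exact hsmall
    have h := (psl2MPart_h9 H).card_normalizer_le hy (psl2_hC_h9 H y gy)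
    have e : (psl2MPart_h9 H).τ y = psl2Tau_h9 H y := rfl
    rw [e] at h
    refine h.trans ?_
    rw [mul_comm]
    exact Nat.mul_le_mul_right _ (by omega)

/-- the partition of a subgroup whose Sylow `p`-subgroups have order at most `3`. -/
def psl2SmallKPart_h9 (hsmall : p ^ (Nat.card H).factorization p ≤ 3) : KPart_h9 H where
  τ := psl2Tau_h9 H
  h_mem := (psl2MPart_h9 H).h_mem
  h_cyc := psl2Small_cyc_h9 (p := p) H hsmall
  h_part := (psl2MPart_h9 H).h_part
  h_conj := (psl2MPart_h9 H).h_conj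
  h_norm := psl2Small_norm_h9 (p := p) H hsmall

include hp hc in
theorem psl2_small_h9 (hsmall : p ^ (Nat.card H).factorization p ≤ 3) :
    IsCyclic H ∨ (∃ k : ℕ, Nat.card H = 2 * k ∧ Nonempty (H ≃* DihedralGroup k)) ∨
    Nonempty (H ≃* alternatingGroup (Fin 4)) ∨ Nonempty (H ≃* Equiv.Perm (Fin 4)) ∨
    Nonempty (H ≃* alternatingGroup (Fin 5)) := by
  rcases (psl2SmallKPart_h9 (p := p) H hsmall).classify with h | ⟨y, -, hc, hd⟩ | h | h | h
  · exact Or.inl ((psl2SmallKPart_h9 (p := p) H hsmall).cyclic_of_first h)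
  · exact Or.inr (Or.inl ⟨_, hc, hd⟩)
  · exact Or.inr (Or.inr (Or.inl h))
  · exact Or.inr (Or.inr (Or.inr (Or.inl h)))
  · exact Or.inr (Or.inr (Or.inr (Or.inr h)))

include hp hc in
/-- small Sylow `3`-subgroups, not `3`-closed: order `12`, `24` or `60`. -/
theorem psl2_small3_h9 (hsmall : p ^ (Nat.card H).factorization p ≤ 3) (u g : H)
    (hu3 : u ^ 3 = 1) (hgu : g * u * g⁻¹ * u ≠ u * (g * u * g⁻¹)) :
    Nonempty (H ≃* alternatingGroup (Fin 4)) ∨ Nonempty (H ≃* Equiv.Perm (Fin 4)) ∨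
    Nonempty (H ≃* alternatingGroup (Fin 5)) := by
  rcases psl2_small_h9 (p := p) H hsmall with h | ⟨k, -, ⟨e⟩⟩ | h | h | h
  · exfalso
    obtain ⟨z, hz⟩ := IsCyclic.exists_generator (α := H)
    obtain ⟨a, ha⟩ := Subgroup.mem_zpowers_iff.mp (hz (g * u * g⁻¹))
    obtain ⟨b, hb⟩ := Subgroup.mem_zpowers_iff.mp (hz u)
    apply hgu
    rw [← ha, ← hb, ← zpow_add, ← zpow_add, add_comm]
  · exfalso
    apply hgu
    apply e.injective
    have h3 : e u ^ 3 = 1 := by rw [← map_pow, hu3, map_one]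
    have := dihedral_odd_comm_h9 k (e u) (e g) h3
    simpa using this
  · exact Or.inl h
  · exact Or.inr (Or.inl h)
  · exact Or.inr (Or.inr h)

end

end Cfsg.Agent.Helper9
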