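import Mathlib
import Cfsg.Agent.Helper9.Dk7
import Cfsg.Agent.Helper9.Sub3

/-!
# Dickson: overgroups of subfield subgroups in standard position (helper9)
-/

set_option autoImplicit false
open scoped MatrixGroups

namespace Cfsg.Agent.Helper9

theorem sl2_map_E_h9 {K F : Type*} [Field K] [Field F] (f : K →+* F) (a : K) :
    Matrix.SpecialLinearGroup.map f (sl2E_h9 a) = sl2E_h9 (f a) := by
  obtain ⟨e00, e01, e10, e11⟩ := sl2E_entries_h9 a
  obtain ⟨f00, f01, f10, f11⟩ := sl2E_entries_h9 (f a)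
  apply sl2_ext_h9
  · rw [sl2_map_entry_h9, e00, f00, map_one]
  · rw [sl2_map_entry_h9, e01, f01]
  · rw [sl2_map_entry_h9, e10, f10, map_zero]
  · rw [sl2_map_entry_h9, e11, f11, map_one]

theorem sl2_map_L_h9 {K F : Type*} [Field K] [Field F] (f : K →+* F) (a : K) :
    Matrix.SpecialLinearGroup.map f (sl2L_h9 a) = sl2L_h9 (f a) := by
  obtain ⟨e00, e01, e10, e11⟩ := sl2L_entries_h9 a
  obtain ⟨f00, f01, f10, f11⟩ := sl2L_entries_h9 (f a)
  apply sl2_ext_h9
  · rw [sl2_map_entry_h9, e00, f00, map_one]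
  · rw [sl2_map_entry_h9, e01, f01, map_zero]
  · rw [sl2_map_entry_h9, e10, f10]
  · rw [sl2_map_entry_h9, e11, f11, map_one]

/-- the subfield subgroup homomorphism `SL(2, K) → PSL(2, F)`. -/
def psl2SubHom_h9 {K F : Type*} [Field K] [Field F] (f : K →+* F) :
    SL(2, K) →* Matrix.ProjectiveSpecialLinearGroup (Fin 2) F :=
  (QuotientGroup.mk' (Subgroup.center SL(2, F))).comp (Matrix.SpecialLinearGroup.map f)

theorem psl2SubHom_apply_h9 {K F : Type*} [Field K] [Field F] (f : K →+* F) (x : SL(2, K)) :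
    psl2SubHom_h9 f x = (QuotientGroup.mk (Matrix.SpecialLinearGroup.map f x) :
      Matrix.ProjectiveSpecialLinearGroup (Fin 2) F) := rfl

theorem psl2SubHom_ker_h9 {K F : Type*} [Field K] [Field F] (f : K →+* F) :
    (psl2SubHom_h9 f).ker = Subgroup.center SL(2, K) := by
  have hinj := sl2_map_injective_h9 f f.injective
  ext x
  rw [MonoidHom.mem_ker, sl2_center_h9, psl2SubHom_apply_h9]
  rw [show (1 : Matrix.ProjectiveSpecialLinearGroup (Fin 2) F) = QuotientGroup.mk (1 : SL(2, F))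
    from rfl, psl2_mk_eq_iff_h9]
  constructor
  · rintro (h | h)
    · left; apply hinj; rw [h, map_one]
    · right; apply hinj; rw [h, sl2_map_neg_one_h9]
  · rintro (rfl | rfl)
    · left; rw [map_one]
    · right; rw [sl2_map_neg_one_h9]

theorem psl2Sub_equiv_h9 {K F : Type*} [Field K] [Field F] (f : K →+* F) :
    Nonempty ((psl2SubHom_h9 f).range ≃* Matrix.ProjectiveSpecialLinearGroup (Fin 2) K) :=
  ⟨(QuotientGroup.quotientKerEquivRange (psl2SubHom_h9 f)).symm.trans
    (QuotientGroup.quotientMulEquivOfEq (psl2SubHom_ker_h9 f))⟩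

/-- the `PGL(2, K)` subgroup of `PSL(2, F)`. -/
def pgl2Sub_h9 {K F : Type*} [Field K] [Field F] (f : K →+* F) :
    Subgroup (Matrix.ProjectiveSpecialLinearGroup (Fin 2) F) :=
  (Matrix.ProjGenLinGroup.mk.comp (Matrix.GeneralLinearGroup.map f)).range.comap
    (Matrix.ProjectiveSpecialLinearGroup.toPGL (n := Fin 2) (R := F))

theorem psl2Sub_le_pgl2Sub_h9 {K F : Type*} [Field K] [Field F] (f : K →+* F) (x : SL(2, K)) :
    (QuotientGroup.mk (Matrix.SpecialLinearGroup.map f x) :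
      Matrix.ProjectiveSpecialLinearGroup (Fin 2) F) ∈ pgl2Sub_h9 f := by
  show Matrix.ProjectiveSpecialLinearGroup.toPGL (n := Fin 2) (R := F)
    (QuotientGroup.mk (Matrix.SpecialLinearGroup.map f x)) ∈
      (Matrix.ProjGenLinGroup.mk.comp (Matrix.GeneralLinearGroup.map f)).range
  refine ⟨Matrix.SpecialLinearGroup.toGL x, ?_⟩
  show Matrix.ProjGenLinGroup.mk (Matrix.GeneralLinearGroup.map f (Matrix.SpecialLinearGroup.toGL x))
    = Matrix.ProjGenLinGroup.mk (Matrix.SpecialLinearGroup.toGL (Matrix.SpecialLinearGroup.map f x))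
  congr 1
  apply Units.ext
  rfl

theorem pgl2Sub_equiv_h9 {K F : Type*} [Field K] [Field F] (f : K →+* F)
    (hsq : ∀ a : K, IsSquare (f a)) :
    Nonempty (pgl2Sub_h9 f ≃* Matrix.ProjGenLinGroup (Fin 2) K) := by
  let ψ : GL (Fin 2) K →* Matrix.ProjGenLinGroup (Fin 2) F :=
    Matrix.ProjGenLinGroup.mk.comp (Matrix.GeneralLinearGroup.map f)
  have hker : ψ.ker = Subgroup.center (GL (Fin 2) K) := by
    ext g
    rw [MonoidHom.mem_ker]
    change Matrix.ProjGenLinGroup.mk (Matrix.GeneralLinearGroup.map f g) = 1 ↔ _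
    rw [Matrix.ProjGenLinGroup.mk_eq_one,
      Matrix.GeneralLinearGroup.mem_center_iff_val_mem_range_scalar,
      Matrix.GeneralLinearGroup.mem_center_iff_val_mem_range_scalar]
    have hent : ∀ i j, (Matrix.GeneralLinearGroup.map f g).1 i j = f (g.1 i j) := fun i j => rfl
    constructor
    · rintro ⟨a, ha⟩
      have e := fun i j => (congrFun (congrFun ha i) j).trans (hent i j)
      have e00 := e 0 0
      have e01 := e 0 1
      have e10 := e 1 0
      have e11 := e 1 1
      simp only [Matrix.scalar_apply, Matrix.diagonal_apply] at e00 e01 e10 e11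
      simp at e00 e01 e10 e11
      refine ⟨g.1 0 0, ?_⟩
      ext i j
      fin_cases i <;> fin_cases j
      · simp
      · simp
        exact (f.injective (by rw [← e01, map_zero])).symm
      · simp
        exact (f.injective (by rw [← e10, map_zero])).symm
      · simp
        exact f.injective (by rw [← e00, ← e11])
    · rintro ⟨b, hb⟩
      refine ⟨f b, ?_⟩
      ext i j
      rw [hent, ← hb]
      fin_cases i <;> fin_cases j <;> simp
  have hrange : ψ.range ≤ (Matrix.ProjectiveSpecialLinearGroup.toPGL (n := Fin 2) (R := F)).range := by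
    rintro _ ⟨g, rfl⟩
    obtain ⟨s, hs⟩ := hsq g.det
    have hdet : (Matrix.GeneralLinearGroup.map f g).1.det = f g.det := by
      change (f.mapMatrix g.1).det = f g.1.det
      rw [RingHom.map_det]
    have hs0 : s ≠ 0 := by
      rintro rfl
      rw [mul_zero] at hs
      have := f.injective (hs.trans (map_zero f).symm)
      exact g.det.ne_zero this
    let h : SL(2, F) := ⟨s⁻¹ • (Matrix.GeneralLinearGroup.map f g).1, by
      rw [Matrix.det_smul, Fintype.card_fin, hdet, hs]; field_simp⟩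
    refine ⟨QuotientGroup.mk h, ?_⟩
    change Matrix.ProjGenLinGroup.mk (Matrix.SpecialLinearGroup.toGL h) =
      Matrix.ProjGenLinGroup.mk (Matrix.GeneralLinearGroup.map f g)
    rw [Matrix.ProjGenLinGroup.mk_eq_mk_iff]
    refine ⟨Units.mk0 s hs0, ?_⟩
    apply Units.ext
    rw [Units.val_mul, Matrix.GeneralLinearGroup.coe_scalar]
    change (s⁻¹ • (Matrix.GeneralLinearGroup.map f g).1) * Matrix.scalar (Fin 2) s = _
    have hM : ∀ i j, (s⁻¹ • (Matrix.GeneralLinearGroup.map f g).1) i j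
        = s⁻¹ * (Matrix.GeneralLinearGroup.map f g).1 i j := fun i j => rfl
    ext i j
    rw [Matrix.mul_apply, Fin.sum_univ_two, hM, hM]
    fin_cases i <;> fin_cases j <;> simp [Matrix.scalar_apply, Matrix.diagonal_apply] <;>
      field_simp
  have hι := Matrix.ProjectiveSpecialLinearGroup.toPGL_injective (n := Fin 2) (R := F)
  have e1 : (ψ.range.comap (Matrix.ProjectiveSpecialLinearGroup.toPGL (n := Fin 2) (R := F))) ≃*
      (ψ.range.comap (Matrix.ProjectiveSpecialLinearGroup.toPGL (n := Fin 2) (R := F))).map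
        (Matrix.ProjectiveSpecialLinearGroup.toPGL (n := Fin 2) (R := F)) :=
    Subgroup.equivMapOfInjective _ _ hι
  have e2 : (ψ.range.comap (Matrix.ProjectiveSpecialLinearGroup.toPGL (n := Fin 2) (R := F))).map
      (Matrix.ProjectiveSpecialLinearGroup.toPGL (n := Fin 2) (R := F)) = ψ.range := by
    rw [Subgroup.map_comap_eq]
    exact inf_eq_right.mpr hrange
  exact ⟨(e1.trans ((MulEquiv.subgroupCongr e2).trans
    (QuotientGroup.quotientKerEquivRange ψ).symm)).trans (QuotientGroup.quotientMulEquivOfEq hker)⟩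

section

variable {F : Type*} [Field F] [Fintype F] {p : ℕ} [hp : Fact p.Prime] [hc : CharP F p]
  (M : Subgroup (Matrix.ProjectiveSpecialLinearGroup (Fin 2) F))
  (hE : (QuotientGroup.mk (sl2E_h9 (1 : F)) : Matrix.ProjectiveSpecialLinearGroup (Fin 2) F) ∈ M)

include hp hc in
/-- a non upper triangular element witnesses that the unipotent class is not normal. -/
theorem np_witness_h9 (g : M) (hg : (Quotient.out g.1 : SL(2, F)).1 1 0 ≠ 0) :
    g * ⟨QuotientGroup.mk (sl2E_h9 (1 : F)), hE⟩ * g⁻¹ * ⟨QuotientGroup.mk (sl2E_h9 (1 : F)), hE⟩ ≠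
      ⟨QuotientGroup.mk (sl2E_h9 (1 : F)), hE⟩ *
        (g * ⟨QuotientGroup.mk (sl2E_h9 (1 : F)), hE⟩ * g⁻¹) := by
  intro h
  have hmem := psl2_hC_h9 M ⟨_, hE⟩ (npU_not_good_h9 (p := p) (1 : F)) _ h
  rw [np_mem_tau_h9 M 1 one_ne_zero hE] at hmem
  have h0 : (Quotient.out (g * ⟨QuotientGroup.mk (sl2E_h9 (1 : F)), hE⟩ * g⁻¹ : M).1 : SL(2, F))
        = Quotient.out g.1 * sl2E_h9 1 * (Quotient.out g.1)⁻¹ ∨
      (Quotient.out (g * ⟨QuotientGroup.mk (sl2E_h9 (1 : F)), hE⟩ * g⁻¹ : M).1 : SL(2, F))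
        = -(Quotient.out g.1 * sl2E_h9 1 * (Quotient.out g.1)⁻¹) := by
    apply (psl2_mk_eq_iff_h9 _ _).mp
    rw [QuotientGroup.out_eq', QuotientGroup.mk_mul, QuotientGroup.mk_mul, QuotientGroup.mk_inv,
      QuotientGroup.out_eq']
    rfl
  have e := sl2_conj_E_10_h9 (Quotient.out g.1 : SL(2, F)) (1 : F)
  have hc2 : (Quotient.out g.1 : SL(2, F)).1 1 0 ^ 2 ≠ 0 := pow_ne_zero 2 hg
  rcases h0 with hc' | hc'
  · rw [hc', e] at hmem
    apply hc2
    linear_combination -hmem.1
  · rw [hc', (sl2_neg_entries_h9 _).2.2.1, e] at hmem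
    apply hc2
    linear_combination hmem.1

include hp hc hE in
/-- overgroups (in standard position) of a subfield subgroup. -/
theorem np_over_h9 (g₀ : M) (hg₀ : (Quotient.out g₀.1 : SL(2, F)).1 0 0 = 0)
    {K : Type*} [Field K] [Fintype K] (f : K →+* F)
    (hf : ∀ a : K, (QuotientGroup.mk (sl2E_h9 (f a)) :
      Matrix.ProjectiveSpecialLinearGroup (Fin 2) F) ∈ M) :
    Fintype.card K ≤ p ^ (Nat.card M).factorization p ∧
    (p ^ (Nat.card M).factorization p ≤ 3 ∨
     ∃ q₁ k j r : ℕ, 4 ≤ q₁ ∧ Nat.card M = (q₁ + 1) * (q₁ * k) ∧ 2 ≤ k ∧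
       (k = q₁ - 1 ∨ 2 * k = q₁ - 1) ∧ q₁ = Fintype.card K ^ j ∧ Fintype.card F = q₁ ^ r) := by
  obtain ⟨q₁, hq₁⟩ : ∃ q₁, Nat.card (psl2Tau_h9 M ⟨QuotientGroup.mk (sl2E_h9 (1 : F)), hE⟩) = q₁ :=
    ⟨_, rfl⟩
  have hfact := psl2Tau_card_unip_h9 (p := p) M ⟨_, hE⟩ (npU_ne_one_h9 M 1 one_ne_zero hE)
    (npU_not_good_h9 (p := p) (1 : F))
  rw [hq₁] at hfact
  have hA : Nat.card (npA_h9 M) = q₁ := by rw [np_card_A_h9 M hE, hq₁]
  constructor
  · rw [← hfact, ← hA, ← Nat.card_eq_fintype_card]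
    apply Nat.card_le_card_of_injective (fun a : K => (⟨f a, hf a⟩ : npA_h9 M))
    intro a b hab
    exact f.injective (congrArg Subtype.val hab)
  by_cases h4 : 4 ≤ q₁
  · right
    obtain ⟨k, hcard, hk2, hkq, hS, hEL, hES, -, -⟩ := np3_struct_h9 (p := p) M hE g₀ hg₀ q₁ hq₁ h4
    let f' : K →+* npS_h9 M := f.codRestrict (npS_h9 M) (fun a => hES (f a) (hf a))
    let _ : Algebra K (npS_h9 M) := f'.toAlgebra
    have : Fintype (npS_h9 M) := Fintype.ofFinite _
    have h1 : Fintype.card (npS_h9 M) = Fintype.card K ^ Module.finrank K (npS_h9 M) :=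
      Module.card_eq_pow_finrank
    have h2 : Fintype.card F = Fintype.card (npS_h9 M) ^ Module.finrank (npS_h9 M) F :=
      Module.card_eq_pow_finrank
    refine ⟨q₁, k, Module.finrank K (npS_h9 M), Module.finrank (npS_h9 M) F, h4, hcard, hk2, hkq,
      ?_, ?_⟩
    · rw [← hS, Nat.card_eq_fintype_card]; exact h1
    · rw [← hS, Nat.card_eq_fintype_card]; exact h2
  · left
    rw [← hfact]
    omega

end

end Cfsg.Agent.Helper9
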