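import Mathlib
import Cfsg.Agent.Helper9.Dk8

/-!
# Dickson: the overgroup theorem for subfield subgroups (helper9)
-/

set_option autoImplicit false
open scoped MatrixGroups

namespace Cfsg.Agent.Helper9

theorem psl2_card_even_h9 {F : Type*} [Field F] [Fintype F] (heven : Fintype.card F % 2 = 0) :
    ∃ r : ℕ, Fintype.card F = r + 1 ∧
      Nat.card (Matrix.ProjectiveSpecialLinearGroup (Fin 2) F) = r * (r + 1) * (r + 2) := by
  have h1 : 1 < Fintype.card F := Fintype.one_lt_card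
  obtain ⟨r, hr⟩ : ∃ r, Fintype.card F = r + 1 := ⟨Fintype.card F - 1, by omega⟩
  refine ⟨r, hr, ?_⟩
  have h := Cfsg.Agent.S0243.result (F := F) (q := r + 1) hr 2 (le_refl 2)
  rw [Fin.prod_univ_two] at h
  simp only [Fin.val_zero, Fin.val_one, pow_zero, pow_one, Nat.add_sub_cancel] at h
  have hg : Nat.gcd 2 r = 1 := by
    have hodd : r % 2 = 1 := by omega
    exact (Nat.Prime.coprime_iff_not_dvd Nat.prime_two).mpr (by omega)
  rw [hg, one_mul] at h
  have e1 : (r + 1) ^ 2 - 1 = r * (r + 2) := by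
    have : (r + 1) ^ 2 = r * (r + 2) + 1 := by ring
    omega
  have e2 : (r + 1) ^ 2 - (r + 1) = (r + 1) * r := by
    have : (r + 1) ^ 2 = (r + 1) * r + (r + 1) := by ring
    omega
  rw [e1, e2] at h
  have hr0 : 0 < r := by omega
  have h' : r * Nat.card (Matrix.ProjectiveSpecialLinearGroup (Fin 2) F)
      = r * (r * (r + 1) * (r + 2)) := by
    rw [h]; ring
  exact Nat.eq_of_mul_eq_mul_left hr0 h'

/-- a subgroup containing the subfield subgroup is in standard position. -/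
theorem sub_std_h9 {K F : Type*} [Field K] [Field F] (f : K →+* F)
    (M : Subgroup (Matrix.ProjectiveSpecialLinearGroup (Fin 2) F))
    (hM : ∀ x : SL(2, K), (QuotientGroup.mk (Matrix.SpecialLinearGroup.map f x) :
      Matrix.ProjectiveSpecialLinearGroup (Fin 2) F) ∈ M) :
    (QuotientGroup.mk (sl2E_h9 (1 : F)) : Matrix.ProjectiveSpecialLinearGroup (Fin 2) F) ∈ M ∧
    (∀ a : K, (QuotientGroup.mk (sl2E_h9 (f a)) :
      Matrix.ProjectiveSpecialLinearGroup (Fin 2) F) ∈ M) ∧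
    ∃ g₀ : M, (Quotient.out g₀.1 : SL(2, F)).1 0 0 = 0 ∧ (Quotient.out g₀.1 : SL(2, F)).1 1 0 ≠ 0 := by
  have hf : ∀ a : K, (QuotientGroup.mk (sl2E_h9 (f a)) :
      Matrix.ProjectiveSpecialLinearGroup (Fin 2) F) ∈ M := by
    intro a
    rw [← sl2_map_E_h9]
    exact hM _
  refine ⟨?_, hf, ?_⟩
  · have := hf 1
    rwa [map_one] at this
  · refine ⟨⟨_, hM (sl2J_h9 K)⟩, ?_⟩
    obtain ⟨j00, j01, j10, j11⟩ := sl2J_entries_h9 K
    have e00 : (Matrix.SpecialLinearGroup.map f (sl2J_h9 K)).1 0 0 = 0 := by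
      rw [sl2_map_entry_h9, j00, map_zero]
    have e10 : (Matrix.SpecialLinearGroup.map f (sl2J_h9 K)).1 1 0 = 1 := by
      rw [sl2_map_entry_h9, j10, map_one]
    rcases psl2_out_mk_h9 (Matrix.SpecialLinearGroup.map f (sl2J_h9 K)) with h | h
    · show (Quotient.out (QuotientGroup.mk (Matrix.SpecialLinearGroup.map f (sl2J_h9 K)) :
        Matrix.ProjectiveSpecialLinearGroup (Fin 2) F) : SL(2, F)).1 0 0 = 0 ∧
        (Quotient.out (QuotientGroup.mk (Matrix.SpecialLinearGroup.map f (sl2J_h9 K)) :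
        Matrix.ProjectiveSpecialLinearGroup (Fin 2) F) : SL(2, F)).1 1 0 ≠ 0
      rw [h, e00, e10]
      exact ⟨rfl, one_ne_zero⟩
    · show (Quotient.out (QuotientGroup.mk (Matrix.SpecialLinearGroup.map f (sl2J_h9 K)) :
        Matrix.ProjectiveSpecialLinearGroup (Fin 2) F) : SL(2, F)).1 0 0 = 0 ∧
        (Quotient.out (QuotientGroup.mk (Matrix.SpecialLinearGroup.map f (sl2J_h9 K)) :
        Matrix.ProjectiveSpecialLinearGroup (Fin 2) F) : SL(2, F)).1 1 0 ≠ 0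
      rw [h, (sl2_neg_entries_h9 _).1, (sl2_neg_entries_h9 _).2.2.1, e00, e10]
      exact ⟨neg_zero, neg_ne_zero.mpr one_ne_zero⟩

/-- **overgroups of subfield subgroups**. -/
theorem sub_over_h9 {K F : Type*} [Field K] [Fintype K] [Field F] [Fintype F] {p : ℕ}
    [hp : Fact p.Prime] [hc : CharP F p] (f : K →+* F)
    (M : Subgroup (Matrix.ProjectiveSpecialLinearGroup (Fin 2) F))
    (hM : ∀ x : SL(2, K), (QuotientGroup.mk (Matrix.SpecialLinearGroup.map f x) :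
      Matrix.ProjectiveSpecialLinearGroup (Fin 2) F) ∈ M) :
    (Fintype.card K ≤ 3 ∧ ((3 : F) = 0 → Nonempty (M ≃* alternatingGroup (Fin 4)) ∨
      Nonempty (M ≃* Equiv.Perm (Fin 4)) ∨ Nonempty (M ≃* alternatingGroup (Fin 5)))) ∨
    ∃ q₁ k j r : ℕ, 4 ≤ q₁ ∧ Nat.card M = (q₁ + 1) * (q₁ * k) ∧ 2 ≤ k ∧
      (k = q₁ - 1 ∨ 2 * k = q₁ - 1) ∧ q₁ = Fintype.card K ^ j ∧ Fintype.card F = q₁ ^ r := by
  obtain ⟨hE, hf, g₀, hg₀, hg10⟩ := sub_std_h9 f M hM
  obtain ⟨hle, hsmall | hB⟩ := np_over_h9 (p := p) M hE g₀ hg₀ f hf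
  · left
    refine ⟨hle.trans hsmall, fun h3 => ?_⟩
    refine psl2_small3_h9 (p := p) M hsmall ⟨_, hE⟩ g₀ ?_ (np_witness_h9 (p := p) M hE g₀ hg10)
    apply Subtype.ext
    rw [Subgroup.coe_pow]
    show (QuotientGroup.mk (sl2E_h9 (1 : F)) : Matrix.ProjectiveSpecialLinearGroup (Fin 2) F) ^ 3 = 1
    rw [← QuotientGroup.mk_pow, sl2E_pow_h9, Nat.cast_ofNat, h3, zero_mul, sl2E_zero_h9]
    rfl
  · right
    exact hB

end Cfsg.Agent.Helper9
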