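import Mathlib
import Cfsg.Agent.Helper9.Dk9

/-!
# Dickson: numerics for subfield subgroups (helper9)
-/

set_option autoImplicit false
open scoped MatrixGroups

namespace Cfsg.Agent.Helper9

/-- for `r` odd and `c` even, `R (R + 2) = S c (c + 2)` with `S` odd, where `R + 1 = (c + 1) ^ r`. -/
theorem odd_geom_h9 (c r R : ℕ) (hc : c % 2 = 0) (hr : r % 2 = 1) (hR : R + 1 = (c + 1) ^ r) :
    ∃ S, S % 2 = 1 ∧ R * (R + 2) = S * (c * (c + 2)) := by
  refine ⟨∑ i ∈ Finset.range r, (c * (c + 2) + 1) ^ i, ?_, ?_⟩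
  · rw [Finset.sum_nat_mod]
    have h1 : ∀ i ∈ Finset.range r, (c * (c + 2) + 1) ^ i % 2 = 1 := by
      intro i _
      rw [Nat.pow_mod]
      have h2 : (c * (c + 2) + 1) % 2 = 1 := by
        rw [Nat.add_mod, Nat.mul_mod, hc]; norm_num
      rw [h2, one_pow]
      rfl
    rw [Finset.sum_congr rfl h1, Finset.sum_const, Finset.card_range, smul_eq_mul, mul_one]
    exact hr
  · have h := geom_sum_mul_add (c * (c + 2)) r
    have h2 : (c * (c + 2) + 1) ^ r = (R + 1) ^ 2 := by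
      rw [hR, ← pow_mul, mul_comm r 2, pow_mul]; congr 1; ring
    rw [h2] at h
    have h3 : (R + 1) ^ 2 = R * (R + 2) + 1 := by ring
    omega

theorem three_pow_odd_h9 (r : ℕ) (hr : r % 2 = 1) : 3 ^ r % 80 = 3 ∨ 3 ^ r % 80 = 27 := by
  obtain ⟨t, rfl⟩ : ∃ t, r = 2 * t + 1 := ⟨r / 2, by omega⟩
  have h9 : ∀ t : ℕ, 9 ^ t % 80 = 1 ∨ 9 ^ t % 80 = 9 := by
    intro t
    induction t with
    | zero => left; rfl
    | succ n ih =>
      rw [pow_succ, Nat.mul_mod]
      rcases ih with h | h <;> rw [h] <;> simp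
  rw [pow_succ, pow_mul, Nat.mul_mod, show (3 : ℕ) ^ 2 = 9 from rfl]
  rcases h9 t with h | h <;> rw [h] <;> simp

theorem psl2_three_card_h9 (R r : ℕ) (hr : r % 2 = 1) (hR : R + 1 = 3 ^ r) :
    (R * (R + 1) * (R + 2)) % 80 = 24 ∨ (R * (R + 1) * (R + 2)) % 80 = 56 := by
  rcases three_pow_odd_h9 r hr with h | h
  · left
    rw [← hR] at h
    have hm : R ≡ 2 [MOD 80] := by
      show R % 80 = 2 % 80
      omega
    exact (hm.mul (hm.add_right 1)).mul (hm.add_right 2)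
  · right
    rw [← hR] at h
    have hm : R ≡ 26 [MOD 80] := by
      show R % 80 = 26 % 80
      omega
    exact (hm.mul (hm.add_right 1)).mul (hm.add_right 2)

end Cfsg.Agent.Helper9
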