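import Mathlib
import Cfsg.Agent.Helper9.Dk10
import Cfsg.Agent.Helper9.Prime2

/-!
# Dickson: normalizing a subgroup by an automorphism of `PSL(2, F)` (helper9)
-/

set_option autoImplicit false
open scoped MatrixGroups

namespace Cfsg.Agent.Helper9

section

variable {F : Type*} [Field F] [Finite F]

/-- conjugation by an invertible matrix, as an automorphism of `SL(2, F)`. -/
noncomputable def sl2ConjMEquiv_h9 (A B : Matrix (Fin 2) (Fin 2) F) (h1 : A * B = 1)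
    (h2 : B * A = 1) : SL(2, F) ≃* SL(2, F) :=
  MulEquiv.ofBijective (sl2ConjM_h9 A B h1 h2)
    ⟨sl2ConjM_injective_h9 A B h1 h2, Finite.surjective_of_injective (sl2ConjM_injective_h9 A B h1 h2)⟩

theorem sl2ConjMEquiv_apply_h9 (A B : Matrix (Fin 2) (Fin 2) F) (h1 : A * B = 1)
    (h2 : B * A = 1) (x : SL(2, F)) :
    sl2ConjMEquiv_h9 A B h1 h2 x = sl2ConjM_h9 A B h1 h2 x := rfl

/-- conjugation by an invertible matrix, as an automorphism of `PSL(2, F)`. -/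
noncomputable def psl2ConjM_h9 (A B : Matrix (Fin 2) (Fin 2) F) (h1 : A * B = 1)
    (h2 : B * A = 1) :
    Matrix.ProjectiveSpecialLinearGroup (Fin 2) F ≃* Matrix.ProjectiveSpecialLinearGroup (Fin 2) F :=
  QuotientGroup.congr (Subgroup.center SL(2, F)) (Subgroup.center SL(2, F))
    (sl2ConjMEquiv_h9 A B h1 h2)
    (Subgroup.characteristic_iff_map_eq.mp inferInstance (sl2ConjMEquiv_h9 A B h1 h2))

theorem psl2ConjM_mk_h9 (A B : Matrix (Fin 2) (Fin 2) F) (h1 : A * B = 1)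
    (h2 : B * A = 1) (x : SL(2, F)) :
    psl2ConjM_h9 A B h1 h2 (QuotientGroup.mk x) = QuotientGroup.mk (sl2ConjM_h9 A B h1 h2 x) :=
  rfl

/-- inner automorphisms. -/
theorem psl2ConjM_inner_h9 (P : SL(2, F)) (x : SL(2, F)) :
    ∃ (h1 : P.1 * (P⁻¹).1 = 1) (h2 : (P⁻¹).1 * P.1 = 1),
      psl2ConjM_h9 P.1 (P⁻¹).1 h1 h2 (QuotientGroup.mk x) = QuotientGroup.mk (P * x * P⁻¹) := by
  have h1 : P.1 * (P⁻¹).1 = 1 := by
    rw [← Matrix.SpecialLinearGroup.coe_mul, mul_inv_cancel]; rfl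
  have h2 : (P⁻¹).1 * P.1 = 1 := by
    rw [← Matrix.SpecialLinearGroup.coe_mul, inv_mul_cancel]; rfl
  refine ⟨h1, h2, ?_⟩
  rw [psl2ConjM_mk_h9]
  congr 1

end

section

variable {F : Type*} [Field F] [Fintype F] {p : ℕ} [hp : Fact p.Prime] [hc : CharP F p]

include hp hc in
/-- a subgroup with an element of order `p` is brought into standard position by an
automorphism. -/
theorem psl2_normalize_h9 (M : Subgroup (Matrix.ProjectiveSpecialLinearGroup (Fin 2) F))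
    (u : Matrix.ProjectiveSpecialLinearGroup (Fin 2) F) (hu : u ∈ M) (hu1 : u ≠ 1)
    (hup : u ^ p = 1) :
    ∃ α : Matrix.ProjectiveSpecialLinearGroup (Fin 2) F ≃*
        Matrix.ProjectiveSpecialLinearGroup (Fin 2) F,
      α u = QuotientGroup.mk (sl2E_h9 (1 : F)) ∧
      ((∀ g ∈ M, (Quotient.out (α g) : SL(2, F)).1 1 0 = 0) ∨
        ∃ g₀ ∈ M, (Quotient.out (α g₀) : SL(2, F)).1 0 0 = 0) := by
  obtain ⟨x, hx, hxp⟩ := sl2_lift_unip_h9 u hup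
  have htr := sl2_unip_trace_h9 (p := p) x 1 (by rwa [pow_one])
  have hx1 : x ≠ 1 := by
    rintro rfl
    exact hu1 (by rw [← hx]; rfl)
  obtain ⟨P, c, hc0, hxP⟩ := sl2_unip_conj_h9 x htr hx1
  -- first automorphism: conjugation by `P⁻¹`
  obtain ⟨a1, a2, ha⟩ := psl2ConjM_inner_h9 P⁻¹ x
  have ha' : psl2ConjM_h9 (P⁻¹).1 ((P⁻¹)⁻¹).1 a1 a2 u = QuotientGroup.mk (sl2E_h9 c) := by
    rw [← hx, ha, hxP]
    congr 1
    group
  -- second automorphism: conjugation by `diag(c⁻¹, 1)`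
  have b1 : (!![c⁻¹, 0; 0, 1] : Matrix (Fin 2) (Fin 2) F) * !![c, 0; 0, 1] = 1 := by
    ext i j
    fin_cases i <;> fin_cases j <;> simp [Matrix.mul_apply, Fin.sum_univ_two, hc0]
  have b2 : (!![c, 0; 0, 1] : Matrix (Fin 2) (Fin 2) F) * !![c⁻¹, 0; 0, 1] = 1 := by
    ext i j
    fin_cases i <;> fin_cases j <;> simp [Matrix.mul_apply, Fin.sum_univ_two, hc0]
  have hb : psl2ConjM_h9 _ _ b1 b2 (QuotientGroup.mk (sl2E_h9 c))
      = QuotientGroup.mk (sl2E_h9 (1 : F)) := by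
    rw [psl2ConjM_mk_h9]
    congr 1
    apply sl2ConjM_eq_of_h9
    obtain ⟨e00, e01, e10, e11⟩ := sl2E_entries_h9 c
    obtain ⟨f00, f01, f10, f11⟩ := sl2E_entries_h9 (1 : F)
    apply sl2_mulM_eq_h9
    · rw [e00, f00, e10]; ring
    · rw [e01, f00, f01, e11]; field_simp; ring
    · rw [f10, e10]; ring
    · rw [f10, f11, e11]; ring
  let α₁ := (psl2ConjM_h9 (P⁻¹).1 ((P⁻¹)⁻¹).1 a1 a2).trans (psl2ConjM_h9 _ _ b1 b2)
  have hα₁ : α₁ u = QuotientGroup.mk (sl2E_h9 (1 : F)) := by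
    show psl2ConjM_h9 _ _ b1 b2 (psl2ConjM_h9 (P⁻¹).1 ((P⁻¹)⁻¹).1 a1 a2 u) = _
    rw [ha', hb]
  by_cases hall : ∀ g ∈ M, (Quotient.out (α₁ g) : SL(2, F)).1 1 0 = 0
  · exact ⟨α₁, hα₁, Or.inl hall⟩
  · push Not at hall
    obtain ⟨g, hgM, hg⟩ := hall
    obtain ⟨t, ht⟩ : ∃ t : F, t = -((Quotient.out (α₁ g) : SL(2, F)).1 0 0 /
      (Quotient.out (α₁ g) : SL(2, F)).1 1 0) := ⟨_, rfl⟩
    obtain ⟨c1, c2, hc⟩ := psl2ConjM_inner_h9 (sl2E_h9 t) (Quotient.out (α₁ g) : SL(2, F))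
    obtain ⟨c1', c2', hc'⟩ := psl2ConjM_inner_h9 (sl2E_h9 t) (sl2E_h9 (1 : F))
    refine ⟨α₁.trans (psl2ConjM_h9 _ _ c1 c2), ?_, Or.inr ⟨g, hgM, ?_⟩⟩
    · show psl2ConjM_h9 _ _ c1 c2 (α₁ u) = _
      rw [hα₁, hc', sl2E_inv_h9, sl2E_mul_h9, sl2E_mul_h9]
      congr 2
      ring
    · show (Quotient.out (psl2ConjM_h9 _ _ c1 c2 (α₁ g)) : SL(2, F)).1 0 0 = 0
      have e : psl2ConjM_h9 _ _ c1 c2 (α₁ g) = QuotientGroup.mk (sl2E_h9 t *
          (Quotient.out (α₁ g) : SL(2, F)) * (sl2E_h9 t)⁻¹) := by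
        rw [← hc, QuotientGroup.out_eq']
      rw [e]
      obtain ⟨m00, m01, m10, m11⟩ := sl2_mul_entries_h9 (sl2E_h9 t * (Quotient.out (α₁ g) : SL(2, F)))
        (sl2E_h9 t)⁻¹
      obtain ⟨k00, k01, k10, k11⟩ := sl2_mul_entries_h9 (sl2E_h9 t) (Quotient.out (α₁ g) : SL(2, F))
      obtain ⟨e00, e01, e10, e11⟩ := sl2E_entries_h9 t
      obtain ⟨i00, i01, i10, i11⟩ := sl2_inv_entries_h9 (sl2E_h9 t)
      have key : (sl2E_h9 t * (Quotient.out (α₁ g) : SL(2, F)) * (sl2E_h9 t)⁻¹).1 0 0 = 0 := by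
        rw [m00, k00, k01, i00, i10, e00, e01, e10, e11, ht]
        field_simp
        ring
      rcases psl2_out_mk_h9 (sl2E_h9 t * (Quotient.out (α₁ g) : SL(2, F)) * (sl2E_h9 t)⁻¹) with h | h
      · rw [h, key]
      · rw [h, (sl2_neg_entries_h9 _).1, key, neg_zero]

end

end Cfsg.Agent.Helper9
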