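import Mathlib
import Cfsg.Agent.Helper9.Dk11

/-!
# Dickson: element orders, the Borel subgroup, the full group in standard position (helper9)
-/

set_option autoImplicit false
open scoped MatrixGroups

namespace Cfsg.Agent.Helper9

section

variable {F : Type*} [Field F] [Fintype F] {p : ℕ} [hp : Fact p.Prime] [hc : CharP F p]

include hp hc in
/-- element orders in `PSL(2, F)`. -/
theorem psl2_elt_order_h9 (y : Matrix.ProjectiveSpecialLinearGroup (Fin 2) F) (hy : y ≠ 1) :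
    orderOf y = p ∨ orderOf y ∣ Fintype.card F - 1 ∨ orderOf y ∣ Fintype.card F + 1 := by
  by_cases gy : sl2Good_h9 (Quotient.out y : SL(2, F))
  · right
    let y' : (⊤ : Subgroup (Matrix.ProjectiveSpecialLinearGroup (Fin 2) F)) := ⟨y, Subgroup.mem_top _⟩
    have h1 : Subgroup.zpowers y' ≤ psl2Tau_h9 ⊤ y' :=
      Subgroup.zpowers_le.mpr ((psl2MPart_h9 ⊤).h_mem y')
    have h2 := Subgroup.card_dvd_of_le h1
    rw [Nat.card_zpowers] at h2
    have h3 : orderOf y' = orderOf y := (Subgroup.orderOf_coe y').symm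
    rw [h3] at h2
    rcases psl2Tau_dvd_good_h9 ⊤ y' gy with h | h
    · exact Or.inl (h2.trans h)
    · exact Or.inr (h2.trans h)
  · left
    exact orderOf_eq_prime (psl2_pow_p_of_not_good_h9 (p := p) y gy) hy

include hp hc in
theorem psl2_elt_order2_h9 (h2F : (2 : F) ≠ 0)
    (y : Matrix.ProjectiveSpecialLinearGroup (Fin 2) F) (hy : y ≠ 1) :
    orderOf y = p ∨ 2 * orderOf y ∣ Fintype.card F - 1 ∨ 2 * orderOf y ∣ Fintype.card F + 1 := by
  by_cases gy : sl2Good_h9 (Quotient.out y : SL(2, F))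
  · right
    let y' : (⊤ : Subgroup (Matrix.ProjectiveSpecialLinearGroup (Fin 2) F)) := ⟨y, Subgroup.mem_top _⟩
    have h1 : Subgroup.zpowers y' ≤ psl2Tau_h9 ⊤ y' :=
      Subgroup.zpowers_le.mpr ((psl2MPart_h9 ⊤).h_mem y')
    have h2 := Subgroup.card_dvd_of_le h1
    rw [Nat.card_zpowers] at h2
    have h3 : orderOf y' = orderOf y := (Subgroup.orderOf_coe y').symm
    rw [h3] at h2
    rcases psl2Tau_dvd2_good_h9 ⊤ h2F y' gy with h | h
    · exact Or.inl ((Nat.mul_dvd_mul_left 2 h2).trans h)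
    · exact Or.inr ((Nat.mul_dvd_mul_left 2 h2).trans h)
  · left
    exact orderOf_eq_prime (psl2_pow_p_of_not_good_h9 (p := p) y gy) hy

include hp hc in
/-- normalization of a subgroup of order divisible by `p`. -/
theorem psl2_normalize_sub_h9 (M : Subgroup (Matrix.ProjectiveSpecialLinearGroup (Fin 2) F))
    (hpM : p ∣ Nat.card M) :
    ∃ α : Matrix.ProjectiveSpecialLinearGroup (Fin 2) F ≃*
        Matrix.ProjectiveSpecialLinearGroup (Fin 2) F,
      (QuotientGroup.mk (sl2E_h9 (1 : F)) : Matrix.ProjectiveSpecialLinearGroup (Fin 2) F) ∈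
        M.map α.toMonoidHom ∧
      ((∀ g ∈ M.map α.toMonoidHom, (Quotient.out g : SL(2, F)).1 1 0 = 0) ∨
        ∃ g₀ : M.map α.toMonoidHom, (Quotient.out g₀.1 : SL(2, F)).1 0 0 = 0) := by
  obtain ⟨u, hu⟩ := exists_prime_orderOf_dvd_card' (G := M) p hpM
  have hup : u.1 ^ p = 1 := by
    have := pow_orderOf_eq_one u
    rw [hu] at this
    exact congrArg Subtype.val this
  have hu1 : u.1 ≠ 1 := by
    intro h
    have h2 : u = 1 := Subtype.ext h
    rw [h2, orderOf_one] at hu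
    exact hp.out.one_lt.ne hu
  obtain ⟨α, hα, h⟩ := psl2_normalize_h9 (p := p) M u.1 u.2 hu1 hup
  refine ⟨α, ⟨u.1, u.2, hα⟩, ?_⟩
  rcases h with h | ⟨g₀, hg₀, h0⟩
  · left
    rintro _ ⟨g, hg, rfl⟩
    exact h g hg
  · right
    exact ⟨⟨α g₀, ⟨g₀, hg₀, rfl⟩⟩, h0⟩

/-- the Borel subgroup (upper triangular elements). -/
def borel_h9 (F : Type*) [Field F] [Fintype F] :
    Subgroup (Matrix.ProjectiveSpecialLinearGroup (Fin 2) F) :=
  (Subgroup.normalizer (psl2Tau_h9 ⊤ ⟨QuotientGroup.mk (sl2E_h9 (1 : F)), Subgroup.mem_top _⟩ :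
    Set (⊤ : Subgroup (Matrix.ProjectiveSpecialLinearGroup (Fin 2) F)))).map
    (⊤ : Subgroup (Matrix.ProjectiveSpecialLinearGroup (Fin 2) F)).subtype

theorem mem_borel_h9 (g : Matrix.ProjectiveSpecialLinearGroup (Fin 2) F) :
    g ∈ borel_h9 F ↔ (Quotient.out g : SL(2, F)).1 1 0 = 0 := by
  constructor
  · rintro ⟨n, hn, rfl⟩
    exact (np_mem_norm_h9 ⊤ 1 one_ne_zero (Subgroup.mem_top _) n).mp hn
  · intro h
    exact ⟨⟨g, Subgroup.mem_top _⟩,
      (np_mem_norm_h9 ⊤ 1 one_ne_zero (Subgroup.mem_top _) ⟨g, Subgroup.mem_top _⟩).mpr h, rfl⟩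

theorem card_borel_h9 : Nat.card (borel_h9 F) = Nat.card (Subgroup.normalizer
    (psl2Tau_h9 ⊤ ⟨QuotientGroup.mk (sl2E_h9 (1 : F)), Subgroup.mem_top _⟩ :
    Set (⊤ : Subgroup (Matrix.ProjectiveSpecialLinearGroup (Fin 2) F)))) :=
  Subgroup.card_map_of_injective (Subgroup.subtype_injective _)

include hp hc in
/-- commutators of upper triangular elements are `p`-elements. -/
theorem borel_comm_pow_h9 (a b : Matrix.ProjectiveSpecialLinearGroup (Fin 2) F)
    (ha : a ∈ borel_h9 F) (hb : b ∈ borel_h9 F) : (a * b * a⁻¹ * b⁻¹) ^ p = 1 := by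
  rw [mem_borel_h9] at ha hb
  obtain ⟨s, hs⟩ := sl2_upper_comm_h9 _ _ ha hb
  have e : a * b * a⁻¹ * b⁻¹ = QuotientGroup.mk (sl2E_h9 s) := by
    rw [← hs, QuotientGroup.mk_mul, QuotientGroup.mk_mul, QuotientGroup.mk_mul, QuotientGroup.mk_inv,
      QuotientGroup.mk_inv, QuotientGroup.out_eq', QuotientGroup.out_eq']
  rw [e, ← QuotientGroup.mk_pow, sl2E_pow_h9, CharP.cast_eq_zero, zero_mul, sl2E_zero_h9]
  rfl

include hp hc in
/-- the full group in standard position. -/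
theorem top_struct_h9 (h4 : 4 ≤ Fintype.card F) :
    ∃ k, Nat.card (Matrix.ProjectiveSpecialLinearGroup (Fin 2) F)
        = (Fintype.card F + 1) * (Fintype.card F * k) ∧ 2 ≤ k ∧
      (k = Fintype.card F - 1 ∨ 2 * k = Fintype.card F - 1) ∧
      Nat.card (borel_h9 F) = Fintype.card F * k ∧
      (∀ y : (⊤ : Subgroup (Matrix.ProjectiveSpecialLinearGroup (Fin 2) F)),
        sl2Good_h9 (Quotient.out y.1 : SL(2, F)) →
        Nat.card (Subgroup.normalizer (psl2Tau_h9 ⊤ y : Set (⊤ : Subgroup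
          (Matrix.ProjectiveSpecialLinearGroup (Fin 2) F)))) = 2 * Nat.card (psl2Tau_h9 ⊤ y) ∧
        (Nat.card (psl2Tau_h9 ⊤ y) = k ∨
          Nat.card (psl2Tau_h9 ⊤ y) * (Fintype.card F - 1) = k * (Fintype.card F + 1))) := by
  have hE : (QuotientGroup.mk (sl2E_h9 (1 : F)) : Matrix.ProjectiveSpecialLinearGroup (Fin 2) F) ∈
      (⊤ : Subgroup (Matrix.ProjectiveSpecialLinearGroup (Fin 2) F)) := Subgroup.mem_top _
  obtain ⟨-, -, g₀, hg₀, hg10⟩ := sub_std_h9 (RingHom.id F)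
    (⊤ : Subgroup (Matrix.ProjectiveSpecialLinearGroup (Fin 2) F)) (fun x => Subgroup.mem_top _)
  have hq : Nat.card (psl2Tau_h9 ⊤ ⟨QuotientGroup.mk (sl2E_h9 (1 : F)), hE⟩) = Fintype.card F := by
    rw [← np_card_A_h9 ⊤ hE, ← Nat.card_eq_fintype_card]
    exact Nat.card_congr (Equiv.subtypeUnivEquiv
      (fun b => (mem_npA_h9 ⊤ b).mpr (Subgroup.mem_top _)))
  obtain ⟨k, hN⟩ : ∃ k, Nat.card (Subgroup.normalizer
      (psl2Tau_h9 ⊤ ⟨QuotientGroup.mk (sl2E_h9 (1 : F)), hE⟩ :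
        Set (⊤ : Subgroup (Matrix.ProjectiveSpecialLinearGroup (Fin 2) F))))
      = Fintype.card F * k := by
    have := Subgroup.card_dvd_of_le (Subgroup.le_normalizer
      (H := psl2Tau_h9 ⊤ ⟨QuotientGroup.mk (sl2E_h9 (1 : F)), hE⟩))
    rw [hq] at this
    obtain ⟨k, hk⟩ := this
    exact ⟨k, hk⟩
  obtain ⟨hH, hk2, hkq, htori⟩ := np_main_h9 (p := p) ⊤ 1 one_ne_zero hE (Fintype.card F) k hq hN h4
    ⟨g₀, hg10⟩
  refine ⟨k, ?_, hk2, hkq, ?_, htori⟩
  · rw [← hH]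
    exact (Nat.card_congr (Equiv.Set.univ _)).symm
  · rw [card_borel_h9, hN]

end

end Cfsg.Agent.Helper9
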