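import Mathlib
import Cfsg.Agent.Helper9.Dk12

/-!
# Dickson: the case division for subgroups of order divisible by `p` (helper9)
-/

set_option autoImplicit false
open scoped MatrixGroups

namespace Cfsg.Agent.Helper9

theorem four_dvd_factorization_h9 (n : ℕ) (hn : n ≠ 0) (h : 4 ∣ n) : 4 ≤ 2 ^ n.factorization 2 := by
  have h1 : 2 ≤ n.factorization 2 :=
    (Nat.Prime.pow_dvd_iff_le_factorization Nat.prime_two hn).mp (by simpa using h)
  calc 4 = 2 ^ 2 := by norm_num
    _ ≤ 2 ^ n.factorization 2 := Nat.pow_le_pow_right (by norm_num) h1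

section

variable {F : Type*} [Field F] [Fintype F] {p : ℕ} [hp : Fact p.Prime] [hc : CharP F p]

include hp hc in
/-- **Dickson**: the case division for a subgroup of order divisible by `p`. -/
theorem dickson_cases_h9 (H : Subgroup (Matrix.ProjectiveSpecialLinearGroup (Fin 2) F))
    (hpH : p ∣ Nat.card H) :
    ∃ α : Matrix.ProjectiveSpecialLinearGroup (Fin 2) F ≃*
        Matrix.ProjectiveSpecialLinearGroup (Fin 2) F,
      (QuotientGroup.mk (sl2E_h9 (1 : F)) : Matrix.ProjectiveSpecialLinearGroup (Fin 2) F) ∈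
        H.map α.toMonoidHom ∧
      (H.map α.toMonoidHom ≤ borel_h9 F ∨
       (p = 3 ∧ (Nonempty (H ≃* alternatingGroup (Fin 4)) ∨ Nonempty (H ≃* Equiv.Perm (Fin 4)) ∨
          Nonempty (H ≃* alternatingGroup (Fin 5)))) ∨
       (p = 2 ∧ ∃ k : ℕ, Nat.card H = 2 * k ∧ k % 2 = 1 ∧ Nonempty (H ≃* DihedralGroup k)) ∨
       ∃ q₁ k r : ℕ, 4 ≤ q₁ ∧ q₁ = p ^ (Nat.card H).factorization p ∧
         Nat.card H = (q₁ + 1) * (q₁ * k) ∧ 2 ≤ k ∧ (k = q₁ - 1 ∨ 2 * k = q₁ - 1) ∧
         Fintype.card F = q₁ ^ r ∧ Nat.card (npS_h9 (H.map α.toMonoidHom)) = q₁ ∧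
         (∀ s ∈ npS_h9 (H.map α.toMonoidHom),
           (QuotientGroup.mk (sl2E_h9 s) : Matrix.ProjectiveSpecialLinearGroup (Fin 2) F) ∈
             H.map α.toMonoidHom ∧
           (QuotientGroup.mk (sl2L_h9 s) : Matrix.ProjectiveSpecialLinearGroup (Fin 2) F) ∈
             H.map α.toMonoidHom) ∧
         (∀ h : H.map α.toMonoidHom,
           sForm_h9 (npS_h9 (H.map α.toMonoidHom)) (Quotient.out h.1 : SL(2, F))) ∧
         (∀ y : H.map α.toMonoidHom, sl2Good_h9 (Quotient.out y.1 : SL(2, F)) →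
           Nat.card (psl2Tau_h9 (H.map α.toMonoidHom) y) = k ∨
           Nat.card (psl2Tau_h9 (H.map α.toMonoidHom) y) * (q₁ - 1) = k * (q₁ + 1))) := by
  obtain ⟨α, hE, hcase⟩ := psl2_normalize_sub_h9 (p := p) H hpH
  refine ⟨α, hE, ?_⟩
  have e : H ≃* H.map α.toMonoidHom := α.subgroupMap H
  have hcardeq : Nat.card (H.map α.toMonoidHom) = Nat.card H := (Nat.card_congr e.toEquiv).symm
  rcases hcase with hall | ⟨g₀, hg₀⟩
  · left
    intro g hg
    exact (mem_borel_h9 g).mpr (hall g hg)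
  right
  have hg10 : (Quotient.out g₀.1 : SL(2, F)).1 1 0 ≠ 0 := by
    obtain ⟨-, gdet⟩ := sl2_entries_h9 (Quotient.out g₀.1 : SL(2, F))
    intro h
    rw [hg₀, h] at gdet
    simp at gdet
  obtain ⟨q₁, hq₁⟩ : ∃ q₁, Nat.card (psl2Tau_h9 (H.map α.toMonoidHom)
      ⟨QuotientGroup.mk (sl2E_h9 (1 : F)), hE⟩) = q₁ := ⟨_, rfl⟩
  have hfact := psl2Tau_card_unip_h9 (p := p) (H.map α.toMonoidHom) ⟨_, hE⟩
    (npU_ne_one_h9 _ 1 one_ne_zero hE) (npU_not_good_h9 (p := p) (1 : F))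
  rw [hq₁, hcardeq] at hfact
  have hn0 : Nat.card H ≠ 0 := Nat.card_pos.ne'
  have hfact1 : 1 ≤ (Nat.card H).factorization p :=
    (Nat.Prime.pow_dvd_iff_le_factorization hp.out hn0).mp (by simpa using hpH)
  by_cases h4 : 4 ≤ q₁
  · right; right
    obtain ⟨k, hcard, hk2, hkq, hS, hEL, -, hform, htori⟩ :=
      np3_struct_h9 (p := p) (H.map α.toMonoidHom) hE g₀ hg₀ q₁ hq₁ h4
    have : Fintype (npS_h9 (H.map α.toMonoidHom)) := Fintype.ofFinite _
    have h2 : Fintype.card F = Fintype.card (npS_h9 (H.map α.toMonoidHom)) ^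
        Module.finrank (npS_h9 (H.map α.toMonoidHom)) F := Module.card_eq_pow_finrank
    rw [← Nat.card_eq_fintype_card (α := npS_h9 (H.map α.toMonoidHom)), hS] at h2
    rw [hcardeq] at hcard
    exact ⟨q₁, k, _, h4, hfact, hcard, hk2, hkq, h2, hS, hEL, hform, fun y gy => (htori y gy).2⟩
  · have hsmall : p ^ (Nat.card (H.map α.toMonoidHom)).factorization p ≤ 3 := by
      rw [hcardeq, ← hfact]; omega
    have hp3 : p ≤ 3 := by
      have h1 : p ^ 1 ≤ p ^ (Nat.card H).factorization p :=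
        Nat.pow_le_pow_right hp.out.pos hfact1
      rw [pow_one, ← hfact] at h1
      omega
    have hp2 : 2 ≤ p := hp.out.two_le
    have hwit := np_witness_h9 (p := p) (H.map α.toMonoidHom) hE g₀ hg10
    rcases Nat.lt_or_ge p 3 with hlt | hge
    · -- p = 2
      have hp2' : p = 2 := by omega
      right; left
      refine ⟨hp2', ?_⟩
      have h4n : ¬ 4 ∣ Nat.card H := by
        intro h
        have := four_dvd_factorization_h9 _ hn0 h
        rw [hp2'] at hfact
        omega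
      rcases psl2_small_h9 (p := p) (H.map α.toMonoidHom) hsmall with h | ⟨k, hk, ⟨e'⟩⟩ | ⟨⟨e'⟩⟩ |
        ⟨⟨e'⟩⟩ | ⟨⟨e'⟩⟩
      · exfalso
        obtain ⟨z, hz⟩ := IsCyclic.exists_generator (α := H.map α.toMonoidHom)
        obtain ⟨a, ha⟩ := Subgroup.mem_zpowers_iff.mp (hz (g₀ * ⟨QuotientGroup.mk (sl2E_h9 (1 : F)), hE⟩
          * g₀⁻¹))
        obtain ⟨b, hb⟩ := Subgroup.mem_zpowers_iff.mp (hz ⟨QuotientGroup.mk (sl2E_h9 (1 : F)), hE⟩)
        apply hwit
        rw [← ha, ← hb, ← zpow_add, ← zpow_add, add_comm]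
      · rw [hcardeq] at hk
        refine ⟨k, hk, ?_, ⟨e.trans e'⟩⟩
        by_contra hk2
        apply h4n
        rw [hk]
        omega
      · exfalso
        apply h4n
        rw [← hcardeq, Nat.card_congr e'.toEquiv, card_alt4_h9]
        norm_num
      · exfalso
        apply h4n
        rw [← hcardeq, Nat.card_congr e'.toEquiv, card_perm4_h9]
        norm_num
      · exfalso
        apply h4n
        rw [← hcardeq, Nat.card_congr e'.toEquiv, card_A5_h9]
        norm_num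
    · have hp3' : p = 3 := by omega
      left
      refine ⟨hp3', ?_⟩
      have h3F : (3 : F) = 0 := by
        have := CharP.cast_eq_zero F p
        rw [hp3'] at this
        exact_mod_cast this
      have hu3 : (⟨QuotientGroup.mk (sl2E_h9 (1 : F)), hE⟩ : H.map α.toMonoidHom) ^ 3 = 1 := by
        apply Subtype.ext
        rw [Subgroup.coe_pow]
        show (QuotientGroup.mk (sl2E_h9 (1 : F)) : Matrix.ProjectiveSpecialLinearGroup (Fin 2) F) ^ 3
          = 1
        rw [← QuotientGroup.mk_pow, sl2E_pow_h9, Nat.cast_ofNat, h3F, zero_mul, sl2E_zero_h9]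
        rfl
      rcases psl2_small3_h9 (p := p) (H.map α.toMonoidHom) hsmall _ g₀ hu3 hwit with ⟨⟨e'⟩⟩ |
        ⟨⟨e'⟩⟩ | ⟨⟨e'⟩⟩
      · exact Or.inl ⟨e.trans e'⟩
      · exact Or.inr (Or.inl ⟨e.trans e'⟩)
      · exact Or.inr (Or.inr ⟨e.trans e'⟩)

end

end Cfsg.Agent.Helper9
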