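import Mathlib
import Cfsg.Agent.Helper9.Dk13

/-!
# Dickson: the largest proper subgroups of `PSL(2, q)` (helper9)
-/

set_option autoImplicit false
open scoped MatrixGroups

namespace Cfsg.Agent.Helper9

section

variable {F : Type*} [Field F] [Fintype F] {p : ℕ} [hp : Fact p.Prime] [hc : CharP F p]

include hp hc in
theorem char_two_iff_even_h9 : p = 2 ↔ Fintype.card F % 2 = 0 := by
  obtain ⟨n, -, hn⟩ := FiniteField.card F p
  constructor
  · intro h
    rw [hn, h]
    exact Nat.even_iff.mp (Nat.even_pow.mpr ⟨even_two, n.ne_zero⟩)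
  · intro h
    rw [hn] at h
    have := (Nat.even_pow.mp (Nat.even_iff.mpr h)).1
    exact (Nat.Prime.even_iff hp.out).mp this

include hp hc in
/-- the full group: order and parity of the torus order. -/
theorem top_struct_parity_h9 (h4 : 4 ≤ Fintype.card F) :
    ∃ k, Nat.card (Matrix.ProjectiveSpecialLinearGroup (Fin 2) F)
        = (Fintype.card F + 1) * (Fintype.card F * k) ∧ 2 ≤ k ∧
      ((Fintype.card F % 2 = 1 ∧ 2 * k = Fintype.card F - 1) ∨
        (Fintype.card F % 2 = 0 ∧ k = Fintype.card F - 1)) ∧
      Nat.card (borel_h9 F) = Fintype.card F * k ∧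
      (∀ y : (⊤ : Subgroup (Matrix.ProjectiveSpecialLinearGroup (Fin 2) F)),
        sl2Good_h9 (Quotient.out y.1 : SL(2, F)) →
        Nat.card (Subgroup.normalizer (psl2Tau_h9 ⊤ y : Set (⊤ : Subgroup
          (Matrix.ProjectiveSpecialLinearGroup (Fin 2) F)))) = 2 * Nat.card (psl2Tau_h9 ⊤ y) ∧
        (Nat.card (psl2Tau_h9 ⊤ y) = k ∨
          Nat.card (psl2Tau_h9 ⊤ y) * (Fintype.card F - 1) = k * (Fintype.card F + 1))) := by
  obtain ⟨k, hG, hk2, hkq, hB, htori⟩ := top_struct_h9 (p := p) h4
  refine ⟨k, hG, hk2, ?_, hB, htori⟩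
  rcases Nat.mod_two_eq_zero_or_one (Fintype.card F) with h | h
  · right
    refine ⟨h, ?_⟩
    rcases hkq with hk | hk
    · exact hk
    · omega
  · left
    refine ⟨h, ?_⟩
    rcases hkq with hk | hk
    · exfalso
      obtain ⟨r, hr, hP⟩ := psl2_card_odd_h9 h
      rw [hG, hk, hr] at hP
      simp only [Nat.add_sub_cancel] at hP
      have h5 : 0 < r * (r + 1) * (r + 2) := by
        have : 0 < r := by omega
        positivity
      have h6 : 2 * ((r + 1 + 1) * ((r + 1) * r)) = 2 * (r * (r + 1) * (r + 2)) := by ring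
      omega
    · exact hk

include hp hc in
/-- proper subgroups of `PSL(2, q)` have order at most `q (q - 1) / d`. -/
theorem psl2_sub_bound_h9 (h4 : 4 ≤ Fintype.card F) (hq5 : Fintype.card F ≠ 5)
    (hq7 : Fintype.card F ≠ 7) (hq9 : Fintype.card F ≠ 9) (hq11 : Fintype.card F ≠ 11) :
    ∃ k₀, Nat.card (Matrix.ProjectiveSpecialLinearGroup (Fin 2) F)
        = (Fintype.card F + 1) * (Fintype.card F * k₀) ∧
      Nat.card (borel_h9 F) = Fintype.card F * k₀ ∧
      ∀ H : Subgroup (Matrix.ProjectiveSpecialLinearGroup (Fin 2) F), H ≠ ⊤ →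
        Nat.card H ≤ Fintype.card F * k₀ := by
  obtain ⟨k₀, hG, hk₀2, hpar, hB, -⟩ := top_struct_parity_h9 (p := p) h4
  refine ⟨k₀, hG, hB, ?_⟩
  obtain ⟨q, hq⟩ : ∃ q, Fintype.card F = q := ⟨_, rfl⟩
  rw [hq] at hG hpar hB h4 hq5 hq7 hq9 hq11 ⊢
  have h2k : q - 1 ≤ 2 * k₀ := by
    rcases hpar with ⟨-, h⟩ | ⟨-, h⟩ <;> omega
  have hqk : q + 1 ≤ q * k₀ := by
    have : q * 2 ≤ q * k₀ := Nat.mul_le_mul_left q hk₀2
    omega
  intro H hH
  have hHG : Nat.card H ≤ Nat.card (Matrix.ProjectiveSpecialLinearGroup (Fin 2) F) :=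
    Subgroup.card_le_card_group H
  have hHne : Nat.card H ≠ Nat.card (Matrix.ProjectiveSpecialLinearGroup (Fin 2) F) :=
    fun h => hH (Subgroup.eq_top_of_card_eq H h)
  by_cases hpH : p ∣ Nat.card H
  · obtain ⟨α, hE, hcases⟩ := dickson_cases_h9 (p := p) H hpH
    have hcardeq : Nat.card (H.map α.toMonoidHom) = Nat.card H :=
      (Nat.card_congr (α.subgroupMap H).toEquiv).symm
    rcases hcases with hbor | ⟨hp3, h3⟩ | ⟨hp2, k, hk, hkodd, ⟨e⟩⟩ |
      ⟨q₁, k, r, h4q, -, hcard, hk2, hkq, hFq, -, -, -, -⟩
    · rw [← hcardeq, ← hB]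
      exact Subgroup.card_le_of_le hbor
    · -- p = 3: order at most 60, q ≥ 27
      obtain ⟨n, -, hn⟩ := FiniteField.card F p
      rw [hq, hp3] at hn
      have hn3 : 3 ≤ (n : ℕ) := by
        by_contra hlt
        have h1 : (n : ℕ) = 1 ∨ (n : ℕ) = 2 := by
          have := n.pos
          omega
        rcases h1 with h1 | h1 <;> rw [h1] at hn <;> omega
      have hq27 : 27 ≤ q := by
        rw [hn]
        calc 27 = 3 ^ 3 := by norm_num
          _ ≤ 3 ^ (n : ℕ) := Nat.pow_le_pow_right (by norm_num) hn3
      have hodd : q % 2 = 1 := by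
        rw [hn, Nat.pow_mod]
        norm_num
      have h60 : Nat.card H ≤ 60 := by
        rcases h3 with ⟨⟨e⟩⟩ | ⟨⟨e⟩⟩ | ⟨⟨e⟩⟩
        · rw [Nat.card_congr e.toEquiv, card_alt4_h9]; norm_num
        · rw [Nat.card_congr e.toEquiv, card_perm4_h9]; norm_num
        · rw [Nat.card_congr e.toEquiv, card_A5_h9]
      have : 27 * 13 ≤ q * k₀ := Nat.mul_le_mul hq27 (by omega)
      omega
    · -- p = 2: dihedral of order 2k, k odd
      have heven : q % 2 = 0 := by rw [← hq]; exact (char_two_iff_even_h9 (p := p)).mp hp2
      have hk₀ : k₀ = q - 1 := by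
        rcases hpar with ⟨h, -⟩ | ⟨-, h⟩
        · omega
        · exact h
      have hkle : k ≤ q + 1 := by
        by_cases hk1 : k = 1
        · omega
        · have hord : orderOf (e.symm (DihedralGroup.r 1)) = k := by
            rw [MulEquiv.orderOf_eq, DihedralGroup.orderOf_r_one]
          have hord' : orderOf ((e.symm (DihedralGroup.r 1) : H) :
              Matrix.ProjectiveSpecialLinearGroup (Fin 2) F) = k := by
            rw [Subgroup.orderOf_coe, hord]
          have hne : ((e.symm (DihedralGroup.r 1) : H) :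
              Matrix.ProjectiveSpecialLinearGroup (Fin 2) F) ≠ 1 := by
            intro h
            rw [h, orderOf_one] at hord'
            exact hk1 hord'.symm
          rcases psl2_elt_order_h9 (p := p) _ hne with h | h | h
          · rw [hord', hp2] at h; omega
          · rw [hord', hq] at h
            have := Nat.le_of_dvd (by omega) h
            omega
          · rw [hord', hq] at h
            exact Nat.le_of_dvd (by omega) h
      rw [hk, hk₀]
      have h1 : 2 * (q + 1) ≤ q * (q - 1) := by
        have : q * 3 ≤ q * (q - 1) := Nat.mul_le_mul_left q (by omega)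
        omega
      omega
    · -- the structure case
      have hr0 : r ≠ 0 := by
        rintro rfl
        rw [pow_zero] at hFq
        omega
      rcases Nat.lt_or_ge r 2 with hr1 | hr2
      · have hr1' : r = 1 := by omega
        rw [hr1', pow_one, hq] at hFq
        subst hFq
        exfalso
        rcases hpar with ⟨hodd, hk₀⟩ | ⟨heven, hk₀⟩
        · rcases hkq with hk | hk
          · have : Nat.card H = 2 * Nat.card (Matrix.ProjectiveSpecialLinearGroup (Fin 2) F) := by
              rw [hcard, hG, hk, ← hk₀]; ring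
            have hpos : 0 < Nat.card (Matrix.ProjectiveSpecialLinearGroup (Fin 2) F) := Nat.card_pos
            omega
          · have : k = k₀ := by omega
            apply hHne
            rw [hcard, hG, this]
        · rcases hkq with hk | hk
          · apply hHne
            rw [hcard, hG, hk, hk₀]
          · omega
      · have hqq : q₁ ^ 2 ≤ q := by
          rw [← hq, hFq]
          exact Nat.pow_le_pow_right (by omega) hr2
        have hk' : k ≤ q₁ - 1 := by
          rcases hkq with hk | hk <;> omega
        obtain ⟨a, rfl⟩ : ∃ a, q₁ = a + 1 := ⟨q₁ - 1, by omega⟩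
        rw [Nat.add_sub_cancel] at hk'
        have h1 : Nat.card H ≤ (a + 1 + 1) * ((a + 1) * a) := by
          rw [hcard]
          exact Nat.mul_le_mul_left _ (Nat.mul_le_mul_left _ hk')
        have h2 : (a + 1) ^ 2 * ((a + 1) ^ 2 - 1) ≤ q * (q - 1) :=
          Nat.mul_le_mul hqq (by omega)
        have h3 : (a + 1) ^ 2 - 1 = a * (a + 2) := by
          have : (a + 1) ^ 2 = a * (a + 2) + 1 := by ring
          omega
        rw [h3] at h2
        have h4' : 2 * ((a + 1 + 1) * ((a + 1) * a)) ≤ (a + 1) ^ 2 * (a * (a + 2)) := by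
          have : 2 ≤ a + 1 := by omega
          calc 2 * ((a + 1 + 1) * ((a + 1) * a)) = 2 * ((a + 1) * (a * (a + 2))) := by ring
            _ ≤ (a + 1) * ((a + 1) * (a * (a + 2))) := Nat.mul_le_mul_right _ this
            _ = (a + 1) ^ 2 * (a * (a + 2)) := by ring
        have h5 : q * (q - 1) ≤ 2 * (q * k₀) := by
          calc q * (q - 1) ≤ q * (2 * k₀) := Nat.mul_le_mul_left q h2k
            _ = 2 * (q * k₀) := by ring
        omega
  · -- Klein
    have hp2F : p = 2 ↔ q % 2 = 0 := by rw [← hq]; exact char_two_iff_even_h9 (p := p)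
    rcases psl2_pprime_h9 (p := p) H hpH with hcyc | ⟨k, hk, ⟨e⟩⟩ | ⟨⟨e⟩⟩ | ⟨⟨e⟩⟩ | ⟨⟨e⟩⟩
    · obtain ⟨z, hz⟩ := IsCyclic.exists_generator (α := H)
      have hord : orderOf z = Nat.card H := orderOf_eq_card_of_forall_mem_zpowers hz
      have hord' : orderOf (z : Matrix.ProjectiveSpecialLinearGroup (Fin 2) F) = Nat.card H := by
        rw [Subgroup.orderOf_coe, hord]
      by_cases hz1 : (z : Matrix.ProjectiveSpecialLinearGroup (Fin 2) F) = 1
      · rw [hz1, orderOf_one] at hord'
        omega
      · rcases psl2_elt_order_h9 (p := p) _ hz1 with h | h | h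
        · exfalso
          apply hpH
          rw [← hord', h]
        · rw [hord', hq] at h
          have := Nat.le_of_dvd (by omega) h
          omega
        · rw [hord', hq] at h
          have := Nat.le_of_dvd (by omega) h
          omega
    · rcases Nat.mod_two_eq_zero_or_one q with heven | hodd
      · exfalso
        apply hpH
        rw [hp2F.mpr heven, hk]
        exact dvd_mul_right 2 k
      · have h2F : (2 : F) ≠ 0 := two_ne_zero_of_odd_card_h9 (by rw [hq]; exact hodd)
        by_cases hk1 : k = 1
        · omega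
        · have hord : orderOf (e.symm (DihedralGroup.r 1)) = k := by
            rw [MulEquiv.orderOf_eq, DihedralGroup.orderOf_r_one]
          have hord' : orderOf ((e.symm (DihedralGroup.r 1) : H) :
              Matrix.ProjectiveSpecialLinearGroup (Fin 2) F) = k := by
            rw [Subgroup.orderOf_coe, hord]
          have hne : ((e.symm (DihedralGroup.r 1) : H) :
              Matrix.ProjectiveSpecialLinearGroup (Fin 2) F) ≠ 1 := by
            intro h
            rw [h, orderOf_one] at hord'
            exact hk1 hord'.symm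
          rcases psl2_elt_order2_h9 (p := p) h2F _ hne with h | h | h
          · exfalso
            apply hpH
            rw [hk, ← hord', h]
            exact dvd_mul_left p 2
          · rw [hord', hq] at h
            have := Nat.le_of_dvd (by omega) h
            omega
          · rw [hord', hq] at h
            have := Nat.le_of_dvd (by omega) h
            omega
    all_goals
      rcases Nat.mod_two_eq_zero_or_one q with heven | hodd
      · exfalso
        apply hpH
        rw [hp2F.mpr heven, Nat.card_congr e.toEquiv]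
        first
          | (rw [card_alt4_h9]; norm_num)
          | (rw [card_perm4_h9]; norm_num)
          | (rw [card_A5_h9]; norm_num)
      · have h13 : 13 ≤ q := by omega
        have hk₀ : 2 * k₀ = q - 1 := by
          rcases hpar with ⟨-, h⟩ | ⟨h, -⟩
          · exact h
          · omega
        have h60 : Nat.card H ≤ 60 := by
          rw [Nat.card_congr e.toEquiv]
          first
            | (rw [card_alt4_h9]; norm_num)
            | (rw [card_perm4_h9]; norm_num)
            | (rw [card_A5_h9])
        have : 13 * 6 ≤ q * k₀ := Nat.mul_le_mul h13 (by omega)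
        omega

end

end Cfsg.Agent.Helper9
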