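import Mathlib
import Cfsg.Agent.Helper9.Dk14
import Cfsg.Agent.Helper9.Ico7

/-!
# Dickson: maximality of `A₅` in `PSL(2, p²)` (helper9)
-/

set_option autoImplicit false
open scoped MatrixGroups

namespace Cfsg.Agent.Helper9

theorem alt5_sq_not_comm_h9 :
    ∃ a b : alternatingGroup (Fin 5), a ^ 2 * b ^ 2 ≠ b ^ 2 * a ^ 2 := by
  have h1 : Equiv.swap (0 : Fin 5) 1 * Equiv.swap 1 2 ∈ alternatingGroup (Fin 5) := by
    rw [Equiv.Perm.mem_alternatingGroup, Equiv.Perm.sign_mul, Equiv.Perm.sign_swap (by decide),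
      Equiv.Perm.sign_swap (by decide)]
    rfl
  have h2 : Equiv.swap (2 : Fin 5) 3 * Equiv.swap 3 4 ∈ alternatingGroup (Fin 5) := by
    rw [Equiv.Perm.mem_alternatingGroup, Equiv.Perm.sign_mul, Equiv.Perm.sign_swap (by decide),
      Equiv.Perm.sign_swap (by decide)]
    rfl
  refine ⟨⟨_, h1⟩, ⟨_, h2⟩, ?_⟩
  intro h
  have h' := congrArg Subtype.val h
  simp only [Subgroup.coe_mul, Subgroup.coe_pow] at h'
  revert h'
  decide

set_option maxRecDepth 100000 in
theorem alt5_comm5_h9 :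
    ∃ a b : alternatingGroup (Fin 5), (a * b * a⁻¹ * b⁻¹) ^ 5 = 1 ∧ a * b * a⁻¹ * b⁻¹ ≠ 1 := by
  have h1 : Equiv.swap (0 : Fin 5) 1 * Equiv.swap 1 2 ∈ alternatingGroup (Fin 5) := by
    rw [Equiv.Perm.mem_alternatingGroup, Equiv.Perm.sign_mul, Equiv.Perm.sign_swap (by decide),
      Equiv.Perm.sign_swap (by decide)]
    rfl
  have h2 : Equiv.swap (1 : Fin 5) 3 * Equiv.swap 2 4 ∈ alternatingGroup (Fin 5) := by
    rw [Equiv.Perm.mem_alternatingGroup, Equiv.Perm.sign_mul, Equiv.Perm.sign_swap (by decide),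
      Equiv.Perm.sign_swap (by decide)]
    rfl
  refine ⟨⟨_, h1⟩, ⟨_, h2⟩, ?_, ?_⟩
  · apply Subtype.ext
    simp only [Subgroup.coe_mul, Subgroup.coe_pow, Subgroup.coe_inv, Subgroup.coe_one]
    decide
  · intro h
    have h' := congrArg Subtype.val h
    simp only [Subgroup.coe_mul, Subgroup.coe_inv, Subgroup.coe_one] at h'
    revert h'
    decide

section

variable {F : Type*} [Field F] [Fintype F] {p : ℕ} [hp : Fact p.Prime] [hc : CharP F p]

include hp hc in
/-- `A₅` is maximal in `PSL(2, p²)` for `p ≡ ±3 (mod 10)`. -/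
theorem psl2_A5_coatom_sq_h9 (hF : Fintype.card F = p ^ 2) (hp10 : p % 10 = 3 ∨ p % 10 = 7)
    (H : Subgroup (Matrix.ProjectiveSpecialLinearGroup (Fin 2) F))
    (e : H ≃* alternatingGroup (Fin 5)) : IsCoatom H := by
  have hpp := hp.out
  have hp3 : 3 ≤ p := by
    have := hpp.two_le
    omega
  have hodd : Fintype.card F % 2 = 1 := by
    rw [hF, Nat.pow_mod]
    have : p % 2 = 1 := by omega
    rw [this]
  obtain ⟨R, hR, hcardF⟩ := psl2_card_odd_h9 hodd
  have hR8 : 8 ≤ R := by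
    have : 3 ^ 2 ≤ p ^ 2 := Nat.pow_le_pow_left hp3 2
    omega
  have hcH : Nat.card H = 60 := by rw [Nat.card_congr e.toEquiv, card_A5_h9]
  have hGbig : 120 < R * (R + 1) * (R + 2) := by
    calc 120 < 8 * (8 + 1) * (8 + 2) := by norm_num
      _ ≤ R * (R + 1) * (R + 2) := Nat.mul_le_mul (Nat.mul_le_mul hR8 (by omega)) (by omega)
  obtain ⟨σ, τ, hστ⟩ := alt5_sq_not_comm_h9
  obtain ⟨σ', τ', hc5, hc1⟩ := alt5_comm5_h9
  have hab : (e.symm σ).1 ^ 2 * (e.symm τ).1 ^ 2 ≠ (e.symm τ).1 ^ 2 * (e.symm σ).1 ^ 2 := by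
    intro h
    apply hστ
    have h1 : (e.symm σ) ^ 2 * (e.symm τ) ^ 2 = (e.symm τ) ^ 2 * (e.symm σ) ^ 2 :=
      Subtype.ext h
    have h2 := congrArg e h1
    simpa using h2
  refine ⟨?_, fun M hlt => ?_⟩
  · intro htop
    rw [htop, Subgroup.card_top] at hcH
    omega
  by_contra hM
  have hle : Nat.card H ≤ Nat.card M := Subgroup.card_le_of_le hlt.le
  have hdvd : Nat.card H ∣ Nat.card M := Subgroup.card_dvd_of_le hlt.le
  rw [hcH] at hle hdvd
  have hMG : Nat.card M ≤ Nat.card (Matrix.ProjectiveSpecialLinearGroup (Fin 2) F) :=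
    Subgroup.card_le_card_group M
  have hMne : Nat.card M ≠ Nat.card (Matrix.ProjectiveSpecialLinearGroup (Fin 2) F) :=
    fun h => hM (Subgroup.eq_top_of_card_eq M h)
  have hA4 : ∀ e' : M ≃* alternatingGroup (Fin 4), False := by
    intro e'
    have := Nat.card_congr e'.toEquiv
    rw [card_alt4_h9] at this
    omega
  have hS4 : ∀ e' : M ≃* Equiv.Perm (Fin 4), False := by
    intro e'
    have := Nat.card_congr e'.toEquiv
    rw [card_perm4_h9] at this
    omega
  have hA5 : ∀ e' : M ≃* alternatingGroup (Fin 5), False := by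
    intro e'
    have h60 := Nat.card_congr e'.toEquiv
    rw [card_A5_h9] at h60
    exact hlt.ne (Subgroup.eq_of_le_of_card_ge hlt.le (by rw [hcH, h60]))
  by_cases hpM : p ∣ Nat.card M
  · obtain ⟨α, hE, hcases⟩ := dickson_cases_h9 (p := p) M hpM
    rcases hcases with hbor | ⟨hp3', h3⟩ | ⟨hp2, -⟩ |
      ⟨q₁, k, r, h4q, hq₁, hcard, hk2, hkq, hFq, -, -, -, -⟩
    · -- Borel: a commutator of order 5 would have order p
      have hma : α (e.symm σ').1 ∈ borel_h9 F := hbor ⟨_, hlt.le (e.symm σ').2, rfl⟩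
      have hmb : α (e.symm τ').1 ∈ borel_h9 F := hbor ⟨_, hlt.le (e.symm τ').2, rfl⟩
      have hpow := borel_comm_pow_h9 (p := p) _ _ hma hmb
      have h1 : α (((e.symm σ') * (e.symm τ') * (e.symm σ')⁻¹ * (e.symm τ')⁻¹ : H) :
          Matrix.ProjectiveSpecialLinearGroup (Fin 2) F) ^ p = 1 := by
        rw [← hpow]
        simp
      have h2 : ((e.symm σ') * (e.symm τ') * (e.symm σ')⁻¹ * (e.symm τ')⁻¹ : H) ^ p = 1 := by
        apply Subtype.ext
        apply α.injective
        rw [Subgroup.coe_pow, map_pow, h1]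
        simp
      have h3 : (σ' * τ' * σ'⁻¹ * τ'⁻¹) ^ p = 1 := by
        have := congrArg e h2
        simpa using this
      have hord : orderOf (σ' * τ' * σ'⁻¹ * τ'⁻¹) = 5 := by
        have : Fact (Nat.Prime 5) := ⟨by norm_num⟩
        exact orderOf_eq_prime hc5 hc1
      have h5p : 5 ∣ p := by
        rw [← hord]
        exact orderOf_dvd_of_pow_eq_one h3
      have : p = 5 := ((Nat.prime_dvd_prime_iff_eq (by norm_num) hpp).mp h5p).symm
      omega
    · rcases h3 with ⟨⟨e'⟩⟩ | ⟨⟨e'⟩⟩ | ⟨⟨e'⟩⟩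
      · exact hA4 e'
      · exact hS4 e'
      · exact hA5 e'
    · omega
    · have hr0 : r ≠ 0 := by
        rintro rfl
        rw [pow_zero] at hFq
        omega
      rcases Nat.lt_or_ge r 2 with hr1 | hr2
      · have hr1' : r = 1 := by omega
        rw [hr1', pow_one, hR] at hFq
        rw [← hFq] at hcard hkq
        rw [Nat.add_sub_cancel] at hkq
        rcases hkq with hk | hk
        · have : Nat.card M = 2 * Nat.card (Matrix.ProjectiveSpecialLinearGroup (Fin 2) F) := by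
            rw [hcard, hcardF, hk]; ring
          have hpos : 0 < Nat.card (Matrix.ProjectiveSpecialLinearGroup (Fin 2) F) := Nat.card_pos
          omega
        · apply hMne
          have : 2 * Nat.card M = 2 * Nat.card (Matrix.ProjectiveSpecialLinearGroup (Fin 2) F) := by
            rw [hcard, hcardF, ← hk]; ring
          omega
      · -- q₁ = p
        have h1 : q₁ ^ 2 ≤ p ^ 2 := by
          rw [← hF, hFq]
          exact Nat.pow_le_pow_right (by omega) hr2
        have h2 : q₁ ≤ p := (Nat.pow_le_pow_iff_left (by norm_num)).mp h1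
        have h3 : p ≤ q₁ := by
          have hf0 : (Nat.card M).factorization p ≠ 0 := by
            intro h0
            rw [h0, pow_zero] at hq₁
            omega
          rw [hq₁]
          calc p = p ^ 1 := (pow_one p).symm
            _ ≤ p ^ (Nat.card M).factorization p := Nat.pow_le_pow_right hpp.pos (by omega)
        have hqp : q₁ = p := le_antisymm h2 h3
        rw [hqp] at hcard hkq
        have h5 : 5 ∣ Nat.card M := dvd_trans (by norm_num) hdvd
        rw [hcard] at h5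
        have hp5 : Nat.Prime 5 := by norm_num
        rcases (Nat.Prime.dvd_mul hp5).mp h5 with h | h
        · omega
        · rcases (Nat.Prime.dvd_mul hp5).mp h with h | h
          · omega
          · rcases hkq with hk | hk <;> omega
  · rcases psl2_pprime_h9 (p := p) M hpM with hcyc | ⟨k, -, ⟨e'⟩⟩ | ⟨⟨e'⟩⟩ | ⟨⟨e'⟩⟩ | ⟨⟨e'⟩⟩
    · letI := IsCyclic.commGroup (α := M)
      have h1 := mul_comm (⟨(e.symm σ).1 ^ 2, hlt.le (H.pow_mem (e.symm σ).2 2)⟩ : M)
        ⟨(e.symm τ).1 ^ 2, hlt.le (H.pow_mem (e.symm τ).2 2)⟩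
      exact hab (congrArg Subtype.val h1)
    · have h1 : (⟨(e.symm σ).1, hlt.le (e.symm σ).2⟩ : M) ^ 2 * (⟨(e.symm τ).1, hlt.le (e.symm τ).2⟩ : M) ^ 2
          = (⟨(e.symm τ).1, hlt.le (e.symm τ).2⟩ : M) ^ 2 * (⟨(e.symm σ).1, hlt.le (e.symm σ).2⟩ : M) ^ 2 := by
        apply e'.injective
        rw [map_mul, map_mul, map_pow, map_pow]
        exact dihedral_sq_comm_h9 k _ _
      exact hab (congrArg Subtype.val h1)
    · exact hA4 e'
    · exact hS4 e'
    · exact hA5 e'

end

end Cfsg.Agent.Helper9
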