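import Mathlib
import Cfsg.Agent.Helper9.Tor5
import Cfsg.Agent.Helper9.Ico3
import Cfsg.Agent.Helper9.SL2n

/-!
# Dihedral subgroups of `PSL(2, q)` inside torus normalizers (helper9)
-/

set_option autoImplicit false
open scoped MatrixGroups

namespace Cfsg.Agent.Helper9

/-- Frobenius-fixed elements of the algebraic closure lie in `F`. -/
theorem alg_closure_fixed_h9 {F : Type*} [Field F] [Fintype F] (z : AlgebraicClosure F)
    (hz : z ^ Fintype.card F = z) : ∃ t : F, algebraMap F (AlgebraicClosure F) t = z := by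
  classical
  let P : Polynomial (AlgebraicClosure F) := Polynomial.X ^ Fintype.card F - Polynomial.X
  have hq : 1 < Fintype.card F := Fintype.one_lt_card
  have hP : P ≠ 0 := FiniteField.X_pow_card_sub_X_ne_zero _ hq
  have hdeg : P.natDegree = Fintype.card F := FiniteField.X_pow_card_sub_X_natDegree_eq _ hq
  let S : Finset (AlgebraicClosure F) := Finset.univ.image (algebraMap F (AlgebraicClosure F))
  have hScard : S.card = Fintype.card F := by
    rw [Finset.card_image_of_injective _ (algebraMap F (AlgebraicClosure F)).injective,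
      Finset.card_univ]
  have hsub : S ⊆ P.roots.toFinset := by
    intro a ha
    obtain ⟨t, -, rfl⟩ := Finset.mem_image.mp ha
    rw [Multiset.mem_toFinset, Polynomial.mem_roots hP, Polynomial.IsRoot.def]
    simp only [P, Polynomial.eval_sub, Polynomial.eval_pow, Polynomial.eval_X]
    rw [← map_pow, FiniteField.pow_card, sub_self]
  have hle : P.roots.toFinset.card ≤ S.card := by
    rw [hScard, ← hdeg]
    exact (Multiset.toFinset_card_le _).trans (Polynomial.card_roots' P)
  have heq := Finset.eq_of_subset_of_card_le hsub hle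
  have hzmem : z ∈ P.roots.toFinset := by
    rw [Multiset.mem_toFinset, Polynomial.mem_roots hP, Polynomial.IsRoot.def]
    simp only [P, Polynomial.eval_sub, Polynomial.eval_pow, Polynomial.eval_X]
    rw [hz, sub_self]
  rw [← heq] at hzmem
  obtain ⟨t, -, ht⟩ := Finset.mem_image.mp hzmem
  exact ⟨t, ht⟩

/-- the norm form `a² + t a c + c²` represents `-1`. -/
theorem norm_form_h9 {F : Type*} [Field F] [Fintype F] (hodd : Fintype.card F % 2 = 1)
    (t : F) (ht : t ^ 2 ≠ 4) : ∃ a c : F, a ^ 2 + t * a * c + c ^ 2 = -1 := by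
  have h2 : (2 : F) ≠ 0 := two_ne_zero_of_odd_card_h9 hodd
  have hD : (4 - t ^ 2 : F) ≠ 0 := by
    intro h
    apply ht
    linear_combination -h
  obtain ⟨u, v, huv⟩ := FiniteField.exists_root_sum_quadratic
    (f := Polynomial.X ^ 2 + Polynomial.C (4 : F))
    (g := Polynomial.C (4 - t ^ 2 : F) * Polynomial.X ^ 2)
    (Polynomial.degree_X_pow_add_C (by norm_num) _) (Polynomial.degree_C_mul_X_pow 2 hD) hodd
  simp only [Polynomial.eval_add, Polynomial.eval_pow, Polynomial.eval_X, Polynomial.eval_C,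
    Polynomial.eval_mul] at huv
  refine ⟨(u - t * v) / 2, v, ?_⟩
  field_simp
  linear_combination huv

/-- an element `C` of order `m` of `SL(2, q)` (`m` dividing `q - 1` or `q + 1`, `m > 2`,
`q` odd) together with an element `w` with `w² = -1` inverting it. -/
theorem sl2_torus_elt_h9 {F : Type*} [Field F] [Fintype F] (hodd : Fintype.card F % 2 = 1)
    (m : ℕ) (hm2 : 2 < m) (hm : m ∣ Fintype.card F - 1 ∨ m ∣ Fintype.card F + 1) :
    ∃ C w : SL(2, F), (∀ k : ℕ, C ^ k = 1 ↔ m ∣ k) ∧ w * C = C⁻¹ * w ∧ w * w = -1 := by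
  haveI := ringChar.charP F
  obtain ⟨n, hprime, hcard⟩ := FiniteField.card F (ringChar F)
  haveI : Fact (ringChar F).Prime := ⟨hprime⟩
  haveI : CharP (AlgebraicClosure F) (ringChar F) :=
    charP_of_injective_algebraMap (algebraMap F (AlgebraicClosure F)).injective _
  have hq1 : 1 ≤ Fintype.card F := Fintype.card_pos
  have hpq : ringChar F ∣ Fintype.card F := by
    rw [hcard]; exact dvd_pow_self _ n.ne_zero
  have hmF : ((m : ℕ) : F) ≠ 0 := by
    intro h
    have hpm : ringChar F ∣ m := (CharP.cast_eq_zero_iff F (ringChar F) m).mp h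
    have h1 : ringChar F ∣ 1 := by
      rcases hm with h' | h'
      · have h2 := hpm.trans h'
        have := (Nat.dvd_sub hpq h2)
        have e : Fintype.card F - (Fintype.card F - 1) = 1 := by omega
        rwa [e] at this
      · have h2 := hpm.trans h'
        have := (Nat.dvd_sub h2 hpq)
        have e : Fintype.card F + 1 - Fintype.card F = 1 := by omega
        rwa [e] at this
    exact hprime.one_lt.ne' (Nat.dvd_one.mp h1)
  haveI : NeZero ((m : ℕ) : F) := ⟨hmF⟩
  obtain ⟨ζ, hζ⟩ := HasEnoughRootsOfUnity.exists_primitiveRoot (AlgebraicClosure F) m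
  have hζ0 : ζ ≠ 0 := hζ.ne_zero (by omega)
  have hζinv : ζ * ζ⁻¹ = 1 := mul_inv_cancel₀ hζ0
  -- Frobenius
  have hfrob : ζ ^ Fintype.card F = ζ ∨ ζ ^ Fintype.card F = ζ⁻¹ := by
    rcases hm with h' | h'
    · left
      have h1 := (hζ.pow_eq_one_iff_dvd _).mpr h'
      have e : ζ ^ Fintype.card F = ζ ^ (Fintype.card F - 1) * ζ := by
        rw [← pow_succ]; congr 1; omega
      rw [e, h1, one_mul]
    · right
      have h1 := (hζ.pow_eq_one_iff_dvd _).mpr h'
      rw [pow_succ] at h1
      exact eq_inv_of_mul_eq_one_left h1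
  have hfix : (ζ + ζ⁻¹) ^ Fintype.card F = ζ + ζ⁻¹ := by
    rw [hcard, add_pow_char_pow, inv_pow, ← hcard]
    rcases hfrob with h | h
    · rw [h]
    · rw [h, inv_inv, add_comm]
  obtain ⟨t, ht⟩ := alg_closure_fixed_h9 _ hfix
  have hζ2 : ζ ^ 2 ≠ 1 := by
    intro h
    have := (hζ.pow_eq_one_iff_dvd 2).mp h
    have := Nat.le_of_dvd (by norm_num) this
    omega
  have ht4 : t ^ 2 ≠ 4 := by
    intro h
    have h1 : (algebraMap F (AlgebraicClosure F) t) ^ 2 = 4 := by
      rw [← map_pow, h, map_ofNat]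
    rw [ht] at h1
    have h3 : (ζ - ζ⁻¹) ^ 2 = 0 := by linear_combination h1 - 4 * hζinv
    have h4 : ζ - ζ⁻¹ = 0 := pow_eq_zero_iff (by norm_num) |>.mp h3
    apply hζ2
    have h5 : ζ = ζ⁻¹ := sub_eq_zero.mp h4
    calc ζ ^ 2 = ζ * ζ := sq ζ
      _ = ζ * ζ⁻¹ := by rw [← h5]
      _ = 1 := hζinv
  let C : SL(2, F) := ⟨!![0, -1; 1, t], by simp [Matrix.det_fin_two]⟩
  have c00 : C.1 0 0 = 0 := rfl
  have c01 : C.1 0 1 = -1 := rfl
  have c10 : C.1 1 0 = 1 := rfl
  have c11 : C.1 1 1 = t := rfl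
  have hgood : sl2Good_h9 C := by
    unfold sl2Good_h9
    rw [c00, c11, zero_add]
    exact ht4
  -- order of `C`
  obtain ⟨f, hf, hquad⟩ := sl2_good_hom_h9 C hgood (Subgroup.zpowers C) (by
    intro a ha
    obtain ⟨i, rfl⟩ := Subgroup.mem_zpowers_iff.mp ha
    exact (Commute.zpow_left (Commute.refl C) i).eq)
  have hl := hquad ⟨C, Subgroup.mem_zpowers C⟩
  have hCtr : (C.1 0 0 + C.1 1 1) = t := by rw [c00, c11, zero_add]
  simp only [hCtr] at hl
  rw [ht] at hl
  generalize hlv : f ⟨C, Subgroup.mem_zpowers C⟩ = l at hl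
  have hl2 : (l - ζ) * (l - ζ⁻¹) = 0 := by linear_combination hl + hζinv
  have hlpow : ∀ k : ℕ, l ^ k = 1 ↔ m ∣ k := by
    intro k
    rcases mul_eq_zero.mp hl2 with h | h
    · have : l = ζ := sub_eq_zero.mp h
      rw [this]; exact hζ.pow_eq_one_iff_dvd k
    · have : l = ζ⁻¹ := sub_eq_zero.mp h
      rw [this, inv_pow, inv_eq_one]; exact hζ.pow_eq_one_iff_dvd k
  have hCpow : ∀ k : ℕ, C ^ k = 1 ↔ m ∣ k := by
    intro k
    rw [← hlpow k, ← hlv, ← map_pow]
    constructor
    · intro h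
      have : (⟨C, Subgroup.mem_zpowers C⟩ : Subgroup.zpowers C) ^ k = 1 := Subtype.ext h
      rw [this, map_one]
    · intro h
      have h1 : (⟨C, Subgroup.mem_zpowers C⟩ : Subgroup.zpowers C) ^ k = 1 := by
        apply hf
        rw [h, map_one]
      exact congrArg Subtype.val h1
  -- the inverting element
  obtain ⟨a, c, hac⟩ := norm_form_h9 hodd t ht4
  let w : SL(2, F) := ⟨!![a, t * a + c; c, -a], by
    rw [Matrix.det_fin_two]
    simp only [Matrix.of_apply, Matrix.cons_val', Matrix.cons_val_zero, Matrix.cons_val_one,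
      Matrix.cons_val_fin_one]
    linear_combination -hac⟩
  have w00 : w.1 0 0 = a := rfl
  have w01 : w.1 0 1 = t * a + c := rfl
  have w10 : w.1 1 0 = c := rfl
  have w11 : w.1 1 1 = -a := rfl
  refine ⟨C, w, hCpow, ?_, ?_⟩
  · obtain ⟨m00, m01, m10, m11⟩ := sl2_mul_entries_h9 w C
    obtain ⟨n00, n01, n10, n11⟩ := sl2_mul_entries_h9 C⁻¹ w
    obtain ⟨i00, i01, i10, i11⟩ := sl2_inv_entries_h9 C
    apply sl2_ext_h9
    · simp only [m00, n00, i00, i01, c00, c10, c11, c01, w00, w01, w10]; ring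
    · simp only [m01, n01, i00, i01, c01, c11, w00, w01, w11]; ring
    · simp only [m10, n10, i10, i11, c00, c10, w00, w10, w11]; ring
    · simp only [m11, n11, i10, i11, c01, c11, c10, c00, w10, w11, w01]; ring
  · obtain ⟨m00, m01, m10, m11⟩ := sl2_mul_entries_h9 w w
    obtain ⟨n00, n01, n10, n11⟩ := sl2_neg_entries_h9 (1 : SL(2, F))
    obtain ⟨o00, o01, o10, o11⟩ := sl2_one_entries_h9 (F := F)
    apply sl2_ext_h9
    · simp only [m00, n00, o00, w00, w01, w10]; linear_combination hac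
    · simp only [m01, n01, o01, w00, w01, w11]; ring
    · simp only [m10, n10, o10, w00, w10, w11]; ring
    · simp only [m11, n11, o11, w10, w01, w11]; linear_combination hac

end Cfsg.Agent.Helper9
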