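import Mathlib
import Cfsg.Agent.Helper9.Tor6
import Cfsg.Agent.Helper9.Recog

/-!
# Dihedral subgroups of order `2k` of `PSL(2, q)`, `2k ∣ q ± 1` (helper9)
-/

set_option autoImplicit false
open scoped MatrixGroups

namespace Cfsg.Agent.Helper9

/-- for `q` odd and `2k ∣ q - 1` or `2k ∣ q + 1`, `k > 1`: `PSL(2, q)` contains a dihedral
subgroup of order `2k`. -/
theorem psl2_dihedral_torus_h9 {F : Type*} [Field F] [Fintype F]
    (hodd : Fintype.card F % 2 = 1) (k : ℕ) (hk : 1 < k)
    (hm : 2 * k ∣ Fintype.card F - 1 ∨ 2 * k ∣ Fintype.card F + 1) :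
    ∃ H : Subgroup (Matrix.ProjectiveSpecialLinearGroup (Fin 2) F),
      Nat.card H = 2 * k ∧ Nonempty (H ≃* DihedralGroup k) := by
  have h2 : (2 : F) ≠ 0 := two_ne_zero_of_odd_card_h9 hodd
  obtain ⟨C, w, hCpow, hwC, hww⟩ := sl2_torus_elt_h9 hodd (2 * k) (by omega) hm
  have hββ : (QuotientGroup.mk w : Matrix.ProjectiveSpecialLinearGroup (Fin 2) F)
      * QuotientGroup.mk w = 1 := by
    rw [← QuotientGroup.mk_mul, hww, psl2_mk_neg_h9]; rfl
  have hβα : (QuotientGroup.mk w : Matrix.ProjectiveSpecialLinearGroup (Fin 2) F)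
      * QuotientGroup.mk C * (QuotientGroup.mk w)⁻¹ = (QuotientGroup.mk C)⁻¹ := by
    rw [← QuotientGroup.mk_mul, ← QuotientGroup.mk_inv, ← QuotientGroup.mk_mul,
      ← QuotientGroup.mk_inv, hwC]
    congr 1
    group
  have hCk : C ^ k = 1 ∨ C ^ k = -1 := by
    apply sl2_invol_h9 h2
    rw [← pow_add, ← two_mul]
    exact (hCpow _).mpr dvd_rfl
  have hαk : (QuotientGroup.mk C : Matrix.ProjectiveSpecialLinearGroup (Fin 2) F) ^ k = 1 := by
    rw [← QuotientGroup.mk_pow]
    rcases hCk with h | h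
    · rw [h]; rfl
    · rw [h, psl2_mk_neg_h9]; rfl
  have hαpow : ∀ j : ℕ, (QuotientGroup.mk C : Matrix.ProjectiveSpecialLinearGroup (Fin 2) F) ^ j = 1
      → k ∣ j := by
    intro j hj
    have h1 : (QuotientGroup.mk (C ^ j) : Matrix.ProjectiveSpecialLinearGroup (Fin 2) F)
        = QuotientGroup.mk 1 := by
      rw [QuotientGroup.mk_pow, hj]; rfl
    have h3 : C ^ (2 * j) = 1 := by
      rw [two_mul, pow_add]
      rcases (psl2_mk_eq_iff_h9 _ _).mp h1 with h | h
      · rw [h, one_mul]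
      · rw [h, neg_mul_neg, one_mul]
    have h4 := (hCpow _).mp h3
    exact Nat.dvd_of_mul_dvd_mul_left (by norm_num) h4
  have hord : orderOf (QuotientGroup.mk C : Matrix.ProjectiveSpecialLinearGroup (Fin 2) F) = k :=
    Nat.dvd_antisymm (orderOf_dvd_of_pow_eq_one hαk) (hαpow _ (pow_orderOf_eq_one _))
  have hβnot : (QuotientGroup.mk w : Matrix.ProjectiveSpecialLinearGroup (Fin 2) F) ∉
      Subgroup.zpowers (QuotientGroup.mk C : Matrix.ProjectiveSpecialLinearGroup (Fin 2) F) := by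
    intro h
    obtain ⟨i, hi⟩ := Subgroup.mem_zpowers_iff.mp h
    rw [← QuotientGroup.mk_zpow] at hi
    have hcomm : w * C = C * w := by
      rcases (psl2_mk_eq_iff_h9 _ _).mp hi with h' | h'
      · rw [← h']
        exact ((Commute.refl C).zpow_left i).eq
      · have hw : w = -(C ^ i) := by rw [h', neg_neg]
        rw [hw, neg_mul, mul_neg]
        congr 1
        exact ((Commute.refl C).zpow_left i).eq
    rw [hwC] at hcomm
    have h5 : C⁻¹ = C := mul_right_cancel hcomm
    have h6 : C ^ 2 = 1 := by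
      rw [sq]
      nth_rewrite 1 [← h5]
      exact inv_mul_cancel C
    have h7 := (hCpow 2).mp h6
    have := Nat.le_of_dvd (by norm_num) h7
    omega
  generalize (QuotientGroup.mk C : Matrix.ProjectiveSpecialLinearGroup (Fin 2) F) = α at *
  generalize (QuotientGroup.mk w : Matrix.ProjectiveSpecialLinearGroup (Fin 2) F) = β at *
  have hnorm : β ∈ Subgroup.normalizer (Subgroup.zpowers α : Set _) := by
    apply mem_normalizer_of_conj_mem_h9
    intro x hx
    obtain ⟨i, rfl⟩ := Subgroup.mem_zpowers_iff.mp hx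
    rw [← conj_zpow, hβα, inv_zpow]
    exact Subgroup.inv_mem _ (Subgroup.zpow_mem_zpowers α i)
  have hupper := card_sup_zpowers_le_h9 (Subgroup.zpowers α) β 2 (by norm_num)
    (by rw [sq]; exact hββ) (fun a ha j => ⟨β ^ j * a * (β ^ j)⁻¹,
      (Subgroup.mem_normalizer_iff.mp (Subgroup.pow_mem _ hnorm j) a).mp ha, j, by group⟩)
  have hcα : Nat.card (Subgroup.zpowers α) = k := by rw [Nat.card_zpowers, hord]
  rw [hcα] at hupper
  have hle : Subgroup.zpowers α ≤ Subgroup.zpowers α ⊔ Subgroup.zpowers β := le_sup_left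
  have hdvd := Subgroup.card_dvd_of_le hle
  rw [hcα] at hdvd
  have hβH : β ∈ Subgroup.zpowers α ⊔ Subgroup.zpowers β :=
    Subgroup.mem_sup_right (Subgroup.mem_zpowers β)
  have hαH : α ∈ Subgroup.zpowers α ⊔ Subgroup.zpowers β :=
    Subgroup.mem_sup_left (Subgroup.mem_zpowers α)
  have hgt : k < Nat.card (Subgroup.zpowers α ⊔ Subgroup.zpowers β : Subgroup _) := by
    by_contra hh
    rw [not_lt] at hh
    have := Subgroup.eq_of_le_of_card_ge hle (by rw [hcα]; exact hh)
    apply hβnot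
    rw [this]
    exact hβH
  have hcard : Nat.card (Subgroup.zpowers α ⊔ Subgroup.zpowers β : Subgroup _) = 2 * k := by
    obtain ⟨j, hj⟩ := hdvd
    rw [hj] at hgt hupper ⊢
    have hj2 : j = 2 := by
      have h1 : 1 < j := by
        by_contra h
        rw [not_lt] at h
        have : k * j ≤ k * 1 := Nat.mul_le_mul_left k h
        omega
      have h3 : j ≤ 2 := Nat.le_of_mul_le_mul_left hupper (by omega)
      omega
    rw [hj2, mul_comm]
  refine ⟨Subgroup.zpowers α ⊔ Subgroup.zpowers β, hcard, ?_⟩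
  haveI : NeZero k := ⟨by omega⟩
  apply dihedral_equiv_of k (⟨α, hαH⟩ : (Subgroup.zpowers α ⊔ Subgroup.zpowers β : Subgroup _))
    ⟨β, hβH⟩
  · rw [Subgroup.orderOf_mk, hord]
  · exact Subtype.ext hββ
  · exact Subtype.ext hβα
  · intro h
    obtain ⟨i, hi⟩ := Subgroup.mem_zpowers_iff.mp h
    apply hβnot
    rw [Subgroup.mem_zpowers_iff]
    refine ⟨i, ?_⟩
    have := congrArg Subtype.val hi
    rwa [Subgroup.coe_zpow] at this
  · exact hcard

end Cfsg.Agent.Helper9
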