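import Mathlib
import Cfsg.Agent.Helper9.Dk15
import Cfsg.Agent.Helper9.Tor7

/-!
# Dickson: dihedral subgroups in characteristic two, overgroups of dihedral subgroups (helper9)
-/

set_option autoImplicit false
open scoped MatrixGroups

namespace Cfsg.Agent.Helper9

set_option maxRecDepth 1000000 in
theorem perm4_pow_h9 : ∀ x : Equiv.Perm (Fin 4), x ^ 2 = 1 ∨ x ^ 3 = 1 ∨ x ^ 4 = 1 := by decide

set_option maxRecDepth 1000000 in
theorem alt4_pow_h9 :
    ∀ x : Equiv.Perm (Fin 4), Equiv.Perm.sign x = 1 → x ^ 2 = 1 ∨ x ^ 3 = 1 := by decide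

set_option maxRecDepth 1000000 in
set_option maxHeartbeats 4000000 in
theorem alt5_pow_h9 :
    ∀ x : Equiv.Perm (Fin 5), Equiv.Perm.sign x = 1 → x ^ 2 = 1 ∨ x ^ 3 = 1 ∨ x ^ 5 = 1 := by
  decide

set_option maxRecDepth 1000000 in
set_option maxHeartbeats 4000000 in
theorem alt4_invol_comm_h9 :
    ∀ x y : Equiv.Perm (Fin 4), Equiv.Perm.sign x = 1 → Equiv.Perm.sign y = 1 → x ^ 2 = 1 →
      y ^ 2 = 1 → x * y = y * x := by
  decide

/-- an element `C` of order `m` of `SL(2, q)` (`m` dividing `q - 1` or `q + 1`, `m > 2`)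
together with an element `w` with `w² = -1` inverting it. -/
theorem sl2_torus_elt_gen_h9 {F : Type*} [Field F] [Fintype F]
    (hnf : ∀ t : F, t ^ 2 ≠ 4 → ∃ a c : F, a ^ 2 + t * a * c + c ^ 2 = -1)
    (m : ℕ) (hm2 : 2 < m) (hm : m ∣ Fintype.card F - 1 ∨ m ∣ Fintype.card F + 1) :
    ∃ C w : SL(2, F), (∀ k : ℕ, C ^ k = 1 ↔ m ∣ k) ∧ w * C = C⁻¹ * w ∧ w * w = -1 := by
  have := ringChar.charP F
  obtain ⟨n, hprime, hcard⟩ := FiniteField.card F (ringChar F)
  haveI : Fact (ringChar F).Prime := ⟨hprime⟩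
  haveI : CharP (AlgebraicClosure F) (ringChar F) :=
    charP_of_injective_algebraMap (algebraMap F (AlgebraicClosure F)).injective _
  have hq1 : 1 ≤ Fintype.card F := Fintype.card_pos
  have hpq : ringChar F ∣ Fintype.card F := by
    rw [hcard]; exact dvd_pow_self _ n.ne_zero
  have hmF : ((m : ℕ) : F) ≠ 0 := by
    intro h
    have hpm : ringChar F ∣ m := (CharP.cast_eq_zero_iff F (ringChar F) m).mp h
    have h1 : ringChar F ∣ 1 := by
      rcases hm with h' | h'
      · have h2 := hpm.trans h'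
        have := (Nat.dvd_sub hpq h2)
        have e : Fintype.card F - (Fintype.card F - 1) = 1 := by omega
        rwa [e] at this
      · have h2 := hpm.trans h'
        have := (Nat.dvd_sub h2 hpq)
        have e : Fintype.card F + 1 - Fintype.card F = 1 := by omega
        rwa [e] at this
    exact hprime.one_lt.ne' (Nat.dvd_one.mp h1)
  haveI : NeZero ((m : ℕ) : F) := ⟨hmF⟩
  obtain ⟨ζ, hζ⟩ := HasEnoughRootsOfUnity.exists_primitiveRoot (AlgebraicClosure F) m
  have hζ0 : ζ ≠ 0 := hζ.ne_zero (by omega)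
  have hζinv : ζ * ζ⁻¹ = 1 := mul_inv_cancel₀ hζ0
  -- Frobenius
  have hfrob : ζ ^ Fintype.card F = ζ ∨ ζ ^ Fintype.card F = ζ⁻¹ := by
    rcases hm with h' | h'
    · left
      have h1 := (hζ.pow_eq_one_iff_dvd _).mpr h'
      have e : ζ ^ Fintype.card F = ζ ^ (Fintype.card F - 1) * ζ := by
        rw [← pow_succ]; congr 1; omega
      rw [e, h1, one_mul]
    · right
      have h1 := (hζ.pow_eq_one_iff_dvd _).mpr h'
      rw [pow_succ] at h1
      exact eq_inv_of_mul_eq_one_left h1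
  have hfix : (ζ + ζ⁻¹) ^ Fintype.card F = ζ + ζ⁻¹ := by
    rw [hcard, add_pow_char_pow, inv_pow, ← hcard]
    rcases hfrob with h | h
    · rw [h]
    · rw [h, inv_inv, add_comm]
  obtain ⟨t, ht⟩ := alg_closure_fixed_h9 _ hfix
  have hζ2 : ζ ^ 2 ≠ 1 := by
    intro h
    have := (hζ.pow_eq_one_iff_dvd 2).mp h
    have := Nat.le_of_dvd (by norm_num) this
    omega
  have ht4 : t ^ 2 ≠ 4 := by
    intro h
    have h1 : (algebraMap F (AlgebraicClosure F) t) ^ 2 = 4 := by
      rw [← map_pow, h, map_ofNat]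
    rw [ht] at h1
    have h3 : (ζ - ζ⁻¹) ^ 2 = 0 := by linear_combination h1 - 4 * hζinv
    have h4 : ζ - ζ⁻¹ = 0 := pow_eq_zero_iff (by norm_num) |>.mp h3
    apply hζ2
    have h5 : ζ = ζ⁻¹ := sub_eq_zero.mp h4
    calc ζ ^ 2 = ζ * ζ := sq ζ
      _ = ζ * ζ⁻¹ := by rw [← h5]
      _ = 1 := hζinv
  let C : SL(2, F) := ⟨!![0, -1; 1, t], by simp [Matrix.det_fin_two]⟩
  have c00 : C.1 0 0 = 0 := rfl
  have c01 : C.1 0 1 = -1 := rfl
  have c10 : C.1 1 0 = 1 := rfl
  have c11 : C.1 1 1 = t := rfl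
  have hgood : sl2Good_h9 C := by
    unfold sl2Good_h9
    rw [c00, c11, zero_add]
    exact ht4
  -- order of `C`
  obtain ⟨f, hf, hquad⟩ := sl2_good_hom_h9 C hgood (Subgroup.zpowers C) (by
    intro a ha
    obtain ⟨i, rfl⟩ := Subgroup.mem_zpowers_iff.mp ha
    exact (Commute.zpow_left (Commute.refl C) i).eq)
  have hl := hquad ⟨C, Subgroup.mem_zpowers C⟩
  have hCtr : (C.1 0 0 + C.1 1 1) = t := by rw [c00, c11, zero_add]
  simp only [hCtr] at hl
  rw [ht] at hl
  generalize hlv : f ⟨C, Subgroup.mem_zpowers C⟩ = l at hl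
  have hl2 : (l - ζ) * (l - ζ⁻¹) = 0 := by linear_combination hl + hζinv
  have hlpow : ∀ k : ℕ, l ^ k = 1 ↔ m ∣ k := by
    intro k
    rcases mul_eq_zero.mp hl2 with h | h
    · have : l = ζ := sub_eq_zero.mp h
      rw [this]; exact hζ.pow_eq_one_iff_dvd k
    · have : l = ζ⁻¹ := sub_eq_zero.mp h
      rw [this, inv_pow, inv_eq_one]; exact hζ.pow_eq_one_iff_dvd k
  have hCpow : ∀ k : ℕ, C ^ k = 1 ↔ m ∣ k := by
    intro k
    rw [← hlpow k, ← hlv, ← map_pow]
    constructor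
    · intro h
      have : (⟨C, Subgroup.mem_zpowers C⟩ : Subgroup.zpowers C) ^ k = 1 := Subtype.ext h
      rw [this, map_one]
    · intro h
      have h1 : (⟨C, Subgroup.mem_zpowers C⟩ : Subgroup.zpowers C) ^ k = 1 := by
        apply hf
        rw [h, map_one]
      exact congrArg Subtype.val h1
  -- the inverting element
  obtain ⟨a, c, hac⟩ := hnf t ht4
  let w : SL(2, F) := ⟨!![a, t * a + c; c, -a], by
    rw [Matrix.det_fin_two]
    simp only [Matrix.of_apply, Matrix.cons_val', Matrix.cons_val_zero, Matrix.cons_val_one,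
      Matrix.cons_val_fin_one]
    linear_combination -hac⟩
  have w00 : w.1 0 0 = a := rfl
  have w01 : w.1 0 1 = t * a + c := rfl
  have w10 : w.1 1 0 = c := rfl
  have w11 : w.1 1 1 = -a := rfl
  refine ⟨C, w, hCpow, ?_, ?_⟩
  · obtain ⟨m00, m01, m10, m11⟩ := sl2_mul_entries_h9 w C
    obtain ⟨n00, n01, n10, n11⟩ := sl2_mul_entries_h9 C⁻¹ w
    obtain ⟨i00, i01, i10, i11⟩ := sl2_inv_entries_h9 C
    apply sl2_ext_h9
    · simp only [m00, n00, i00, i01, c00, c10, c11, c01, w00, w01, w10]; ring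
    · simp only [m01, n01, i00, i01, c01, c11, w00, w01, w11]; ring
    · simp only [m10, n10, i10, i11, c00, c10, w00, w10, w11]; ring
    · simp only [m11, n11, i10, i11, c01, c11, c10, c00, w10, w11, w01]; ring
  · obtain ⟨m00, m01, m10, m11⟩ := sl2_mul_entries_h9 w w
    obtain ⟨n00, n01, n10, n11⟩ := sl2_neg_entries_h9 (1 : SL(2, F))
    obtain ⟨o00, o01, o10, o11⟩ := sl2_one_entries_h9 (F := F)
    apply sl2_ext_h9
    · simp only [m00, n00, o00, w00, w01, w10]; linear_combination hac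
    · simp only [m01, n01, o01, w00, w01, w11]; ring
    · simp only [m10, n10, o10, w00, w10, w11]; ring
    · simp only [m11, n11, o11, w10, w01, w11]; linear_combination hac

/-- abstract: a dihedral subgroup from a rotation and a reflection. -/
theorem dihedral_sub_of_h9 {G : Type*} [Group G] [Finite G] (k : ℕ) (hk : 1 < k) (α β : G)
    (hord : orderOf α = k) (hββ : β * β = 1) (hβα : β * α * β⁻¹ = α⁻¹)
    (hβnot : β ∉ Subgroup.zpowers α) :
    ∃ H : Subgroup G, Nat.card H = 2 * k ∧ Nonempty (H ≃* DihedralGroup k) ∧ α ∈ H ∧ β ∈ H := by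
  have hnorm : β ∈ Subgroup.normalizer (Subgroup.zpowers α : Set _) := by
    apply mem_normalizer_of_conj_mem_h9
    intro x hx
    obtain ⟨i, rfl⟩ := Subgroup.mem_zpowers_iff.mp hx
    rw [← conj_zpow, hβα, inv_zpow]
    exact Subgroup.inv_mem _ (Subgroup.zpow_mem_zpowers α i)
  have hupper := card_sup_zpowers_le_h9 (Subgroup.zpowers α) β 2 (by norm_num)
    (by rw [sq]; exact hββ) (fun a ha j => ⟨β ^ j * a * (β ^ j)⁻¹,
      (Subgroup.mem_normalizer_iff.mp (Subgroup.pow_mem _ hnorm j) a).mp ha, j, by group⟩)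
  have hcα : Nat.card (Subgroup.zpowers α) = k := by rw [Nat.card_zpowers, hord]
  rw [hcα] at hupper
  have hle : Subgroup.zpowers α ≤ Subgroup.zpowers α ⊔ Subgroup.zpowers β := le_sup_left
  have hdvd := Subgroup.card_dvd_of_le hle
  rw [hcα] at hdvd
  have hβH : β ∈ Subgroup.zpowers α ⊔ Subgroup.zpowers β :=
    Subgroup.mem_sup_right (Subgroup.mem_zpowers β)
  have hαH : α ∈ Subgroup.zpowers α ⊔ Subgroup.zpowers β :=
    Subgroup.mem_sup_left (Subgroup.mem_zpowers α)
  have hgt : k < Nat.card (Subgroup.zpowers α ⊔ Subgroup.zpowers β : Subgroup _) := by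
    by_contra hh
    rw [not_lt] at hh
    have := Subgroup.eq_of_le_of_card_ge hle (by rw [hcα]; exact hh)
    apply hβnot
    rw [this]
    exact hβH
  have hcard : Nat.card (Subgroup.zpowers α ⊔ Subgroup.zpowers β : Subgroup _) = 2 * k := by
    obtain ⟨j, hj⟩ := hdvd
    rw [hj] at hgt hupper ⊢
    have hj2 : j = 2 := by
      have h1 : 1 < j := by
        by_contra h
        rw [not_lt] at h
        have : k * j ≤ k * 1 := Nat.mul_le_mul_left k h
        omega
      have h3 : j ≤ 2 := Nat.le_of_mul_le_mul_left hupper (by omega)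
      omega
    rw [hj2, mul_comm]
  refine ⟨Subgroup.zpowers α ⊔ Subgroup.zpowers β, hcard, ?_, hαH, hβH⟩
  have : NeZero k := ⟨by omega⟩
  apply dihedral_equiv_of k (⟨α, hαH⟩ : (Subgroup.zpowers α ⊔ Subgroup.zpowers β : Subgroup _))
    ⟨β, hβH⟩
  · rw [Subgroup.orderOf_mk, hord]
  · exact Subtype.ext hββ
  · exact Subtype.ext hβα
  · intro h
    obtain ⟨i, hi⟩ := Subgroup.mem_zpowers_iff.mp h
    apply hβnot
    rw [Subgroup.mem_zpowers_iff]
    refine ⟨i, ?_⟩
    have := congrArg Subtype.val hi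
    rwa [Subgroup.coe_zpow] at this
  · exact hcard

end Cfsg.Agent.Helper9
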