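import Mathlib
import Cfsg.Agent.Helper9.Dk16

/-!
# Dickson: overgroups of dihedral subgroups (helper9)
-/

set_option autoImplicit false
open scoped MatrixGroups

namespace Cfsg.Agent.Helper9

/-- dihedral subgroups of order `2m` of `PSL(2, q)`, `q` even, `m ∣ q ± 1`. -/
theorem psl2_dihedral_even_h9 {F : Type*} [Field F] [Fintype F]
    (heven : Fintype.card F % 2 = 0) (m : ℕ) (hm2 : 2 < m)
    (hm : m ∣ Fintype.card F - 1 ∨ m ∣ Fintype.card F + 1) :
    ∃ H : Subgroup (Matrix.ProjectiveSpecialLinearGroup (Fin 2) F),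
      Nat.card H = 2 * m ∧ Nonempty (H ≃* DihedralGroup m) := by
  have h2 : (2 : F) = 0 := two_eq_zero_of_even_card_h9 heven
  have hneg : (-1 : F) = 1 := by linear_combination -h2
  obtain ⟨C, w, hCpow, hwC, hww⟩ :=
    sl2_torus_elt_gen_h9 (F := F) (fun t _ => ⟨1, 0, by rw [hneg]; ring⟩) m hm2 hm
  have hββ : (QuotientGroup.mk w : Matrix.ProjectiveSpecialLinearGroup (Fin 2) F)
      * QuotientGroup.mk w = 1 := by
    rw [← QuotientGroup.mk_mul, hww, psl2_mk_neg_h9]; rfl
  have hβα : (QuotientGroup.mk w : Matrix.ProjectiveSpecialLinearGroup (Fin 2) F)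
      * QuotientGroup.mk C * (QuotientGroup.mk w)⁻¹ = (QuotientGroup.mk C)⁻¹ := by
    rw [← QuotientGroup.mk_mul, ← QuotientGroup.mk_inv, ← QuotientGroup.mk_mul,
      ← QuotientGroup.mk_inv, hwC]
    congr 1
    group
  have hinj : ∀ x : SL(2, F),
      (QuotientGroup.mk x : Matrix.ProjectiveSpecialLinearGroup (Fin 2) F) = 1 → x = 1 := by
    intro x hx
    rcases (psl2_mk_eq_iff_h9 x 1).mp hx with h | h
    · exact h
    · rw [h, sl2_neg_char_two_h9 h2]
  have hord : orderOf (QuotientGroup.mk C : Matrix.ProjectiveSpecialLinearGroup (Fin 2) F) = m := by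
    apply Nat.dvd_antisymm
    · apply orderOf_dvd_of_pow_eq_one
      rw [← QuotientGroup.mk_pow, (hCpow m).mpr dvd_rfl]
      rfl
    · apply (hCpow _).mp
      apply hinj
      rw [QuotientGroup.mk_pow, pow_orderOf_eq_one]
  have hβnot : (QuotientGroup.mk w : Matrix.ProjectiveSpecialLinearGroup (Fin 2) F) ∉
      Subgroup.zpowers (QuotientGroup.mk C : Matrix.ProjectiveSpecialLinearGroup (Fin 2) F) := by
    intro h
    obtain ⟨i, hi⟩ := Subgroup.mem_zpowers_iff.mp h
    rw [← QuotientGroup.mk_zpow] at hi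
    have hcomm : w * C = C * w := by
      rcases (psl2_mk_eq_iff_h9 _ _).mp hi with h' | h'
      · rw [← h']
        exact ((Commute.refl C).zpow_left i).eq
      · have hw : w = -(C ^ i) := by rw [h', neg_neg]
        rw [hw, neg_mul, mul_neg]
        congr 1
        exact ((Commute.refl C).zpow_left i).eq
    rw [hwC] at hcomm
    have h5 : C⁻¹ = C := mul_right_cancel hcomm
    have h6 : C ^ 2 = 1 := by
      rw [sq]
      nth_rewrite 1 [← h5]
      exact inv_mul_cancel C
    have h7 := (hCpow 2).mp h6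
    have := Nat.le_of_dvd (by norm_num) h7
    omega
  obtain ⟨H, hcard, he, -, -⟩ := dihedral_sub_of_h9 m (by omega) _ _ hord hββ hβα hβnot
  exact ⟨H, hcard, he⟩

theorem dihedral_comm_h9 (k : ℕ) :
    (DihedralGroup.sr 0 * DihedralGroup.r 1 * (DihedralGroup.sr 0)⁻¹ * (DihedralGroup.r 1)⁻¹ :
      DihedralGroup k) = ((DihedralGroup.r 1) ^ 2)⁻¹ := by
  rw [sq]
  simp

/-- a commutator in `D_k` killed by `p`, with `k` prime to `p`: then `k ≤ 2`. -/
theorem dihedral_comm_pow_h9 (k p : ℕ) (hcop : Nat.Coprime k p)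
    (h : (DihedralGroup.sr 0 * DihedralGroup.r 1 * (DihedralGroup.sr 0)⁻¹ * (DihedralGroup.r 1)⁻¹ :
      DihedralGroup k) ^ p = 1) : k ∣ 2 := by
  rw [dihedral_comm_h9, inv_pow, inv_eq_one, ← pow_mul] at h
  have h1 := orderOf_dvd_of_pow_eq_one h
  rw [DihedralGroup.orderOf_r_one] at h1
  exact Nat.Coprime.dvd_of_dvd_mul_right hcop h1

section

variable {F : Type*} [Field F] [Fintype F] {p : ℕ} [hp : Fact p.Prime] [hc : CharP F p]

include hp hc in
/-- a subgroup of order `(q + 1) q k` with `k ∈ {q - 1, (q - 1) / 2}` is the whole group. -/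
theorem top_case_false_h9 (h4 : 4 ≤ Fintype.card F)
    (M : Subgroup (Matrix.ProjectiveSpecialLinearGroup (Fin 2) F)) (hM : M ≠ ⊤) (k : ℕ)
    (hcard : Nat.card M = (Fintype.card F + 1) * (Fintype.card F * k))
    (hkq : k = Fintype.card F - 1 ∨ 2 * k = Fintype.card F - 1) : False := by
  obtain ⟨k₀, hG, hk₀2, hpar, -, -⟩ := top_struct_parity_h9 (p := p) h4
  have hMG : Nat.card M ≤ Nat.card (Matrix.ProjectiveSpecialLinearGroup (Fin 2) F) :=
    Subgroup.card_le_card_group M
  have hMne : Nat.card M ≠ Nat.card (Matrix.ProjectiveSpecialLinearGroup (Fin 2) F) :=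
    fun h => hM (Subgroup.eq_top_of_card_eq M h)
  rcases hpar with ⟨hodd, hk₀⟩ | ⟨heven, hk₀⟩
  · rcases hkq with hk | hk
    · have : Nat.card M = 2 * Nat.card (Matrix.ProjectiveSpecialLinearGroup (Fin 2) F) := by
        rw [hcard, hG, hk, ← hk₀]; ring
      have hpos : 0 < Nat.card (Matrix.ProjectiveSpecialLinearGroup (Fin 2) F) := Nat.card_pos
      omega
    · have : k = k₀ := by omega
      apply hMne
      rw [hcard, hG, this]
  · rcases hkq with hk | hk
    · apply hMne
      rw [hcard, hG, hk, hk₀]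
    · omega

end

end Cfsg.Agent.Helper9
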