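import Mathlib
import Cfsg.Agent.Helper9.Dk17

/-!
# Dickson: overgroups of dihedral subgroups (helper9)
-/

set_option autoImplicit false
open scoped MatrixGroups

namespace Cfsg.Agent.Helper9

theorem order_le_of_pow_h9 {G : Type*} [Group G] (x : G) (k n : ℕ) (hk : orderOf x = k)
    (hn : 0 < n) (h : x ^ n = 1) : k ≤ n :=
  hk ▸ Nat.le_of_dvd hn (orderOf_dvd_of_pow_eq_one h)

/-- element orders in `A₄`, `S₄`, `A₅` are at most `5`. -/
theorem small_group_order_h9 {M : Type*} [Group M] (x : M) (k : ℕ) (hk : orderOf x = k)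
    (h : Nonempty (M ≃* alternatingGroup (Fin 4)) ∨ Nonempty (M ≃* Equiv.Perm (Fin 4)) ∨
      Nonempty (M ≃* alternatingGroup (Fin 5))) : k ≤ 5 := by
  rcases h with ⟨⟨e⟩⟩ | ⟨⟨e⟩⟩ | ⟨⟨e⟩⟩
  · have hord : orderOf (e x) = k := by rw [MulEquiv.orderOf_eq, hk]
    have hord' : orderOf ((e x : alternatingGroup (Fin 4)) : Equiv.Perm (Fin 4)) = k := by
      rw [Subgroup.orderOf_coe, hord]
    rcases alt4_pow_h9 (e x).1 (Equiv.Perm.mem_alternatingGroup.mp (e x).2) with h | h
    · have := order_le_of_pow_h9 _ k 2 hord' (by norm_num) h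
      omega
    · have := order_le_of_pow_h9 _ k 3 hord' (by norm_num) h
      omega
  · have hord : orderOf (e x) = k := by rw [MulEquiv.orderOf_eq, hk]
    rcases perm4_pow_h9 (e x) with h | h | h
    · have := order_le_of_pow_h9 _ k 2 hord (by norm_num) h
      omega
    · have := order_le_of_pow_h9 _ k 3 hord (by norm_num) h
      omega
    · have := order_le_of_pow_h9 _ k 4 hord (by norm_num) h
      omega
  · have hord : orderOf (e x) = k := by rw [MulEquiv.orderOf_eq, hk]
    have hord' : orderOf ((e x : alternatingGroup (Fin 5)) : Equiv.Perm (Fin 5)) = k := by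
      rw [Subgroup.orderOf_coe, hord]
    rcases alt5_pow_h9 (e x).1 (Equiv.Perm.mem_alternatingGroup.mp (e x).2) with h | h | h
    · have := order_le_of_pow_h9 _ k 2 hord' (by norm_num) h
      omega
    · have := order_le_of_pow_h9 _ k 3 hord' (by norm_num) h
      omega
    · exact order_le_of_pow_h9 _ k 5 hord' (by norm_num) h

section

variable {F : Type*} [Field F] [Fintype F] {p : ℕ} [hp : Fact p.Prime] [hc : CharP F p]

include hp hc in
/-- **overgroups of dihedral subgroups**. -/
theorem dihedral_over_h9 (h4 : 4 ≤ Fintype.card F) (k : ℕ) (hk3 : 3 ≤ k)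
    (hcop : Nat.Coprime k p)
    (H : Subgroup (Matrix.ProjectiveSpecialLinearGroup (Fin 2) F)) (e : H ≃* DihedralGroup k)
    (M : Subgroup (Matrix.ProjectiveSpecialLinearGroup (Fin 2) F)) (hlt : H < M) (hM : M ≠ ⊤) :
    (∃ m, k ∣ m ∧ k < m ∧
      ((Fintype.card F % 2 = 1 ∧ (2 * m ∣ Fintype.card F - 1 ∨ 2 * m ∣ Fintype.card F + 1)) ∨
       (Fintype.card F % 2 = 0 ∧ (m ∣ Fintype.card F - 1 ∨ m ∣ Fintype.card F + 1)))) ∨
    (k ≤ 5 ∧ Fintype.card F % 2 = 1 ∧ (Nonempty (M ≃* alternatingGroup (Fin 4)) ∨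
      Nonempty (M ≃* Equiv.Perm (Fin 4)) ∨ Nonempty (M ≃* alternatingGroup (Fin 5)))) ∨
    (∃ q₁, 4 ≤ q₁ ∧ q₁ ^ 2 ≤ Fintype.card F ∧ k ≤ q₁ + 1) := by
  classical
  have hkpos : NeZero k := ⟨by omega⟩
  obtain ⟨y, hy⟩ : ∃ y : H, y = e.symm (DihedralGroup.r 1) := ⟨_, rfl⟩
  obtain ⟨s, hs⟩ : ∃ s : H, s = e.symm (DihedralGroup.sr 0) := ⟨_, rfl⟩
  have hordy : orderOf y = k := by rw [hy, MulEquiv.orderOf_eq, DihedralGroup.orderOf_r_one]
  have hordy' : orderOf (y : Matrix.ProjectiveSpecialLinearGroup (Fin 2) F) = k := by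
    rw [Subgroup.orderOf_coe, hordy]
  have hcH : Nat.card H = 2 * k := by rw [Nat.card_congr e.toEquiv, DihedralGroup.nat_card]
  have hdvd : Nat.card H ∣ Nat.card M := Subgroup.card_dvd_of_le hlt.le
  have hltc : Nat.card H < Nat.card M := by
    by_contra h
    exact hlt.ne (Subgroup.eq_of_le_of_card_ge hlt.le (not_lt.mp h))
  rw [hcH] at hdvd hltc
  have hcommp : (s * y * s⁻¹ * y⁻¹) ^ p = 1 → False := by
    intro h
    have h1 := congrArg e h
    rw [map_pow, map_mul, map_mul, map_mul, map_inv, map_inv, hs, hy, e.apply_symm_apply,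
      e.apply_symm_apply, map_one] at h1
    have := Nat.le_of_dvd (by norm_num) (dihedral_comm_pow_h9 k p hcop h1)
    omega
  have hyM : orderOf (⟨y.1, hlt.le y.2⟩ : M) = k := by
    rw [Subgroup.orderOf_mk, hordy']
  have hpar : p = 2 ↔ Fintype.card F % 2 = 0 := char_two_iff_even_h9 (p := p)
  by_cases hpM : p ∣ Nat.card M
  · obtain ⟨α, hE, hcases⟩ := dickson_cases_h9 (p := p) M hpM
    rcases hcases with hbor | ⟨hp3, h3⟩ | ⟨hp2, m, hm, hmodd, ⟨e'⟩⟩ |
      ⟨q₁, k', r, h4q, hq₁, hcard, hk2, hkq, hFq, -, -, -, htori⟩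
    · exfalso
      have hma : α s.1 ∈ borel_h9 F := hbor ⟨_, hlt.le s.2, rfl⟩
      have hmb : α y.1 ∈ borel_h9 F := hbor ⟨_, hlt.le y.2, rfl⟩
      have hpow := borel_comm_pow_h9 (p := p) _ _ hma hmb
      have h1 : α ((s * y * s⁻¹ * y⁻¹ : H) : Matrix.ProjectiveSpecialLinearGroup (Fin 2) F) ^ p
          = 1 := by
        rw [← hpow]
        simp
      have h2 : (s * y * s⁻¹ * y⁻¹ : H) ^ p = 1 := by
        apply Subtype.ext
        apply α.injective
        rw [Subgroup.coe_pow, map_pow, h1]
        simp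
      exact hcommp h2
    · right; left
      refine ⟨small_group_order_h9 _ k hyM h3, ?_, h3⟩
      by_contra hodd
      have : p = 2 := hpar.mpr (by omega)
      omega
    · left
      rw [hm] at hdvd hltc
      refine ⟨m, Nat.dvd_of_mul_dvd_mul_left (by norm_num) hdvd, by omega, Or.inr ⟨hpar.mp hp2, ?_⟩⟩
      have hord : orderOf (e'.symm (DihedralGroup.r 1)) = m := by
        rw [MulEquiv.orderOf_eq, DihedralGroup.orderOf_r_one]
      have hord' : orderOf ((e'.symm (DihedralGroup.r 1) : M) :
          Matrix.ProjectiveSpecialLinearGroup (Fin 2) F) = m := by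
        rw [Subgroup.orderOf_coe, hord]
      have hne : ((e'.symm (DihedralGroup.r 1) : M) :
          Matrix.ProjectiveSpecialLinearGroup (Fin 2) F) ≠ 1 := by
        intro h
        rw [h, orderOf_one] at hord'
        omega
      rcases psl2_elt_order_h9 (p := p) _ hne with h | h | h
      · rw [hord', hp2] at h; omega
      · rw [hord'] at h; exact Or.inl h
      · rw [hord'] at h; exact Or.inr h
    · have hr0 : r ≠ 0 := by
        rintro rfl
        rw [pow_zero] at hFq
        omega
      rcases Nat.lt_or_ge r 2 with hr1 | hr2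
      · exfalso
        have hr1' : r = 1 := by omega
        rw [hr1', pow_one] at hFq
        rw [← hFq] at hcard hkq
        exact top_case_false_h9 (p := p) h4 M hM k' hcard hkq
      · right; right
        refine ⟨q₁, h4q, ?_, ?_⟩
        · rw [hFq]
          exact Nat.pow_le_pow_right (by omega) hr2
        · have hmem : α y.1 ∈ M.map α.toMonoidHom := ⟨y.1, hlt.le y.2, rfl⟩
          have hordα : orderOf (α y.1) = k := by rw [MulEquiv.orderOf_eq, hordy']
          have gy : sl2Good_h9 (Quotient.out (α y.1) : SL(2, F)) := by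
            by_contra hng
            have h1 := psl2_pow_p_of_not_good_h9 (p := p) (α y.1) hng
            have h2 := orderOf_dvd_of_pow_eq_one h1
            rw [hordα] at h2
            have := Nat.Coprime.eq_one_of_dvd hcop h2
            omega
          have h1 : Subgroup.zpowers (⟨α y.1, hmem⟩ : M.map α.toMonoidHom) ≤
              psl2Tau_h9 (M.map α.toMonoidHom) ⟨α y.1, hmem⟩ :=
            Subgroup.zpowers_le.mpr ((psl2MPart_h9 (M.map α.toMonoidHom)).h_mem _)
          have h2 := Subgroup.card_dvd_of_le h1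
          rw [Nat.card_zpowers, Subgroup.orderOf_mk, hordα] at h2
          have h3 : k ≤ Nat.card (psl2Tau_h9 (M.map α.toMonoidHom) ⟨α y.1, hmem⟩) :=
            Nat.le_of_dvd Nat.card_pos h2
          have hk' : k' ≤ q₁ - 1 := by
            rcases hkq with hk | hk <;> omega
          rcases htori ⟨α y.1, hmem⟩ gy with ht | ht
          · omega
          · have h5 : Nat.card (psl2Tau_h9 (M.map α.toMonoidHom) ⟨α y.1, hmem⟩) * (q₁ - 1)
                ≤ (q₁ + 1) * (q₁ - 1) := by
              rw [ht, mul_comm]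
              exact Nat.mul_le_mul_left _ hk'
            have h6 := Nat.le_of_mul_le_mul_right h5 (by omega)
            omega
  · rcases psl2_pprime_h9 (p := p) M hpM with hcyc | ⟨m, hm, ⟨e'⟩⟩ | h3 | h3 | h3
    · exfalso
      let _ := IsCyclic.commGroup (α := M)
      have h1 := mul_comm (⟨s.1, hlt.le s.2⟩ : M) ⟨y.1, hlt.le y.2⟩
      have h1' : s.1 * y.1 = y.1 * s.1 := congrArg Subtype.val h1
      have h2 : s * y = y * s := Subtype.ext h1'
      apply hcommp
      have h3 : s * y * s⁻¹ * y⁻¹ = 1 := by rw [h2]; group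
      rw [h3, one_pow]
    · left
      rw [hm] at hdvd hltc hpM
      have hodd : Fintype.card F % 2 = 1 := by
        by_contra hodd
        have : p = 2 := hpar.mpr (by omega)
        apply hpM
        rw [this]
        exact dvd_mul_right 2 m
      refine ⟨m, Nat.dvd_of_mul_dvd_mul_left (by norm_num) hdvd, by omega, Or.inl ⟨hodd, ?_⟩⟩
      have h2F : (2 : F) ≠ 0 := two_ne_zero_of_odd_card_h9 hodd
      have hord : orderOf (e'.symm (DihedralGroup.r 1)) = m := by
        rw [MulEquiv.orderOf_eq, DihedralGroup.orderOf_r_one]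
      have hord' : orderOf ((e'.symm (DihedralGroup.r 1) : M) :
          Matrix.ProjectiveSpecialLinearGroup (Fin 2) F) = m := by
        rw [Subgroup.orderOf_coe, hord]
      have hne : ((e'.symm (DihedralGroup.r 1) : M) :
          Matrix.ProjectiveSpecialLinearGroup (Fin 2) F) ≠ 1 := by
        intro h
        rw [h, orderOf_one] at hord'
        omega
      rcases psl2_elt_order2_h9 (p := p) h2F _ hne with h | h | h
      · exfalso
        apply hpM
        rw [← hord', h]
        exact dvd_mul_left p 2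
      · rw [hord'] at h; exact Or.inl h
      · rw [hord'] at h; exact Or.inr h
    all_goals
      right; left
      have h3' : Nonempty (M ≃* alternatingGroup (Fin 4)) ∨ Nonempty (M ≃* Equiv.Perm (Fin 4)) ∨
          Nonempty (M ≃* alternatingGroup (Fin 5)) := by
        first
          | exact Or.inl h3
          | exact Or.inr (Or.inl h3)
          | exact Or.inr (Or.inr h3)
      refine ⟨small_group_order_h9 _ k hyM h3', ?_, h3'⟩
      by_contra hodd
      have : p = 2 := hpar.mpr (by omega)
      apply hpM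
      rw [this]
      exact dvd_trans (dvd_mul_right 2 k) hdvd

end

end Cfsg.Agent.Helper9
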