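import Mathlib
import Cfsg.Agent.Helper9.Dk18

/-!
# Dickson: tools for the subfield case (helper9)
-/

set_option autoImplicit false
open scoped MatrixGroups

namespace Cfsg.Agent.Helper9

/-- an element conjugating `y` into its class normalizes the class. -/
theorem psl2Tau_normalizer_of_conj_h9 {F : Type*} [Field F] [Finite F]
    (H : Subgroup (Matrix.ProjectiveSpecialLinearGroup (Fin 2) F)) (y n : H) (hy : y ≠ 1)
    (h : n * y * n⁻¹ ∈ psl2Tau_h9 H y) : n ∈ Subgroup.normalizer (psl2Tau_h9 H y : Set H) := by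
  have hz1 : n * y * n⁻¹ ≠ 1 := KPart_h9.conj_ne_one hy
  have hpart : psl2Tau_h9 H (n * y * n⁻¹) = psl2Tau_h9 H y :=
    (psl2MPart_h9 H).h_part y (n * y * n⁻¹) hy h hz1
  apply mem_normalizer_of_conj_mem_h9
  intro w hw
  have := ((psl2MPart_h9 H).h_conj n y w).mp hw
  rw [← hpart]
  exact this

/-- elements fixed by the Frobenius of a finite subfield lie in it. -/
theorem field_fixed_h9 {K L : Type*} [Field K] [Fintype K] [Field L] (f : K →+* L) (z : L)
    (hz : z ^ Fintype.card K = z) : ∃ t : K, f t = z := by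
  classical
  let P : Polynomial L := Polynomial.X ^ Fintype.card K - Polynomial.X
  have hq : 1 < Fintype.card K := Fintype.one_lt_card
  have hP : P ≠ 0 := FiniteField.X_pow_card_sub_X_ne_zero _ hq
  have hdeg : P.natDegree = Fintype.card K := FiniteField.X_pow_card_sub_X_natDegree_eq _ hq
  let S : Finset L := Finset.univ.image f
  have hScard : S.card = Fintype.card K := by
    rw [Finset.card_image_of_injective _ f.injective, Finset.card_univ]
  have hsub : S ⊆ P.roots.toFinset := by
    intro a ha
    obtain ⟨t, -, rfl⟩ := Finset.mem_image.mp ha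
    rw [Multiset.mem_toFinset, Polynomial.mem_roots hP, Polynomial.IsRoot.def]
    simp only [P, Polynomial.eval_sub, Polynomial.eval_pow, Polynomial.eval_X]
    rw [← map_pow, FiniteField.pow_card, sub_self]
  have hle : P.roots.toFinset.card ≤ S.card := by
    rw [hScard, ← hdeg]
    exact (Multiset.toFinset_card_le _).trans (Polynomial.card_roots' P)
  have heq := Finset.eq_of_subset_of_card_le hsub hle
  have hzmem : z ∈ P.roots.toFinset := by
    rw [Multiset.mem_toFinset, Polynomial.mem_roots hP, Polynomial.IsRoot.def]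
    simp only [P, Polynomial.eval_sub, Polynomial.eval_pow, Polynomial.eval_X]
    rw [hz, sub_self]
  rw [← heq] at hzmem
  obtain ⟨t, -, ht⟩ := Finset.mem_image.mp hzmem
  exact ⟨t, ht⟩

/-- the subfield subgroup is generated by its elementary matrices. -/
theorem psl2Sub_le_of_gen_h9 {K F : Type*} [Field K] [Field F] (f : K →+* F)
    (M : Subgroup (Matrix.ProjectiveSpecialLinearGroup (Fin 2) F))
    (hE : ∀ a : K, (QuotientGroup.mk (sl2E_h9 (f a)) :
      Matrix.ProjectiveSpecialLinearGroup (Fin 2) F) ∈ M)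
    (hL : ∀ a : K, (QuotientGroup.mk (sl2L_h9 (f a)) :
      Matrix.ProjectiveSpecialLinearGroup (Fin 2) F) ∈ M) :
    (psl2SubHom_h9 f).range ≤ M := by
  have htop : M.comap (psl2SubHom_h9 f) = ⊤ := by
    apply sl2_gen_EL_h9
    · intro s
      show psl2SubHom_h9 f (sl2E_h9 s) ∈ M
      rw [psl2SubHom_apply_h9, sl2_map_E_h9]
      exact hE s
    · intro s
      show psl2SubHom_h9 f (sl2L_h9 s) ∈ M
      rw [psl2SubHom_apply_h9, sl2_map_L_h9]
      exact hL s
  rintro _ ⟨x, rfl⟩
  have : x ∈ M.comap (psl2SubHom_h9 f) := by rw [htop]; exact Subgroup.mem_top x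
  exact this

/-- the image of a maximal subgroup under an automorphism is maximal. -/
theorem coatom_map_eq_h9 {G : Type*} [Group G] (α : G ≃* G) (M : Subgroup G) (hM : IsCoatom M)
    (X : Subgroup G) (hle : M.map α.toMonoidHom ≤ X) (hX : X ≠ ⊤) : M.map α.toMonoidHom = X := by
  have h1 : M ≤ X.comap α.toMonoidHom := by
    intro x hx
    exact hle ⟨x, hx, rfl⟩
  have h2 : X.comap α.toMonoidHom ≠ ⊤ := by
    intro h
    apply hX
    rw [eq_top_iff]
    intro y _
    obtain ⟨x, rfl⟩ := α.surjective y
    have : x ∈ X.comap α.toMonoidHom := by rw [h]; exact Subgroup.mem_top x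
    exact this
  rcases hM.le_iff.mp h1 with h | h
  · exact absurd h h2
  · rw [← h]
    exact Subgroup.map_comap_eq_self_of_surjective α.surjective X

end Cfsg.Agent.Helper9
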