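import Mathlib
import Cfsg.Agent.Helper9.Dk19

/-!
# Dickson: the subfield subgroup inside a structured subgroup; torus normalizers (helper9)
-/

set_option autoImplicit false
open scoped MatrixGroups

namespace Cfsg.Agent.Helper9

theorem dihedral_conj_r_h9 (k : ℕ) (x : DihedralGroup k) :
    x * DihedralGroup.r 1 * x⁻¹ = DihedralGroup.r 1 ∨
      x * DihedralGroup.r 1 * x⁻¹ = (DihedralGroup.r 1)⁻¹ := by
  cases x with
  | r i => left; simp
  | sr i => right; simp

section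

variable {F : Type*} [Field F] [Fintype F] {p : ℕ} [hp : Fact p.Prime] [hc : CharP F p]

include hp hc in
/-- the subfield subgroup over the Galois field model lies in a structured subgroup. -/
theorem struct_psl_h9 (M' : Subgroup (Matrix.ProjectiveSpecialLinearGroup (Fin 2) F))
    (q₁ n₁ r : ℕ) (hq₁ : q₁ = p ^ n₁) (h4 : 4 ≤ q₁) (hFq : Fintype.card F = q₁ ^ r)
    (hS : Nat.card (npS_h9 M') = q₁)
    (hEL : ∀ s ∈ npS_h9 M',
      (QuotientGroup.mk (sl2E_h9 s) : Matrix.ProjectiveSpecialLinearGroup (Fin 2) F) ∈ M' ∧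
      (QuotientGroup.mk (sl2L_h9 s) : Matrix.ProjectiveSpecialLinearGroup (Fin 2) F) ∈ M') :
    ∃ f₀ : GaloisField p n₁ →+* F, Nat.card (GaloisField p n₁) = q₁ ∧
      (∀ a, f₀ a ∈ npS_h9 M') ∧ (psl2SubHom_h9 f₀).range ≤ M' := by
  have hn₁ : n₁ ≠ 0 := by
    rintro rfl
    rw [pow_zero] at hq₁
    omega
  letI : Fintype (GaloisField p n₁) := Fintype.ofFinite _
  have hc0 : Fintype.card (GaloisField p n₁) = q₁ := by
    rw [← Nat.card_eq_fintype_card, GaloisField.card p n₁ hn₁, hq₁]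
  obtain ⟨f₀⟩ := finite_field_embed_h9 (F := F) (K := GaloisField p n₁) r (by rw [hc0, hFq])
  have hmem : ∀ a, f₀ a ∈ npS_h9 M' := by
    intro a
    have : Fintype (npS_h9 M') := Fintype.ofFinite _
    obtain ⟨t, ht⟩ := field_fixed_h9 (npS_h9 M').subtype (f₀ a) (by
      rw [← Nat.card_eq_fintype_card, hS, ← hc0, ← map_pow, FiniteField.pow_card])
    rw [← ht]
    exact t.2
  exact ⟨f₀, by rw [GaloisField.card p n₁ hn₁, hq₁], hmem,
    psl2Sub_le_of_gen_h9 f₀ M' (fun a => (hEL _ (hmem a)).1) (fun a => (hEL _ (hmem a)).2)⟩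

include hp hc in
/-- the normalizer of the torus of a regular semisimple element of `PSL(2, q)`. -/
theorem top_torus_h9 (h4 : 4 ≤ Fintype.card F)
    (y : Matrix.ProjectiveSpecialLinearGroup (Fin 2) F)
    (gy : sl2Good_h9 (Quotient.out y : SL(2, F))) :
    ∃ (N' : Subgroup (Matrix.ProjectiveSpecialLinearGroup (Fin 2) F)) (t : ℕ),
      (∀ m : Matrix.ProjectiveSpecialLinearGroup (Fin 2) F,
        (m * y * m⁻¹ = y ∨ m * y * m⁻¹ = y⁻¹) → m ∈ N') ∧
      N' ≠ ⊤ ∧ Nat.card N' = 2 * t ∧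
      (Fintype.card F % 2 = 0 → (t = Fintype.card F - 1 ∨ t = Fintype.card F + 1)) ∧
      (Fintype.card F % 2 = 1 → (2 * t = Fintype.card F - 1 ∨ 2 * t = Fintype.card F + 1)) := by
  obtain ⟨k₀, hG, hk₀2, hpar, -, htori⟩ := top_struct_parity_h9 (p := p) h4
  let y' : (⊤ : Subgroup (Matrix.ProjectiveSpecialLinearGroup (Fin 2) F)) := ⟨y, Subgroup.mem_top _⟩
  obtain ⟨hN, ht⟩ := htori y' gy
  have hy1 : y' ≠ 1 := psl2_good_ne_one_h9 (p := p) ⊤ y' gy
  have hyT : y' ∈ psl2Tau_h9 ⊤ y' := (psl2MPart_h9 ⊤).h_mem y'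
  refine ⟨(Subgroup.normalizer (psl2Tau_h9 ⊤ y' : Set (⊤ : Subgroup
    (Matrix.ProjectiveSpecialLinearGroup (Fin 2) F)))).map
    (⊤ : Subgroup (Matrix.ProjectiveSpecialLinearGroup (Fin 2) F)).subtype,
    Nat.card (psl2Tau_h9 ⊤ y'), ?_, ?_, ?_, ?_, ?_⟩
  · intro m hm
    refine ⟨⟨m, Subgroup.mem_top _⟩, ?_, rfl⟩
    apply psl2Tau_normalizer_of_conj_h9 ⊤ y' _ hy1
    rcases hm with h | h
    · have e : (⟨m, Subgroup.mem_top _⟩ : (⊤ : Subgroup
          (Matrix.ProjectiveSpecialLinearGroup (Fin 2) F))) * y' * ⟨m, Subgroup.mem_top _⟩⁻¹ = y' :=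
        Subtype.ext h
      rw [e]
      exact hyT
    · have e : (⟨m, Subgroup.mem_top _⟩ : (⊤ : Subgroup
          (Matrix.ProjectiveSpecialLinearGroup (Fin 2) F))) * y' * ⟨m, Subgroup.mem_top _⟩⁻¹ = y'⁻¹ :=
        Subtype.ext h
      rw [e]
      exact Subgroup.inv_mem _ hyT
  · intro htop
    have h1 : Nat.card ((Subgroup.normalizer (psl2Tau_h9 ⊤ y' : Set (⊤ : Subgroup
        (Matrix.ProjectiveSpecialLinearGroup (Fin 2) F)))).map
        (⊤ : Subgroup (Matrix.ProjectiveSpecialLinearGroup (Fin 2) F)).subtype)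
        = Nat.card (Matrix.ProjectiveSpecialLinearGroup (Fin 2) F) := by
      rw [htop, Subgroup.card_top]
    rw [Subgroup.card_map_of_injective (Subgroup.subtype_injective _), hN, hG] at h1
    have hle : Nat.card (psl2Tau_h9 ⊤ y') ≤ Fintype.card F + 1 := by
      rcases psl2Tau_dvd_good_h9 ⊤ y' gy with h | h
      · have := Nat.le_of_dvd (by omega) h
        omega
      · exact Nat.le_of_dvd (by omega) h
    have h5 : 4 * 2 ≤ Fintype.card F * k₀ := Nat.mul_le_mul h4 hk₀2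
    have h6 : (Fintype.card F + 1) * 8 ≤ (Fintype.card F + 1) * (Fintype.card F * k₀) :=
      Nat.mul_le_mul_left _ h5
    omega
  · rw [Subgroup.card_map_of_injective (Subgroup.subtype_injective _), hN]
  · intro heven
    rcases hpar with ⟨hodd, -⟩ | ⟨-, hk₀⟩
    · omega
    · rcases ht with h | h
      · left; rw [h, hk₀]
      · right
        rw [hk₀] at h
        have h7 : Nat.card (psl2Tau_h9 ⊤ y') * (Fintype.card F - 1)
            = (Fintype.card F + 1) * (Fintype.card F - 1) := by rw [h, mul_comm]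
        exact Nat.eq_of_mul_eq_mul_right (by omega) h7
  · intro hodd
    rcases hpar with ⟨-, hk₀⟩ | ⟨heven, -⟩
    · rcases ht with h | h
      · left; rw [h, hk₀]
      · right
        have h7 : (2 * Nat.card (psl2Tau_h9 ⊤ y')) * (Fintype.card F - 1)
            = (Fintype.card F + 1) * (Fintype.card F - 1) := by
          rw [mul_assoc, h, ← hk₀]; ring
        exact Nat.eq_of_mul_eq_mul_right (by omega) h7
    · omega

end

end Cfsg.Agent.Helper9
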