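import Mathlib
import Cfsg.Agent.Helper9.Dk20

/-!
# Dickson: the maximal subgroups of `PSL(2, q)`, `q` even (helper9)
-/

set_option autoImplicit false
open scoped MatrixGroups

namespace Cfsg.Agent.Helper9

theorem cube_lt_h9 (a b : ℕ) (h : a < b) : a * (a + 1) * (a + 2) < b * (b + 1) * (b + 2) := by
  have h2 : a * (a + 1) ≤ b * (b + 1) := Nat.mul_le_mul h.le (by omega)
  have h3 : a * (a + 1) * (a + 2) ≤ b * (b + 1) * (a + 2) := Nat.mul_le_mul_right _ h2
  have h4 : b * (b + 1) * (a + 2) < b * (b + 1) * (b + 2) :=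
    Nat.mul_lt_mul_of_pos_left (by omega) (Nat.mul_pos (by omega) (by omega))
  omega

set_option maxHeartbeats 1000000 in
/-- **Dickson**: the maximal subgroups of `PSL(2, q)`, `q ≥ 4` even. -/
theorem psl2_even_coatom_h9 {F : Type*} [Field F] [Fintype F] [hc : CharP F 2]
    (h4 : 4 ≤ Fintype.card F) (M : Subgroup (Matrix.ProjectiveSpecialLinearGroup (Fin 2) F))
    (hM : IsCoatom M) :
    Nat.card M = Fintype.card F * (Fintype.card F - 1) ∨
    Nonempty (M ≃* DihedralGroup (Fintype.card F - 1)) ∨
    Nonempty (M ≃* DihedralGroup (Fintype.card F + 1)) ∨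
    ∃ n₁ r : ℕ, r.Prime ∧ 2 ≤ n₁ ∧ Fintype.card F = (2 ^ n₁) ^ r ∧
      Nonempty (M ≃* Matrix.ProjectiveSpecialLinearGroup (Fin 2) (GaloisField 2 n₁)) := by
  have heven : Fintype.card F % 2 = 0 := (char_two_iff_even_h9 (F := F) (p := 2)).mp rfl
  have h2F : (2 : F) = 0 := two_eq_zero_of_even_card_h9 heven
  obtain ⟨k₀, hG, hk₀2, hpar, hB, -⟩ := top_struct_parity_h9 (F := F) (p := 2) h4
  have hk₀ : k₀ = Fintype.card F - 1 := by
    rcases hpar with ⟨h, -⟩ | ⟨-, h⟩
    · omega
    · exact h
  have hqk : 4 * 2 ≤ Fintype.card F * k₀ := Nat.mul_le_mul h4 hk₀2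
  have hBtop : borel_h9 F ≠ ⊤ := by
    intro h
    rw [h, Subgroup.card_top, hG] at hB
    have : Fintype.card F * k₀ < (Fintype.card F + 1) * (Fintype.card F * k₀) := by
      have h5 : 1 * (Fintype.card F * k₀) < (Fintype.card F + 1) * (Fintype.card F * k₀) :=
        Nat.mul_lt_mul_of_pos_right (by omega) (by omega)
      omega
    omega
  by_cases hpM : 2 ∣ Nat.card M
  · obtain ⟨α, hE, hcases⟩ := dickson_cases_h9 (p := 2) M hpM
    have hcardeq : Nat.card (M.map α.toMonoidHom) = Nat.card M :=
      (Nat.card_congr (α.subgroupMap M).toEquiv).symm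
    rcases hcases with hbor | ⟨hp3, -⟩ | ⟨-, k, hk, hkodd, ⟨e⟩⟩ |
      ⟨q₁, k', r, h4q, hq₁, hcard, hk2, hkq, hFq, hS, hEL, -, -⟩
    · left
      have := coatom_map_eq_h9 α M hM (borel_h9 F) hbor hBtop
      rw [← hcardeq, this, hB, hk₀]
    · omega
    · by_cases hk1 : k = 1
      · exfalso
        have hu1 : (QuotientGroup.mk (sl2E_h9 (1 : F)) :
            Matrix.ProjectiveSpecialLinearGroup (Fin 2) F) ≠ 1 := fun h =>
          npU_ne_one_h9 (⊤ : Subgroup (Matrix.ProjectiveSpecialLinearGroup (Fin 2) F)) 1 one_ne_zero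
            (Subgroup.mem_top _) (Subtype.ext h)
        have hu2 : (QuotientGroup.mk (sl2E_h9 (1 : F)) :
            Matrix.ProjectiveSpecialLinearGroup (Fin 2) F) ^ 2 = 1 := by
          rw [← QuotientGroup.mk_pow, sl2E_pow_h9, Nat.cast_ofNat, h2F, zero_mul, sl2E_zero_h9]
          rfl
        have hord : orderOf (QuotientGroup.mk (sl2E_h9 (1 : F)) :
            Matrix.ProjectiveSpecialLinearGroup (Fin 2) F) = 2 := orderOf_eq_prime hu2 hu1
        have hz : Subgroup.zpowers (QuotientGroup.mk (sl2E_h9 (1 : F)) :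
            Matrix.ProjectiveSpecialLinearGroup (Fin 2) F) ≤ M.map α.toMonoidHom :=
          Subgroup.zpowers_le.mpr hE
        have heq := Subgroup.eq_of_le_of_card_ge hz
          (by rw [Nat.card_zpowers, hord, hcardeq, hk, hk1])
        have hEB : (QuotientGroup.mk (sl2E_h9 (1 : F)) :
            Matrix.ProjectiveSpecialLinearGroup (Fin 2) F) ∈ borel_h9 F := by
          rw [mem_borel_h9]
          rcases psl2_out_mk_h9 (sl2E_h9 (1 : F)) with h | h
          · rw [h, (sl2E_entries_h9 (1 : F)).2.2.1]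
          · rw [h, (sl2_neg_entries_h9 _).2.2.1, (sl2E_entries_h9 (1 : F)).2.2.1, neg_zero]
        have hle : M.map α.toMonoidHom ≤ borel_h9 F := by
          rw [← heq]
          exact Subgroup.zpowers_le.mpr hEB
        have h5 := coatom_map_eq_h9 α M hM (borel_h9 F) hle hBtop
        have h6 : Nat.card (M.map α.toMonoidHom) = Nat.card (borel_h9 F) := by rw [h5]
        rw [hcardeq, hk, hk1, hB] at h6
        omega
      · have hk3 : 3 ≤ k := by omega
        obtain ⟨y, hy⟩ : ∃ y : M, y = e.symm (DihedralGroup.r 1) := ⟨_, rfl⟩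
        have hordy : orderOf (y : Matrix.ProjectiveSpecialLinearGroup (Fin 2) F) = k := by
          rw [Subgroup.orderOf_coe, hy, MulEquiv.orderOf_eq, DihedralGroup.orderOf_r_one]
        have gy : sl2Good_h9 (Quotient.out y.1 : SL(2, F)) := by
          by_contra hng
          have h1 := psl2_pow_p_of_not_good_h9 (p := 2) y.1 hng
          have h2 := orderOf_dvd_of_pow_eq_one h1
          rw [hordy] at h2
          have := Nat.le_of_dvd (by norm_num) h2
          omega
        obtain ⟨N', t, hmem, hNtop, hNcard, hteven, -⟩ := top_torus_h9 (p := 2) h4 y.1 gy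
        have hMN : M ≤ N' := by
          intro m hm
          apply hmem
          rcases dihedral_conj_r_h9 k (e ⟨m, hm⟩) with h | h
          · left
            have h1 : (⟨m, hm⟩ : M) * y * (⟨m, hm⟩ : M)⁻¹ = y := by
              apply e.injective
              rw [map_mul, map_mul, map_inv, hy, e.apply_symm_apply, h]
            exact congrArg Subtype.val h1
          · right
            have h1 : (⟨m, hm⟩ : M) * y * (⟨m, hm⟩ : M)⁻¹ = y⁻¹ := by
              apply e.injective
              rw [map_mul, map_mul, map_inv, map_inv, hy, e.apply_symm_apply, h]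
            exact congrArg Subtype.val h1
        rcases hM.le_iff.mp hMN with h | h
        · exact absurd h hNtop
        · have h5 : Nat.card N' = Nat.card M := by rw [h]
          rw [hNcard, hk] at h5
          have hkt : k = t := by omega
          rcases hteven heven with h6 | h6
          · right; left
            rw [← h6, ← hkt]
            exact ⟨e⟩
          · right; right; left
            rw [← h6, ← hkt]
            exact ⟨e⟩
    · right; right; right
      have hf0 : (Nat.card M).factorization 2 ≠ 0 := by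
        intro h0
        rw [h0, pow_zero] at hq₁
        omega
      have hq₁even : q₁ % 2 = 0 := by
        rw [hq₁]
        exact Nat.even_iff.mp (Nat.even_pow.mpr ⟨even_two, hf0⟩)
      have hk' : k' = q₁ - 1 := by
        rcases hkq with h | h
        · exact h
        · omega
      have hr0 : r ≠ 0 := by
        rintro rfl
        rw [pow_zero] at hFq
        omega
      have hr2 : 2 ≤ r := by
        by_contra hlt
        have hr1' : r = 1 := by omega
        rw [hr1', pow_one] at hFq
        rw [← hFq] at hcard hkq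
        exact top_case_false_h9 (p := 2) h4 M hM.1 k' hcard hkq
      obtain ⟨n₁, hn₁⟩ : ∃ n₁, n₁ = (Nat.card M).factorization 2 := ⟨_, rfl⟩
      rw [← hn₁] at hq₁ hf0
      obtain ⟨f₀, hc0, hmem₀, hle₀⟩ := struct_psl_h9 (p := 2) (M.map α.toMonoidHom) q₁ n₁ r hq₁ h4q
        hFq hS hEL
      let _ : Fintype (GaloisField 2 n₁) := Fintype.ofFinite _
      have hc0' : Fintype.card (GaloisField 2 n₁) = q₁ := by
        rw [← Nat.card_eq_fintype_card, hc0]
      obtain ⟨c, hc, hcardK⟩ := psl2_card_even_h9 (F := GaloisField 2 n₁)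
        (by rw [hc0']; exact hq₁even)
      obtain ⟨e₀⟩ := psl2Sub_equiv_h9 f₀
      have hrange : Nat.card (psl2SubHom_h9 f₀).range = c * (c + 1) * (c + 2) := by
        rw [Nat.card_congr e₀.toEquiv, hcardK]
      have hqc : q₁ = c + 1 := by rw [← hc0', hc]
      have hMcard : Nat.card M = c * (c + 1) * (c + 2) := by
        rw [hcard, hk', hqc, Nat.add_sub_cancel]
        ring
      have heq : (psl2SubHom_h9 f₀).range = M.map α.toMonoidHom := by
        apply Subgroup.eq_of_le_of_card_ge hle₀
        rw [hrange, hcardeq, hMcard]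
      have hn₁2 : 2 ≤ n₁ := by
        by_contra hlt
        have h01 : n₁ = 0 ∨ n₁ = 1 := by omega
        rcases h01 with h | h
        · rw [h, pow_zero] at hq₁; omega
        · rw [h, pow_one] at hq₁; omega
      refine ⟨n₁, r, ?_, hn₁2, by rw [hFq, hq₁],
        ⟨((α.subgroupMap M).trans (MulEquiv.subgroupCongr heq.symm)).trans e₀⟩⟩
      by_contra hrp
      obtain ⟨a, hadvd, ha2, har⟩ := (Nat.not_prime_iff_exists_dvd_lt hr2).mp hrp
      obtain ⟨b, hb⟩ := hadvd
      have hb2 : 2 ≤ b := by
        by_contra hlt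
        have h5 : a * b ≤ a * 1 := Nat.mul_le_mul_left a (by omega)
        omega
      have hna : n₁ * a ≠ 0 := Nat.mul_ne_zero (by omega) (by omega)
      let _ : Fintype (GaloisField 2 (n₁ * a)) := Fintype.ofFinite _
      have hc1 : Fintype.card (GaloisField 2 (n₁ * a)) = q₁ ^ a := by
        rw [← Nat.card_eq_fintype_card, GaloisField.card 2 (n₁ * a) hna, hq₁, pow_mul]
      obtain ⟨f₁⟩ := finite_field_embed_h9 (F := F) (K := GaloisField 2 (n₁ * a)) b
        (by rw [hc1, hFq, hb, pow_mul])
      have hsub : ∀ a₀ : GaloisField 2 n₁, ∃ t, f₁ t = f₀ a₀ := by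
        intro a₀
        apply field_fixed_h9 f₁
        rw [hc1, ← hc0', ← map_pow, FiniteField.pow_card_pow]
      have hle₁ : (psl2SubHom_h9 f₀).range ≤ (psl2SubHom_h9 f₁).range := by
        apply psl2Sub_le_of_gen_h9
        · intro a₀
          obtain ⟨t, ht⟩ := hsub a₀
          rw [← ht]
          exact ⟨sl2E_h9 t, by rw [psl2SubHom_apply_h9, sl2_map_E_h9]⟩
        · intro a₀
          obtain ⟨t, ht⟩ := hsub a₀
          rw [← ht]
          exact ⟨sl2L_h9 t, by rw [psl2SubHom_apply_h9, sl2_map_L_h9]⟩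
      have hqa_even : q₁ ^ a % 2 = 0 :=
        Nat.even_iff.mp (Nat.even_pow.mpr ⟨Nat.even_iff.mpr hq₁even, by omega⟩)
      obtain ⟨c₁, hc₁, hcardK₁⟩ := psl2_card_even_h9 (F := GaloisField 2 (n₁ * a))
        (by rw [hc1]; exact hqa_even)
      obtain ⟨e₁⟩ := psl2Sub_equiv_h9 f₁
      have hrange₁ : Nat.card (psl2SubHom_h9 f₁).range = c₁ * (c₁ + 1) * (c₁ + 2) := by
        rw [Nat.card_congr e₁.toEquiv, hcardK₁]
      have hqc₁ : q₁ ^ a = c₁ + 1 := by rw [← hc1, hc₁]
      have hlt1 : q₁ < q₁ ^ a := by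
        calc q₁ = q₁ ^ 1 := (pow_one q₁).symm
          _ < q₁ ^ a := Nat.pow_lt_pow_right (by omega) (by omega)
      have hlt2 : q₁ ^ a < Fintype.card F := by
        rw [hFq]
        exact Nat.pow_lt_pow_right (by omega) har
      have hH₁top : (psl2SubHom_h9 f₁).range ≠ ⊤ := by
        intro h
        rw [h, Subgroup.card_top, hG, hk₀] at hrange₁
        obtain ⟨Q, hQ⟩ : ∃ Q, Fintype.card F = Q + 1 := ⟨Fintype.card F - 1, by omega⟩
        rw [hQ, Nat.add_sub_cancel] at hrange₁
        have h5 := cube_lt_h9 c₁ Q (by omega)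
        have h6 : (Q + 1 + 1) * ((Q + 1) * Q) = Q * (Q + 1) * (Q + 2) := by ring
        omega
      have h7 := coatom_map_eq_h9 α M hM _ (by rw [← heq]; exact hle₁) hH₁top
      have h8 : Nat.card (M.map α.toMonoidHom) = Nat.card (psl2SubHom_h9 f₁).range := by rw [h7]
      rw [hcardeq, hMcard, hrange₁] at h8
      have h9 := cube_lt_h9 c c₁ (by omega)
      omega
  · exfalso
    have hcyc : IsCyclic M := by
      rcases psl2_pprime_h9 (p := 2) M hpM with hcyc | ⟨k, hk, -⟩ | ⟨⟨e⟩⟩ | ⟨⟨e⟩⟩ | ⟨⟨e⟩⟩
      · exact hcyc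
      · exfalso; apply hpM; rw [hk]; exact dvd_mul_right 2 k
      · exfalso; apply hpM; rw [Nat.card_congr e.toEquiv, card_alt4_h9]; norm_num
      · exfalso; apply hpM; rw [Nat.card_congr e.toEquiv, card_perm4_h9]; norm_num
      · exfalso; apply hpM; rw [Nat.card_congr e.toEquiv, card_A5_h9]; norm_num
    obtain ⟨z, hz⟩ := IsCyclic.exists_generator (α := M)
    have hord : orderOf z = Nat.card M := orderOf_eq_card_of_forall_mem_zpowers hz
    by_cases hz1 : z = 1
    · -- M = ⊥
      have hMbot : M = ⊥ := by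
        rw [Subgroup.eq_bot_iff_forall]
        intro m hm
        have := hz ⟨m, hm⟩
        rw [hz1, Subgroup.zpowers_one_eq_bot, Subgroup.mem_bot] at this
        exact congrArg Subtype.val this
      rcases hM.le_iff.mp (by rw [hMbot]; exact bot_le : M ≤ borel_h9 F) with h | h
      · exact hBtop h
      · rw [h, hMbot, Subgroup.card_bot] at hB
        omega
    · have hz1' : (z : Matrix.ProjectiveSpecialLinearGroup (Fin 2) F) ≠ 1 :=
        fun h => hz1 (Subtype.ext h)
      have gz : sl2Good_h9 (Quotient.out z.1 : SL(2, F)) := by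
        by_contra hng
        have h1 := psl2_pow_p_of_not_good_h9 (p := 2) z.1 hng
        have h2 : orderOf (z : Matrix.ProjectiveSpecialLinearGroup (Fin 2) F) = 2 :=
          orderOf_eq_prime h1 hz1'
        apply hpM
        rw [← hord, ← Subgroup.orderOf_coe, h2]
      obtain ⟨N', t, hmem, hNtop, hNcard, -, -⟩ := top_torus_h9 (p := 2) h4 z.1 gz
      have hMN : M ≤ N' := by
        intro m hm
        apply hmem
        left
        obtain ⟨i, hi⟩ := Subgroup.mem_zpowers_iff.mp (hz ⟨m, hm⟩)
        have h1 : (⟨m, hm⟩ : M) * z * (⟨m, hm⟩ : M)⁻¹ = z := by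
          rw [← hi]
          group
        exact congrArg Subtype.val h1
      rcases hM.le_iff.mp hMN with h | h
      · exact hNtop h
      · apply hpM
        rw [← h, hNcard]
        exact dvd_mul_right 2 t

end Cfsg.Agent.Helper9
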