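import Mathlib
import Cfsg.Agent.Helper9.Dk21

/-!
# Dickson: solvability tools (helper9)
-/

set_option autoImplicit false
open scoped MatrixGroups
open scoped commutatorElement

namespace Cfsg.Agent.Helper9

/-- a group whose commutators commute is solvable. -/
theorem solvable_of_comm_comm_h9 {G : Type*} [Group G]
    (h : ∀ a b c d : G, ⁅a, b⁆ * ⁅c, d⁆ = ⁅c, d⁆ * ⁅a, b⁆) : Group.IsSolvable G := by
  refine ⟨⟨2, ?_⟩⟩
  rw [derivedSeries_succ, derivedSeries_one, Subgroup.commutator_eq_bot_iff_le_centralizer]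
  have hdef : commutator G = Subgroup.closure {g | ∃ g₁ ∈ (⊤ : Subgroup G), ∃ g₂ ∈ (⊤ : Subgroup G),
      ⁅g₁, g₂⁆ = g} := Subgroup.commutator_def ⊤ ⊤
  rw [hdef, Subgroup.closure_le]
  rintro s ⟨a, -, b, -, rfl⟩
  rw [SetLike.mem_coe, Subgroup.mem_centralizer_iff]
  intro x hx
  have hx' : x ∈ Subgroup.centralizer ({⁅a, b⁆} : Set G) := by
    refine (Subgroup.closure_le _).mpr ?_ hx
    rintro t ⟨c, -, d, -, rfl⟩
    rw [SetLike.mem_coe, Subgroup.mem_centralizer_iff]
    intro y hy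
    rw [Set.mem_singleton_iff] at hy
    rw [hy]
    exact h a b c d
  rw [Subgroup.mem_centralizer_iff] at hx'
  exact (hx' _ rfl).symm

theorem dihedral_solvable_h9 (k : ℕ) : Group.IsSolvable (DihedralGroup k) := by
  apply solvable_of_comm_comm_h9
  have key : ∀ a b : DihedralGroup k, ∃ i, ⁅a, b⁆ = DihedralGroup.r i := by
    intro a b
    rw [commutatorElement_def]
    cases a <;> cases b <;> first | (simp; done) | exact ⟨0, by simp⟩
  intro a b c d
  obtain ⟨i, hi⟩ := key a b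
  obtain ⟨j, hj⟩ := key c d
  rw [hi, hj, DihedralGroup.r_mul_r, DihedralGroup.r_mul_r, add_comm]

set_option maxRecDepth 1000000 in
set_option maxHeartbeats 4000000 in
theorem alt4_comm_sq_h9 :
    ∀ x y : Equiv.Perm (Fin 4), Equiv.Perm.sign x = 1 → Equiv.Perm.sign y = 1 →
      (x * y * x⁻¹ * y⁻¹) ^ 2 = 1 := by
  decide

theorem alt4_solvable_h9 : Group.IsSolvable (alternatingGroup (Fin 4)) := by
  apply solvable_of_comm_comm_h9
  intro a b c d
  apply Subtype.ext
  have ha := Equiv.Perm.mem_alternatingGroup.mp a.2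
  have hb := Equiv.Perm.mem_alternatingGroup.mp b.2
  have hc := Equiv.Perm.mem_alternatingGroup.mp c.2
  have hd := Equiv.Perm.mem_alternatingGroup.mp d.2
  have h1 : (⁅a, b⁆ : alternatingGroup (Fin 4)).1 = a.1 * b.1 * a.1⁻¹ * b.1⁻¹ := rfl
  have h2 : (⁅c, d⁆ : alternatingGroup (Fin 4)).1 = c.1 * d.1 * c.1⁻¹ * d.1⁻¹ := rfl
  rw [Subgroup.coe_mul, Subgroup.coe_mul, h1, h2]
  apply alt4_invol_comm_h9
  · simp [Equiv.Perm.sign_mul, ha, hb]
  · simp [Equiv.Perm.sign_mul, hc, hd]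
  · exact alt4_comm_sq_h9 _ _ ha hb
  · exact alt4_comm_sq_h9 _ _ hc hd

theorem perm4_solvable_h9 : Group.IsSolvable (Equiv.Perm (Fin 4)) := by
  have := alt4_solvable_h9
  apply Group.isSolvable_of_ker_le_range (alternatingGroup (Fin 4)).subtype
    (Equiv.Perm.sign (α := Fin 4))
  intro x hx
  exact ⟨⟨x, hx⟩, rfl⟩

theorem alt5_not_solvable_h9 : ¬ Group.IsSolvable (alternatingGroup (Fin 5)) := by
  intro h
  have : IsSimpleGroup (alternatingGroup (Fin 5)) := alternatingGroup.isSimpleGroup (by simp)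
  have hcomm := (IsSimpleGroup.comm_iff_isSolvable (G := alternatingGroup (Fin 5))).mpr h
  obtain ⟨a, b, hab⟩ := alt5_sq_not_comm_h9
  exact hab (hcomm _ _)

/-- `E(1)` and `L(1)` do not commute in `PSL(2, K)`. -/
theorem psl2_EL_not_comm_h9 {K : Type*} [Field K] :
    (QuotientGroup.mk (sl2E_h9 (1 : K)) : Matrix.ProjectiveSpecialLinearGroup (Fin 2) K) *
      QuotientGroup.mk (sl2L_h9 (1 : K)) ≠
    QuotientGroup.mk (sl2L_h9 (1 : K)) * QuotientGroup.mk (sl2E_h9 (1 : K)) := by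
  intro h
  rw [← QuotientGroup.mk_mul, ← QuotientGroup.mk_mul] at h
  obtain ⟨m00, m01, m10, m11⟩ := sl2_mul_entries_h9 (sl2E_h9 (1 : K)) (sl2L_h9 (1 : K))
  obtain ⟨n00, n01, n10, n11⟩ := sl2_mul_entries_h9 (sl2L_h9 (1 : K)) (sl2E_h9 (1 : K))
  obtain ⟨e00, e01, e10, e11⟩ := sl2E_entries_h9 (1 : K)
  obtain ⟨l00, l01, l10, l11⟩ := sl2L_entries_h9 (1 : K)
  rcases (psl2_mk_eq_iff_h9 _ _).mp h with h' | h'
  · have h1 := congrArg (fun x : SL(2, K) => x.1 0 0) h'
    simp only [m00, n00, e00, e01, l00, l10, l01] at h1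
    have : (1 : K) = 0 := by linear_combination h1
    exact one_ne_zero this
  · have h1 := congrArg (fun x : SL(2, K) => x.1 0 0) h'
    have h2 := congrArg (fun x : SL(2, K) => x.1 0 1) h'
    simp only [m00, (sl2_neg_entries_h9 _).1, n00, e00, e01, l00, l10, l01] at h1
    simp only [m01, (sl2_neg_entries_h9 _).2.1, n01, e00, e01, l01, l11, l00] at h2
    have : (1 : K) = 0 := by linear_combination h1 - h2
    exact one_ne_zero this

end Cfsg.Agent.Helper9
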