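import Mathlib
import Cfsg.Agent.Helper9.Dk22

/-!
# Dickson: minimal simple groups `PSL(2, q)` (helper9)
-/

set_option autoImplicit false
open scoped MatrixGroups
open scoped commutatorElement

namespace Cfsg.Agent.Helper9

theorem solvable_of_equiv_h9 {G H : Type*} [Group G] [Group H] (e : G ≃* H)
    (h : Group.IsSolvable H) : Group.IsSolvable G :=
  Group.isSolvable_of_isSolvable_injective (f := e.toMonoidHom) e.injective

theorem cyclic_solvable_h9 {G : Type*} [Group G] (h : IsCyclic G) : Group.IsSolvable G := by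
  obtain ⟨z, hz⟩ := IsCyclic.exists_generator (α := G)
  apply Group.isSolvable_of_comm
  intro a b
  obtain ⟨i, rfl⟩ := Subgroup.mem_zpowers_iff.mp (hz a)
  obtain ⟨j, rfl⟩ := Subgroup.mem_zpowers_iff.mp (hz b)
  rw [← zpow_add, ← zpow_add, add_comm]

theorem borel_comm_E_h9 {F : Type*} [Field F] [Fintype F]
    (a b : Matrix.ProjectiveSpecialLinearGroup (Fin 2) F)
    (ha : a ∈ borel_h9 F) (hb : b ∈ borel_h9 F) :
    ∃ s : F, a * b * a⁻¹ * b⁻¹ = QuotientGroup.mk (sl2E_h9 s) := by
  rw [mem_borel_h9] at ha hb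
  obtain ⟨s, hs⟩ := sl2_upper_comm_h9 _ _ ha hb
  refine ⟨s, ?_⟩
  rw [← hs, QuotientGroup.mk_mul, QuotientGroup.mk_mul, QuotientGroup.mk_mul, QuotientGroup.mk_inv,
    QuotientGroup.mk_inv, QuotientGroup.out_eq', QuotientGroup.out_eq']

theorem borel_sub_solvable_h9 {F : Type*} [Field F] [Fintype F]
    (H : Subgroup (Matrix.ProjectiveSpecialLinearGroup (Fin 2) F)) (hH : H ≤ borel_h9 F) :
    Group.IsSolvable H := by
  apply solvable_of_comm_comm_h9
  intro a b c d
  obtain ⟨s, hs⟩ := borel_comm_E_h9 a.1 b.1 (hH a.2) (hH b.2)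
  obtain ⟨t, ht⟩ := borel_comm_E_h9 c.1 d.1 (hH c.2) (hH d.2)
  apply Subtype.ext
  have h1 : (⁅a, b⁆ : H).1 = a.1 * b.1 * a.1⁻¹ * b.1⁻¹ := rfl
  have h2 : (⁅c, d⁆ : H).1 = c.1 * d.1 * c.1⁻¹ * d.1⁻¹ := rfl
  rw [Subgroup.coe_mul, Subgroup.coe_mul, h1, h2, hs, ht, ← QuotientGroup.mk_mul,
    ← QuotientGroup.mk_mul, sl2E_mul_h9, sl2E_mul_h9, add_comm]

theorem psl2_not_solvable_h9 {K : Type*} [Field K] (h4 : 4 ≤ Nat.card K) :
    ¬ Group.IsSolvable (Matrix.ProjectiveSpecialLinearGroup (Fin 2) K) := by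
  intro h
  have : IsSimpleGroup (Matrix.ProjectiveSpecialLinearGroup (Fin 2) K) :=
    Matrix.ProjectiveSpecialLinearGroup.rank_two_simple h4
  have hcomm := (IsSimpleGroup.comm_iff_isSolvable
    (G := Matrix.ProjectiveSpecialLinearGroup (Fin 2) K)).mpr h
  exact psl2_EL_not_comm_h9 (hcomm _ _)

section

variable {F : Type*} [Field F] [Fintype F] {p : ℕ} [hp : Fact p.Prime] [hc : CharP F p]

include hp hc in
/-- proper subgroups are solvable when there is no proper `A₅` and no proper subfield of order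
at least `4`. -/
theorem psl2_proper_solvable_h9 (h4 : 4 ≤ Fintype.card F)
    (h60 : ¬ 60 ∣ Nat.card (Matrix.ProjectiveSpecialLinearGroup (Fin 2) F) ∨
      Nat.card (Matrix.ProjectiveSpecialLinearGroup (Fin 2) F) = 60)
    (hsub : ∀ q₁ r : ℕ, 4 ≤ q₁ → Fintype.card F = q₁ ^ r → r = 1)
    (H : Subgroup (Matrix.ProjectiveSpecialLinearGroup (Fin 2) F)) (hH : H ≠ ⊤) :
    Group.IsSolvable H := by
  have hA5 : ¬ Nonempty (H ≃* alternatingGroup (Fin 5)) := by
    rintro ⟨e⟩
    have hc60 : Nat.card H = 60 := by rw [Nat.card_congr e.toEquiv, card_A5_h9]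
    have hdvd : Nat.card H ∣ Nat.card (Matrix.ProjectiveSpecialLinearGroup (Fin 2) F) :=
      Subgroup.card_subgroup_dvd_card H
    rcases h60 with h | h
    · exact h (hc60 ▸ hdvd)
    · exact hH (Subgroup.eq_top_of_card_eq H (by rw [hc60, h]))
  have hA4 : Nonempty (H ≃* alternatingGroup (Fin 4)) → Group.IsSolvable H := by
    rintro ⟨e⟩
    exact solvable_of_equiv_h9 e alt4_solvable_h9
  have hS4 : Nonempty (H ≃* Equiv.Perm (Fin 4)) → Group.IsSolvable H := by
    rintro ⟨e⟩
    exact solvable_of_equiv_h9 e perm4_solvable_h9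
  by_cases hpH : p ∣ Nat.card H
  · obtain ⟨α, hE, hcases⟩ := dickson_cases_h9 (p := p) H hpH
    rcases hcases with hbor | ⟨hp3, h3⟩ | ⟨hp2, k, hk, hkodd, ⟨e⟩⟩ |
      ⟨q₁, k, r, h4q, -, hcard, hk2, hkq, hFq, -, -, -, -⟩
    · exact solvable_of_equiv_h9 (α.subgroupMap H) (borel_sub_solvable_h9 _ hbor)
    · rcases h3 with h | h | h
      · exact hA4 h
      · exact hS4 h
      · exact absurd h hA5
    · exact solvable_of_equiv_h9 e (dihedral_solvable_h9 k)
    · exfalso
      have hr := hsub q₁ r h4q hFq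
      rw [hr, pow_one] at hFq
      rw [← hFq] at hcard hkq
      exact top_case_false_h9 (p := p) h4 H hH k hcard hkq
  · rcases psl2_pprime_h9 (p := p) H hpH with h | ⟨k, -, ⟨e⟩⟩ | h | h | h
    · exact cyclic_solvable_h9 h
    · exact solvable_of_equiv_h9 e (dihedral_solvable_h9 k)
    · exact hA4 h
    · exact hS4 h
    · exact absurd h hA5

end

theorem two_pow_odd_mod5_h9 (r : ℕ) (hr : r % 2 = 1) : 2 ^ r % 5 = 2 ∨ 2 ^ r % 5 = 3 := by
  have h4 : ∀ m : ℕ, 4 ^ m % 5 = 1 ∨ 4 ^ m % 5 = 4 := by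
    intro m
    induction m with
    | zero => left; rfl
    | succ k ih => rw [pow_succ]; omega
  obtain ⟨m, rfl⟩ : ∃ m, r = 2 * m + 1 := ⟨r / 2, by omega⟩
  have e : 2 ^ (2 * m + 1) = 4 ^ m * 2 := by rw [pow_succ, pow_mul]; norm_num
  rw [e]
  have := h4 m
  omega

theorem mod5_prod_h9 (R : ℕ) (h : (R + 1) % 5 = 2 ∨ (R + 1) % 5 = 3) :
    (R * (R + 1) * (R + 2)) % 5 ≠ 0 := by
  have hR : R % 5 = 1 ∨ R % 5 = 2 := by omega
  rcases hR with hR | hR
  · have hm : R ≡ 1 [MOD 5] := hR
    have h2 : (R * (R + 1) * (R + 2)) % 5 = (1 * (1 + 1) * (1 + 2)) % 5 :=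
      (hm.mul (hm.add_right 1)).mul (hm.add_right 2)
    omega
  · have hm : R ≡ 2 [MOD 5] := hR
    have h2 : (R * (R + 1) * (R + 2)) % 5 = (2 * (2 + 1) * (2 + 2)) % 5 :=
      (hm.mul (hm.add_right 1)).mul (hm.add_right 2)
    omega

theorem prime_pow_eq_pow_h9 (ℓ r q₁ s : ℕ) (hℓ : ℓ.Prime) (hr : r.Prime) (h4 : ℓ < q₁)
    (h : ℓ ^ r = q₁ ^ s) : s = 1 := by
  have hs0 : s ≠ 0 := by
    rintro rfl
    rw [pow_zero] at h
    have : 1 < ℓ ^ r := Nat.one_lt_pow hr.ne_zero hℓ.one_lt
    omega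
  have hdvd : q₁ ∣ ℓ ^ r := by rw [h]; exact dvd_pow_self q₁ hs0
  obtain ⟨c, hcr, rfl⟩ := (Nat.dvd_prime_pow hℓ).mp hdvd
  have hc2 : 2 ≤ c := by
    by_contra hlt
    have : c = 0 ∨ c = 1 := by omega
    rcases this with rfl | rfl
    · rw [pow_zero] at h4
      have := hℓ.one_lt
      omega
    · rw [pow_one] at h4
      omega
  rw [← pow_mul] at h
  have hrcs : r = c * s := Nat.pow_right_injective hℓ.two_le h
  have hcdvd : c ∣ r := ⟨s, hrcs⟩
  rcases (Nat.dvd_prime hr).mp hcdvd with h1 | h1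
  · omega
  · rw [h1] at hrcs
    have hrpos := hr.pos
    have : r * 1 = r * s := by rw [mul_one]; exact hrcs
    exact (Nat.eq_of_mul_eq_mul_left hrpos this).symm

/-- the listed `PSL(2, q)` are minimal simple. -/
theorem psl2_minimal_of_list_h9 {F : Type*} [Field F] [Fintype F]
    (h : (∃ r : ℕ, r.Prime ∧ Fintype.card F = 2 ^ r) ∨
      (∃ r : ℕ, r.Prime ∧ r ≠ 2 ∧ Fintype.card F = 3 ^ r) ∨
      ((Fintype.card F).Prime ∧ 5 < Fintype.card F ∧
        (Fintype.card F % 5 = 2 ∨ Fintype.card F % 5 = 3)) ∨ Fintype.card F = 5) :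
    IsSimpleGroup (Matrix.ProjectiveSpecialLinearGroup (Fin 2) F) ∧
    ¬ IsMulCommutative (Matrix.ProjectiveSpecialLinearGroup (Fin 2) F) ∧
    ∀ H : Subgroup (Matrix.ProjectiveSpecialLinearGroup (Fin 2) F), H ≠ ⊤ →
      Group.IsSolvable H := by
  obtain ⟨p, hcp⟩ := CharP.exists F
  have hpp : p.Prime := CharP.char_is_prime F p
  have : Fact p.Prime := ⟨hpp⟩
  suffices hkey : 4 ≤ Fintype.card F ∧
      (¬ 60 ∣ Nat.card (Matrix.ProjectiveSpecialLinearGroup (Fin 2) F) ∨
        Nat.card (Matrix.ProjectiveSpecialLinearGroup (Fin 2) F) = 60) ∧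
      (∀ q₁ r : ℕ, 4 ≤ q₁ → Fintype.card F = q₁ ^ r → r = 1) by
    obtain ⟨h4, h60, hsub⟩ := hkey
    refine ⟨Matrix.ProjectiveSpecialLinearGroup.rank_two_simple
      (by rw [Nat.card_eq_fintype_card]; exact h4), ?_,
      fun H hH => psl2_proper_solvable_h9 (p := p) h4 h60 hsub H hH⟩
    intro hcomm
    rw [isMulCommutative_iff] at hcomm
    exact psl2_EL_not_comm_h9 (hcomm _ _)
  rcases h with ⟨r, hr, hq⟩ | ⟨r, hr, hr2, hq⟩ | ⟨hqp, hq5, hqm⟩ | hq
  · -- q = 2^r
    have heven : Fintype.card F % 2 = 0 := by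
      rw [hq]
      obtain ⟨m, hm⟩ : ∃ m, r = m + 1 := ⟨r - 1, by have := hr.pos; omega⟩
      rw [hm, pow_succ]
      omega
    obtain ⟨R, hR, hcard⟩ := psl2_card_even_h9 heven
    have h4 : 4 ≤ Fintype.card F := by
      rw [hq]
      calc 4 = 2 ^ 2 := by norm_num
        _ ≤ 2 ^ r := Nat.pow_le_pow_right (by norm_num) hr.two_le
    refine ⟨h4, ?_, ?_⟩
    · by_cases hr2 : r = 2
      · right
        rw [hr2] at hq
        have hR3 : R = 3 := by
          have : (2 : ℕ) ^ 2 = 4 := by norm_num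
          omega
        rw [hcard, hR3]
      · left
        have hodd : r % 2 = 1 := by
          rcases hr.eq_two_or_odd with h | h
          · exact absurd h hr2
          · exact h
        have h5 := two_pow_odd_mod5_h9 r hodd
        rw [← hq, hR] at h5
        have := mod5_prod_h9 R h5
        rw [hcard]
        omega
    · intro q₁ s h4q hqs
      rw [hq] at hqs
      exact prime_pow_eq_pow_h9 2 r q₁ s Nat.prime_two hr (by omega) hqs
  · -- q = 3^r
    have hodd : Fintype.card F % 2 = 1 := by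
      rw [hq, Nat.pow_mod]
      norm_num
    obtain ⟨R, hR, hcard⟩ := psl2_card_odd_h9 hodd
    have hr3 : 3 ≤ r := by
      have := hr.two_le
      omega
    have h4 : 4 ≤ Fintype.card F := by
      rw [hq]
      calc 4 ≤ 3 ^ 3 := by norm_num
        _ ≤ 3 ^ r := Nat.pow_le_pow_right (by norm_num) hr3
    refine ⟨h4, ?_, ?_⟩
    · left
      have hrodd : r % 2 = 1 := by
        rcases hr.eq_two_or_odd with h | h
        · exact absurd h hr2
        · exact h
      have := psl2_three_card_h9 R r hrodd (by rw [← hR, hq])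
      omega
    · intro q₁ s h4q hqs
      rw [hq] at hqs
      exact prime_pow_eq_pow_h9 3 r q₁ s Nat.prime_three hr (by omega) hqs
  · -- q prime > 5
    have hodd : Fintype.card F % 2 = 1 := by
      rcases hqp.eq_two_or_odd with h | h
      · omega
      · exact h
    obtain ⟨R, hR, hcard⟩ := psl2_card_odd_h9 hodd
    refine ⟨by omega, ?_, ?_⟩
    · left
      rw [hR] at hqm
      have := mod5_prod_h9 R hqm
      omega
    · intro q₁ s h4q hqs
      exact ((Nat.Prime.pow_eq_iff hqp).mp hqs.symm).2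
  · -- q = 5
    have hodd : Fintype.card F % 2 = 1 := by rw [hq]
    obtain ⟨R, hR, hcard⟩ := psl2_card_odd_h9 hodd
    refine ⟨by omega, ?_, ?_⟩
    · right
      have hR4 : R = 4 := by omega
      rw [hR4] at hcard
      omega
    · intro q₁ s h4q hqs
      rw [hq] at hqs
      exact ((Nat.Prime.pow_eq_iff Nat.prime_five).mp hqs.symm).2

theorem ordProj_le_h9 (p N : ℕ) (hp : p.Prime) (hp3 : p ≤ 3) (h : ¬ p ^ 2 ∣ N) :
    p ^ N.factorization p ≤ 3 := by
  have hf : N.factorization p ≤ 1 := by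
    by_contra hlt
    apply h
    exact dvd_trans (pow_dvd_pow p (by omega)) (Nat.ordProj_dvd N p)
  calc p ^ N.factorization p ≤ p ^ 1 := Nat.pow_le_pow_right hp.pos hf
    _ = p := pow_one p
    _ ≤ 3 := hp3

/-- `PSL(2, 2)` and `PSL(2, 3)` are solvable. -/
theorem psl2_low_solvable_h9 {F : Type*} [Field F] [Fintype F] (h3 : Fintype.card F ≤ 3) :
    Group.IsSolvable (Matrix.ProjectiveSpecialLinearGroup (Fin 2) F) := by
  obtain ⟨p, hcp⟩ := CharP.exists F
  obtain ⟨n, hpp, hn⟩ := FiniteField.card F p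
  have : Fact p.Prime := ⟨hpp⟩
  have h1 : 1 < Fintype.card F := Fintype.one_lt_card
  have hpdvd : p ∣ Fintype.card F := by
    rw [hn]
    exact dvd_pow_self p n.ne_zero
  have hcardG : (Nat.card (Matrix.ProjectiveSpecialLinearGroup (Fin 2) F) = 6 ∧ p = 2) ∨
      (Nat.card (Matrix.ProjectiveSpecialLinearGroup (Fin 2) F) = 12 ∧ p = 3) := by
    have hq : Fintype.card F = 2 ∨ Fintype.card F = 3 := by omega
    rcases hq with hq | hq
    · left
      obtain ⟨R, hR, hcard⟩ := psl2_card_even_h9 (F := F) (by rw [hq])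
      have hR1 : R = 1 := by omega
      rw [hR1] at hcard
      rw [hq] at hpdvd
      exact ⟨by rw [hcard], (Nat.prime_dvd_prime_iff_eq hpp Nat.prime_two).mp hpdvd⟩
    · right
      obtain ⟨R, hR, hcard⟩ := psl2_card_odd_h9 (F := F) (by rw [hq])
      have hR2 : R = 2 := by omega
      rw [hR2] at hcard
      rw [hq] at hpdvd
      exact ⟨by omega, (Nat.prime_dvd_prime_iff_eq hpp Nat.prime_three).mp hpdvd⟩
  have hsmall : p ^ (Nat.card (⊤ : Subgroup
      (Matrix.ProjectiveSpecialLinearGroup (Fin 2) F))).factorization p ≤ 3 := by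
    rw [Subgroup.card_top]
    rcases hcardG with ⟨hc, hp2⟩ | ⟨hc, hp3⟩
    · rw [hc, hp2]
      exact ordProj_le_h9 2 6 Nat.prime_two (by norm_num) (by norm_num)
    · rw [hc, hp3]
      exact ordProj_le_h9 3 12 Nat.prime_three (by norm_num) (by norm_num)
  have hA5 : ¬ Nonempty ((⊤ : Subgroup (Matrix.ProjectiveSpecialLinearGroup (Fin 2) F)) ≃*
      alternatingGroup (Fin 5)) := by
    rintro ⟨e⟩
    have hc60 : Nat.card (⊤ : Subgroup (Matrix.ProjectiveSpecialLinearGroup (Fin 2) F)) = 60 := by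
      rw [Nat.card_congr e.toEquiv, card_A5_h9]
    rw [Subgroup.card_top] at hc60
    rcases hcardG with ⟨hc, -⟩ | ⟨hc, -⟩ <;> omega
  have htop : Group.IsSolvable (⊤ : Subgroup (Matrix.ProjectiveSpecialLinearGroup (Fin 2) F)) := by
    rcases psl2_small_h9 (p := p) ⊤ hsmall with h | ⟨k, -, ⟨e⟩⟩ | ⟨⟨e⟩⟩ | ⟨⟨e⟩⟩ | h
    · exact cyclic_solvable_h9 h
    · exact solvable_of_equiv_h9 e (dihedral_solvable_h9 k)
    · exact solvable_of_equiv_h9 e alt4_solvable_h9
    · exact solvable_of_equiv_h9 e perm4_solvable_h9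
    · exact absurd h hA5
  exact solvable_of_equiv_h9 Subgroup.topEquiv.symm htop

/-- a proper subfield of order at least `4` gives a proper non-solvable subgroup. -/
theorem psl2_subfield_not_solvable_h9 {F : Type*} [Field F] [Fintype F] (p a b : ℕ)
    (hp : p.Prime) (hF : Fintype.card F = p ^ (a * b)) (hb : 2 ≤ b) (h4 : 4 ≤ p ^ a) :
    ∃ H : Subgroup (Matrix.ProjectiveSpecialLinearGroup (Fin 2) F),
      H ≠ ⊤ ∧ ¬ Group.IsSolvable H := by
  have : Fact p.Prime := ⟨hp⟩
  have ha0 : a ≠ 0 := by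
    rintro rfl
    rw [pow_zero] at h4
    omega
  let _ : Fintype (GaloisField p a) := Fintype.ofFinite _
  have hK : Fintype.card (GaloisField p a) = p ^ a := by
    rw [← Nat.card_eq_fintype_card]
    exact GaloisField.card p a ha0
  obtain ⟨f⟩ := finite_field_embed_h9 (F := F) (K := GaloisField p a) b (by rw [hK, hF, pow_mul])
  obtain ⟨e⟩ := psl2Sub_equiv_h9 f
  refine ⟨(psl2SubHom_h9 f).range, ?_, ?_⟩
  · intro htop
    have hc1 : Nat.card (psl2SubHom_h9 f).range =
        Nat.card (Matrix.ProjectiveSpecialLinearGroup (Fin 2) (GaloisField p a)) :=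
      Nat.card_congr e.toEquiv
    have hc2 : Nat.card (psl2SubHom_h9 f).range =
        Nat.card (Matrix.ProjectiveSpecialLinearGroup (Fin 2) F) := by
      rw [htop]
      exact Subgroup.card_top
    have hlt : Fintype.card (GaloisField p a) < Fintype.card F := by
      rw [hK, hF, pow_mul]
      calc p ^ a = (p ^ a) ^ 1 := (pow_one _).symm
        _ < (p ^ a) ^ b := Nat.pow_lt_pow_right (by omega) (by omega)
    have hpar : Fintype.card F % 2 = Fintype.card (GaloisField p a) % 2 := by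
      rw [hF, hK, pow_mul]
      generalize p ^ a = x
      rw [Nat.pow_mod]
      rcases Nat.mod_two_eq_zero_or_one x with h | h <;> rw [h]
      · rw [zero_pow (by omega)]
        norm_num
      · rw [one_pow]
        norm_num
    rcases Nat.mod_two_eq_zero_or_one (Fintype.card (GaloisField p a)) with hev | hod
    · obtain ⟨R, hR, hcR⟩ := psl2_card_even_h9 (F := GaloisField p a) hev
      obtain ⟨r, hr, hcr⟩ := psl2_card_even_h9 (F := F) (by rw [hpar, hev])
      have := cube_lt_h9 R r (by omega)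
      omega
    · obtain ⟨R, hR, hcR⟩ := psl2_card_odd_h9 (F := GaloisField p a) hod
      obtain ⟨r, hr, hcr⟩ := psl2_card_odd_h9 (F := F) (by rw [hpar, hod])
      have := cube_lt_h9 R r (by omega)
      omega
  · intro hsol
    have h4' : 4 ≤ Nat.card (GaloisField p a) := by
      rw [GaloisField.card p a ha0]
      exact h4
    exact psl2_not_solvable_h9 h4' (solvable_of_equiv_h9 e.symm hsol)

/-- an `A₅` in `PSL(2, q)`, `q ≥ 9` odd, is a proper non-solvable subgroup. -/
theorem psl2_A5_proper_not_solvable_h9 {F : Type*} [Field F] [Fintype F]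
    (hodd : Fintype.card F % 2 = 1)
    (h5 : 5 ∣ Fintype.card F * (Fintype.card F ^ 2 - 1)) (h9 : 9 ≤ Fintype.card F) :
    ∃ H : Subgroup (Matrix.ProjectiveSpecialLinearGroup (Fin 2) F),
      H ≠ ⊤ ∧ ¬ Group.IsSolvable H := by
  obtain ⟨H, ⟨e⟩⟩ := psl2_A5_odd_h9 hodd h5
  refine ⟨H, ?_, fun hsol => alt5_not_solvable_h9 (solvable_of_equiv_h9 e.symm hsol)⟩
  intro htop
  have hc1 : Nat.card H = 60 := by rw [Nat.card_congr e.toEquiv, card_A5_h9]
  have hc2 : Nat.card H = Nat.card (Matrix.ProjectiveSpecialLinearGroup (Fin 2) F) := by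
    rw [htop]
    exact Subgroup.card_top
  obtain ⟨r, hr, hcr⟩ := psl2_card_odd_h9 hodd
  have := cube_lt_h9 7 r (by omega)
  omega

/-- a minimal simple `PSL(2, q)` is in the list. -/
theorem psl2_minimal_imp_h9 {F : Type*} [Field F] [Fintype F]
    (hns : ¬ Group.IsSolvable (Matrix.ProjectiveSpecialLinearGroup (Fin 2) F))
    (hmin : ∀ H : Subgroup (Matrix.ProjectiveSpecialLinearGroup (Fin 2) F), H ≠ ⊤ →
      Group.IsSolvable H) :
    (∃ r : ℕ, r.Prime ∧ Fintype.card F = 2 ^ r) ∨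
      (∃ r : ℕ, r.Prime ∧ r ≠ 2 ∧ Fintype.card F = 3 ^ r) ∨
      ((Fintype.card F).Prime ∧ 5 < Fintype.card F ∧
        (Fintype.card F % 5 = 2 ∨ Fintype.card F % 5 = 3)) ∨ Fintype.card F = 5 := by
  have hno : ¬ ∃ H : Subgroup (Matrix.ProjectiveSpecialLinearGroup (Fin 2) F),
      H ≠ ⊤ ∧ ¬ Group.IsSolvable H := by
    rintro ⟨H, hH, hns'⟩
    exact hns' (hmin H hH)
  have h4 : 4 ≤ Fintype.card F := by
    by_contra hlt
    exact hns (psl2_low_solvable_h9 (by omega))
  obtain ⟨p, hcp⟩ := CharP.exists F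
  obtain ⟨n, hpp, hn⟩ := FiniteField.card F p
  have hn1 : 1 ≤ (n : ℕ) := n.pos
  by_cases hn1' : (n : ℕ) = 1
  · rw [hn1', pow_one] at hn
    have hqp : (Fintype.card F).Prime := by
      rw [hn]
      exact hpp
    by_cases hq5 : Fintype.card F = 5
    · exact Or.inr (Or.inr (Or.inr hq5))
    have hodd : Fintype.card F % 2 = 1 := by
      rcases hqp.eq_two_or_odd with h | h
      · omega
      · exact h
    have h5lt : 5 < Fintype.card F := by omega
    have hmod : Fintype.card F % 5 ≠ 0 := by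
      intro h0
      have h5d : 5 ∣ Fintype.card F := Nat.dvd_of_mod_eq_zero h0
      have := (Nat.prime_dvd_prime_iff_eq Nat.prime_five hqp).mp h5d
      omega
    by_cases h23 : Fintype.card F % 5 = 2 ∨ Fintype.card F % 5 = 3
    · exact Or.inr (Or.inr (Or.inl ⟨hqp, h5lt, h23⟩))
    · exfalso
      apply hno
      have h14 : Fintype.card F % 5 = 1 ∨ Fintype.card F % 5 = 4 := by omega
      have hsq : Fintype.card F ^ 2 % 5 = 1 := by
        rw [Nat.pow_mod]
        rcases h14 with h | h <;> rw [h]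
      have h5d : 5 ∣ Fintype.card F ^ 2 - 1 := by omega
      exact psl2_A5_proper_not_solvable_h9 hodd (Dvd.dvd.mul_left h5d _) (by omega)
  · have hn2 : 2 ≤ (n : ℕ) := by omega
    by_cases hp2 : p = 2
    · by_cases hnp : (n : ℕ).Prime
      · exact Or.inl ⟨n, hnp, by rw [hn, hp2]⟩
      · exfalso
        apply hno
        obtain ⟨a, hadvd, ha2, han⟩ := Nat.exists_dvd_of_not_prime2 hn2 hnp
        obtain ⟨b, hb⟩ := hadvd
        have hb2 : 2 ≤ b := by
          by_contra hlt
          have : b = 0 ∨ b = 1 := by omega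
          rcases this with h | h <;> rw [h] at hb <;> omega
        apply psl2_subfield_not_solvable_h9 p a b hpp (by rw [hn, hb]) hb2
        rw [hp2]
        calc 4 = 2 ^ 2 := by norm_num
          _ ≤ 2 ^ a := Nat.pow_le_pow_right (by norm_num) ha2
    · by_cases hp3 : p = 3
      · by_cases hn2' : (n : ℕ) = 2
        · exfalso
          apply hno
          have hq9 : Fintype.card F = 9 := by
            rw [hn, hp3, hn2']
            norm_num
          exact psl2_A5_proper_not_solvable_h9 (by rw [hq9]) (by rw [hq9]; norm_num) (by omega)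
        · by_cases hnp : (n : ℕ).Prime
          · exact Or.inr (Or.inl ⟨n, hnp, hn2', by rw [hn, hp3]⟩)
          · exfalso
            apply hno
            obtain ⟨a, hadvd, ha2, han⟩ := Nat.exists_dvd_of_not_prime2 hn2 hnp
            obtain ⟨b, hb⟩ := hadvd
            have hb2 : 2 ≤ b := by
              by_contra hlt
              have : b = 0 ∨ b = 1 := by omega
              rcases this with h | h <;> rw [h] at hb <;> omega
            apply psl2_subfield_not_solvable_h9 p a b hpp (by rw [hn, hb]) hb2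
            rw [hp3]
            calc 4 ≤ 3 ^ 2 := by norm_num
              _ ≤ 3 ^ a := Nat.pow_le_pow_right (by norm_num) ha2
      · exfalso
        apply hno
        have hp5 : 5 ≤ p := by
          have := hpp.two_le
          by_contra hlt
          have h4p : p = 4 := by omega
          rw [h4p] at hpp
          exact absurd hpp (by norm_num)
        apply psl2_subfield_not_solvable_h9 p 1 n hpp (by rw [hn, one_mul]) hn2
        rw [pow_one]
        omega

end Cfsg.Agent.Helper9
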