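import Mathlib
import Cfsg.Agent.Helper9.Dk23

/-!
# Dickson: the full list of subgroups of `PSL(2, q)` (helper9)
-/

set_option autoImplicit false
open scoped MatrixGroups

namespace Cfsg.Agent.Helper9

theorem pglMap_ker_h9 {K F : Type*} [Field K] [Field F] (f : K →+* F) :
    (Matrix.ProjGenLinGroup.mk.comp (Matrix.GeneralLinearGroup.map f) :
      GL (Fin 2) K →* Matrix.ProjGenLinGroup (Fin 2) F).ker = Subgroup.center (GL (Fin 2) K) := by
  ext g
  rw [MonoidHom.mem_ker]
  change Matrix.ProjGenLinGroup.mk (Matrix.GeneralLinearGroup.map f g) = 1 ↔ _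
  rw [Matrix.ProjGenLinGroup.mk_eq_one,
    Matrix.GeneralLinearGroup.mem_center_iff_val_mem_range_scalar,
    Matrix.GeneralLinearGroup.mem_center_iff_val_mem_range_scalar]
  have hent : ∀ i j, (Matrix.GeneralLinearGroup.map f g).1 i j = f (g.1 i j) := fun i j => rfl
  constructor
  · rintro ⟨a, ha⟩
    have e := fun i j => (congrFun (congrFun ha i) j).trans (hent i j)
    have e00 := e 0 0
    have e01 := e 0 1
    have e10 := e 1 0
    have e11 := e 1 1
    simp only [Matrix.scalar_apply, Matrix.diagonal_apply] at e00 e01 e10 e11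
    simp at e00 e01 e10 e11
    refine ⟨g.1 0 0, ?_⟩
    ext i j
    fin_cases i <;> fin_cases j
    · simp
    · simp
      exact (f.injective (by rw [← e01, map_zero])).symm
    · simp
      exact (f.injective (by rw [← e10, map_zero])).symm
    · simp
      exact f.injective (by rw [← e00, ← e11])
  · rintro ⟨b, hb⟩
    refine ⟨f b, ?_⟩
    ext i j
    rw [hent, ← hb]
    fin_cases i <;> fin_cases j <;> simp

/-- a subgroup of `PSL(2, F)` of the order of `PGL(2, K)` all of whose elements are scalar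
multiples of matrices over `K` is isomorphic to `PGL(2, K)`. -/
theorem pgl2_of_sForm_h9 {K F : Type*} [Field K] [Finite K] [Field F] (f : K →+* F)
    (M : Subgroup (Matrix.ProjectiveSpecialLinearGroup (Fin 2) F))
    (hform : ∀ h : M, ∃ lam : F, lam ≠ 0 ∧
      ∀ i j, ∃ t : K, f t = (Quotient.out h.1 : SL(2, F)).1 i j / lam)
    (hcard : Nat.card M = Nat.card (Matrix.ProjGenLinGroup (Fin 2) K)) :
    Nonempty (M ≃* Matrix.ProjGenLinGroup (Fin 2) K) := by
  let ψ : GL (Fin 2) K →* Matrix.ProjGenLinGroup (Fin 2) F :=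
    Matrix.ProjGenLinGroup.mk.comp (Matrix.GeneralLinearGroup.map f)
  have hker : ψ.ker = Subgroup.center (GL (Fin 2) K) := pglMap_ker_h9 f
  have hmem : ∀ h : M, ((Matrix.ProjectiveSpecialLinearGroup.toPGL (n := Fin 2) (R := F)).comp
      M.subtype) h ∈ ψ.range := by
    intro h
    obtain ⟨lam, hlam, hx⟩ := hform h
    choose y hy using hx
    obtain ⟨-, xdet⟩ := sl2_entries_h9 (Quotient.out h.1 : SL(2, F))
    have hdet : (Matrix.of y).det ≠ 0 := by
      intro h0
      have h1 : f ((Matrix.of y).det) = 0 := by rw [h0, map_zero]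
      rw [Matrix.det_fin_two] at h1
      simp only [Matrix.of_apply, map_sub, map_mul, hy] at h1
      have h2 : (Quotient.out h.1 : SL(2, F)).1 0 0 * (Quotient.out h.1 : SL(2, F)).1 1 1 -
          (Quotient.out h.1 : SL(2, F)).1 0 1 * (Quotient.out h.1 : SL(2, F)).1 1 0 = 0 := by
        field_simp at h1
        linear_combination h1
      rw [xdet] at h2
      exact one_ne_zero h2
    refine ⟨Matrix.GeneralLinearGroup.mkOfDetNeZero (Matrix.of y) hdet, ?_⟩
    have hout : h.1 = QuotientGroup.mk (Quotient.out h.1 : SL(2, F)) :=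
      (QuotientGroup.out_eq' _).symm
    have hgoal : ψ (Matrix.GeneralLinearGroup.mkOfDetNeZero (Matrix.of y) hdet) =
        Matrix.ProjectiveSpecialLinearGroup.toPGL (n := Fin 2) (R := F)
          (QuotientGroup.mk (Quotient.out h.1 : SL(2, F))) := by
      change Matrix.ProjGenLinGroup.mk (Matrix.GeneralLinearGroup.map f
          (Matrix.GeneralLinearGroup.mkOfDetNeZero (Matrix.of y) hdet)) =
        Matrix.ProjGenLinGroup.mk (Matrix.SpecialLinearGroup.toGL (Quotient.out h.1 : SL(2, F)))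
      rw [Matrix.ProjGenLinGroup.mk_eq_mk_iff]
      refine ⟨Units.mk0 lam hlam, ?_⟩
      apply Units.ext
      rw [Units.val_mul, Matrix.GeneralLinearGroup.coe_scalar]
      have hent : ∀ i j, (Matrix.GeneralLinearGroup.map f
          (Matrix.GeneralLinearGroup.mkOfDetNeZero (Matrix.of y) hdet)).1 i j =
          (Quotient.out h.1 : SL(2, F)).1 i j / lam := fun i j => hy i j
      have hgl : ∀ i j, (Matrix.SpecialLinearGroup.toGL (Quotient.out h.1 : SL(2, F))).1 i j =
          (Quotient.out h.1 : SL(2, F)).1 i j := fun i j => rfl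
      ext i j
      rw [Matrix.mul_apply, Fin.sum_univ_two, hent, hent, hgl]
      fin_cases i <;> fin_cases j <;> simp [Matrix.scalar_apply, Matrix.diagonal_apply] <;>
        field_simp
    rw [hgoal]
    show Matrix.ProjectiveSpecialLinearGroup.toPGL (n := Fin 2) (R := F)
      (QuotientGroup.mk (Quotient.out h.1 : SL(2, F))) =
      Matrix.ProjectiveSpecialLinearGroup.toPGL (n := Fin 2) (R := F) h.1
    rw [← hout]
  let φ : M →* ψ.range := ((Matrix.ProjectiveSpecialLinearGroup.toPGL (n := Fin 2) (R := F)).comp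
    M.subtype).codRestrict ψ.range hmem
  have hφ : Function.Injective φ := by
    intro a b hab
    have h1 : Matrix.ProjectiveSpecialLinearGroup.toPGL (n := Fin 2) (R := F) a.1 =
        Matrix.ProjectiveSpecialLinearGroup.toPGL (n := Fin 2) (R := F) b.1 :=
      congrArg Subtype.val hab
    exact Subtype.ext (Matrix.ProjectiveSpecialLinearGroup.toPGL_injective h1)
  let e2 : ψ.range ≃* Matrix.ProjGenLinGroup (Fin 2) K :=
    (QuotientGroup.quotientKerEquivRange ψ).symm.trans (QuotientGroup.quotientMulEquivOfEq hker)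
  let Φ : M →* Matrix.ProjGenLinGroup (Fin 2) K := e2.toMonoidHom.comp φ
  have hΦ : Function.Injective Φ := e2.injective.comp hφ
  have : Finite (Matrix.ProjGenLinGroup (Fin 2) K) :=
    Finite.of_surjective _ Matrix.ProjGenLinGroup.mk_surjective
  have hbij : Function.Bijective Φ := by
    rw [Nat.bijective_iff_injective_and_card]
    exact ⟨hΦ, hcard⟩
  exact ⟨MulEquiv.ofBijective Φ hbij⟩

section

variable {F : Type*} [Field F] [Fintype F] {p : ℕ} [hp : Fact p.Prime] [hc : CharP F p]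

include hp hc in
/-- orders of `p'`-elements divide `(q ± 1) / d`. -/
theorem psl2_order_dvd_h9 (y : Matrix.ProjectiveSpecialLinearGroup (Fin 2) F) (hy : y ≠ 1)
    (hnp : orderOf y ≠ p) :
    orderOf y ∣ (Fintype.card F + 1) / Nat.gcd 2 (Fintype.card F - 1) ∨
    orderOf y ∣ (Fintype.card F - 1) / Nat.gcd 2 (Fintype.card F - 1) := by
  have h1 : 1 < Fintype.card F := Fintype.one_lt_card
  rcases Nat.mod_two_eq_zero_or_one (Fintype.card F) with hev | hod
  · have hg : Nat.gcd 2 (Fintype.card F - 1) = 1 := by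
      have : Nat.Coprime 2 (Fintype.card F - 1) := by
        rw [Nat.Prime.coprime_iff_not_dvd Nat.prime_two]
        omega
      exact this
    rw [hg, Nat.div_one, Nat.div_one]
    rcases psl2_elt_order_h9 (p := p) y hy with h | h | h
    · exact absurd h hnp
    · exact Or.inr h
    · exact Or.inl h
  · have hg : Nat.gcd 2 (Fintype.card F - 1) = 2 := Nat.gcd_eq_left (by omega)
    rw [hg]
    have h2F : (2 : F) ≠ 0 := by
      intro h0
      have hp2 : p = 2 := by
        have h2 : ((2 : ℕ) : F) = 0 := by exact_mod_cast h0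
        have := (CharP.cast_eq_zero_iff F p 2).mp h2
        exact (Nat.prime_dvd_prime_iff_eq hp.out Nat.prime_two).mp this
      have := (char_two_iff_even_h9 (p := p) (F := F)).mp hp2
      omega
    rcases psl2_elt_order2_h9 (p := p) h2F y hy with h | h | h
    · exact absurd h hnp
    · exact Or.inr (Nat.dvd_div_of_mul_dvd h)
    · exact Or.inl (Nat.dvd_div_of_mul_dvd h)

include hp hc in
theorem psl2_cyclic_dvd_h9 (H : Subgroup (Matrix.ProjectiveSpecialLinearGroup (Fin 2) F))
    (hcyc : IsCyclic H) (hpH : ¬ p ∣ Nat.card H) :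
    Nat.card H ∣ (Fintype.card F + 1) / Nat.gcd 2 (Fintype.card F - 1) ∨
    Nat.card H ∣ (Fintype.card F - 1) / Nat.gcd 2 (Fintype.card F - 1) := by
  obtain ⟨z, hz⟩ := IsCyclic.exists_generator (α := H)
  have hord : orderOf z = Nat.card H := orderOf_eq_card_of_forall_mem_zpowers hz
  have hord' : orderOf (z : Matrix.ProjectiveSpecialLinearGroup (Fin 2) F) = Nat.card H := by
    rw [Subgroup.orderOf_coe, hord]
  by_cases hz1 : (z : Matrix.ProjectiveSpecialLinearGroup (Fin 2) F) = 1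
  · rw [hz1, orderOf_one] at hord'
    rw [← hord']
    left
    exact one_dvd _
  · rw [← hord']
    apply psl2_order_dvd_h9 (p := p) _ hz1
    rw [hord']
    intro h
    exact hpH (h ▸ dvd_refl _)

include hp hc in
theorem psl2_dihedral_dvd_h9 (H : Subgroup (Matrix.ProjectiveSpecialLinearGroup (Fin 2) F))
    (k : ℕ) (e : H ≃* DihedralGroup k) (hkp : k ≠ p) :
    k ∣ (Fintype.card F + 1) / Nat.gcd 2 (Fintype.card F - 1) ∨
    k ∣ (Fintype.card F - 1) / Nat.gcd 2 (Fintype.card F - 1) := by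
  have hord : orderOf (e.symm (DihedralGroup.r 1)) = k := by
    rw [MulEquiv.orderOf_eq, DihedralGroup.orderOf_r_one]
  have hord' : orderOf ((e.symm (DihedralGroup.r 1) : H) :
      Matrix.ProjectiveSpecialLinearGroup (Fin 2) F) = k := by
    rw [Subgroup.orderOf_coe, hord]
  by_cases h1 : ((e.symm (DihedralGroup.r 1) : H) :
      Matrix.ProjectiveSpecialLinearGroup (Fin 2) F) = 1
  · rw [h1, orderOf_one] at hord'
    rw [← hord']
    left
    exact one_dvd _
  · have := psl2_order_dvd_h9 (p := p) _ h1 (by rw [hord']; exact hkp)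
    rw [hord'] at this
    exact this

include hp hc in
/-- the Borel subgroup normalizes a Sylow `p`-subgroup. -/
theorem borel_sylow_h9 : ∃ P : Sylow p (Matrix.ProjectiveSpecialLinearGroup (Fin 2) F),
    borel_h9 F ≤ Subgroup.normalizer ((P : Subgroup (Matrix.ProjectiveSpecialLinearGroup (Fin 2) F)) :
      Set (Matrix.ProjectiveSpecialLinearGroup (Fin 2) F)) := by
  have hE : (QuotientGroup.mk (sl2E_h9 (1 : F)) : Matrix.ProjectiveSpecialLinearGroup (Fin 2) F) ∈
      (⊤ : Subgroup (Matrix.ProjectiveSpecialLinearGroup (Fin 2) F)) := Subgroup.mem_top _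
  have hfact := psl2Tau_card_unip_h9 (p := p) ⊤ ⟨_, hE⟩ (npU_ne_one_h9 ⊤ 1 one_ne_zero hE)
    (npU_not_good_h9 (p := p) (1 : F))
  have hU : Nat.card ((psl2Tau_h9 ⊤ ⟨QuotientGroup.mk (sl2E_h9 (1 : F)), hE⟩).map
      (⊤ : Subgroup (Matrix.ProjectiveSpecialLinearGroup (Fin 2) F)).subtype) =
      p ^ (Nat.card (Matrix.ProjectiveSpecialLinearGroup (Fin 2) F)).factorization p := by
    rw [Subgroup.card_map_of_injective (Subgroup.subtype_injective _), hfact, Subgroup.card_top]
  refine ⟨Sylow.ofCard _ hU, ?_⟩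
  rw [Sylow.coe_ofCard]
  exact Subgroup.le_normalizer_map _

include hp hc in
/-- the structured case: `PSL(2, K)` or `PGL(2, K)` over a subfield. -/
theorem struct_iso_h9 (M' : Subgroup (Matrix.ProjectiveSpecialLinearGroup (Fin 2) F))
    (q₁ n₁ k r : ℕ) (h4q : 4 ≤ q₁) (hq₁ : q₁ = p ^ n₁)
    (hcard : Nat.card M' = (q₁ + 1) * (q₁ * k)) (hkq : k = q₁ - 1 ∨ 2 * k = q₁ - 1)
    (hFq : Fintype.card F = q₁ ^ r) (hS : Nat.card (npS_h9 M') = q₁)
    (hEL : ∀ s ∈ npS_h9 M',
      (QuotientGroup.mk (sl2E_h9 s) : Matrix.ProjectiveSpecialLinearGroup (Fin 2) F) ∈ M' ∧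
      (QuotientGroup.mk (sl2L_h9 s) : Matrix.ProjectiveSpecialLinearGroup (Fin 2) F) ∈ M')
    (hform : ∀ h : M', sForm_h9 (npS_h9 M') (Quotient.out h.1 : SL(2, F))) :
    ∃ (K : Type) (_ : Field K) (_ : Fintype K) (m : ℕ), Fintype.card K ^ m = Fintype.card F ∧
      (Nonempty (M' ≃* Matrix.ProjectiveSpecialLinearGroup (Fin 2) K) ∨
        Nonempty (M' ≃* Matrix.ProjGenLinGroup (Fin 2) K)) := by
  obtain ⟨f₀, hK, hmem, hle⟩ := struct_psl_h9 (p := p) M' q₁ n₁ r hq₁ h4q hFq hS hEL
  letI : Fintype (GaloisField p n₁) := Fintype.ofFinite _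
  have hcK : Fintype.card (GaloisField p n₁) = q₁ := by
    rw [← Nat.card_eq_fintype_card]
    exact hK
  refine ⟨GaloisField p n₁, inferInstance, Fintype.ofFinite _, r, by rw [hcK, hFq], ?_⟩
  obtain ⟨e₀⟩ := psl2Sub_equiv_h9 f₀
  obtain ⟨k₀, hG, hk₀2, hpar, -, -⟩ := top_struct_parity_h9 (p := p) (F := GaloisField p n₁)
    (by rw [hcK]; exact h4q)
  rw [hcK] at hG hpar
  have hcL : Nat.card (psl2SubHom_h9 f₀).range = (q₁ + 1) * (q₁ * k₀) := by
    rw [Nat.card_congr e₀.toEquiv, hG]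
  by_cases hkk : k = k₀
  · left
    have heq : (psl2SubHom_h9 f₀).range = M' :=
      Subgroup.eq_of_le_of_card_ge hle (by rw [hcard, hcL, hkk])
    exact ⟨(MulEquiv.subgroupCongr heq.symm).trans e₀⟩
  · right
    have hodd : q₁ % 2 = 1 ∧ k = q₁ - 1 := by
      rcases hpar with ⟨ho, h2⟩ | ⟨he, h2⟩
      · refine ⟨ho, ?_⟩
        rcases hkq with h | h
        · exact h
        · omega
      · rcases hkq with h | h <;> omega
    apply pgl2_of_sForm_h9 f₀ M'
    · intro h
      obtain ⟨lam, hlam, hx⟩ := hform h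
      refine ⟨lam, hlam, fun i j => ?_⟩
      have : Fintype (npS_h9 M') := Fintype.ofFinite _
      have hz : ((Quotient.out h.1 : SL(2, F)).1 i j / lam) ^ Fintype.card (GaloisField p n₁) =
          (Quotient.out h.1 : SL(2, F)).1 i j / lam := by
        have h1 := FiniteField.pow_card (⟨_, hx i j⟩ : npS_h9 M')
        rw [← Nat.card_eq_fintype_card, hS] at h1
        rw [hcK]
        exact congrArg Subtype.val h1
      exact field_fixed_h9 f₀ _ hz
    · rw [hcard, pgl2_card_h9 (K := GaloisField p n₁) (q₁ - 1) (by rw [hcK]; omega), hodd.2]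
      obtain ⟨c, rfl⟩ : ∃ c, q₁ = c + 1 := ⟨q₁ - 1, by omega⟩
      simp only [Nat.add_sub_cancel]
      ring

include hp hc in
/-- **Dickson's list** of the subgroups of `PSL(2, q)`. -/
theorem dickson_list_h9 (H : Subgroup (Matrix.ProjectiveSpecialLinearGroup (Fin 2) F)) :
    (∃ k : ℕ, (k ∣ (Fintype.card F + 1) / Nat.gcd 2 (Fintype.card F - 1) ∨
        k ∣ (Fintype.card F - 1) / Nat.gcd 2 (Fintype.card F - 1)) ∧
      ((IsCyclic H ∧ Nat.card H = k) ∨ Nonempty (H ≃* DihedralGroup k))) ∨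
    (∃ (P : Sylow p (Matrix.ProjectiveSpecialLinearGroup (Fin 2) F))
      (K : Subgroup (Matrix.ProjectiveSpecialLinearGroup (Fin 2) F)),
      K ≤ Subgroup.normalizer ((P : Subgroup (Matrix.ProjectiveSpecialLinearGroup (Fin 2) F)) :
        Set (Matrix.ProjectiveSpecialLinearGroup (Fin 2) F)) ∧ Nonempty (H ≃* K)) ∨
    Nonempty (H ≃* alternatingGroup (Fin 4)) ∨ Nonempty (H ≃* Equiv.Perm (Fin 4)) ∨
    Nonempty (H ≃* alternatingGroup (Fin 5)) ∨
    (∃ (K : Type) (_ : Field K) (_ : Fintype K) (m : ℕ), Fintype.card K ^ m = Fintype.card F ∧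
      (Nonempty (H ≃* Matrix.ProjectiveSpecialLinearGroup (Fin 2) K) ∨
        Nonempty (H ≃* Matrix.ProjGenLinGroup (Fin 2) K))) := by
  by_cases hpH : p ∣ Nat.card H
  · obtain ⟨α, hE, hcases⟩ := dickson_cases_h9 (p := p) H hpH
    rcases hcases with hbor | ⟨hp3, h3⟩ | ⟨hp2, k, hk, hkodd, ⟨e⟩⟩ |
      ⟨q₁, k, r, h4q, hq₁, hcard, hk2, hkq, hFq, hS, hEL, hform, -⟩
    · right; left
      obtain ⟨P, hP⟩ := borel_sylow_h9 (p := p) (F := F)
      exact ⟨P, H.map α.toMonoidHom, hbor.trans hP, ⟨α.subgroupMap H⟩⟩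
    · rcases h3 with h | h | h
      · exact Or.inr (Or.inr (Or.inl h))
      · exact Or.inr (Or.inr (Or.inr (Or.inl h)))
      · exact Or.inr (Or.inr (Or.inr (Or.inr (Or.inl h))))
    · left
      exact ⟨k, psl2_dihedral_dvd_h9 (p := p) H k e (by omega), Or.inr ⟨e⟩⟩
    · right; right; right; right; right
      have e : H ≃* H.map α.toMonoidHom := α.subgroupMap H
      have hcardeq : Nat.card (H.map α.toMonoidHom) = Nat.card H :=
        (Nat.card_congr e.toEquiv).symm
      obtain ⟨K, i1, i2, m, hm, hiso⟩ := struct_iso_h9 (p := p) (H.map α.toMonoidHom) q₁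
        ((Nat.card H).factorization p) k r h4q hq₁ (by rw [hcardeq]; exact hcard) hkq hFq hS hEL
        hform
      refine ⟨K, i1, i2, m, hm, ?_⟩
      rcases hiso with ⟨⟨e'⟩⟩ | ⟨⟨e'⟩⟩
      · exact Or.inl ⟨e.trans e'⟩
      · exact Or.inr ⟨e.trans e'⟩
  · rcases psl2_pprime_h9 (p := p) H hpH with h | ⟨k, hk, ⟨e⟩⟩ | h | h | h
    · left
      exact ⟨Nat.card H, psl2_cyclic_dvd_h9 (p := p) H h hpH, Or.inl ⟨h, rfl⟩⟩
    · left
      refine ⟨k, psl2_dihedral_dvd_h9 (p := p) H k e ?_, Or.inr ⟨e⟩⟩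
      rintro rfl
      exact hpH ⟨2, by rw [hk]; ring⟩
    · exact Or.inr (Or.inr (Or.inl h))
    · exact Or.inr (Or.inr (Or.inr (Or.inl h)))
    · exact Or.inr (Or.inr (Or.inr (Or.inr (Or.inl h))))

end

end Cfsg.Agent.Helper9
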