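import Mathlib
import Cfsg.Agent.Helper9.Dk24

/-!
# The subgroup of order 120 of `SL(2, 9)` generated by two transvections: codes (helper9)
-/

set_option autoImplicit false
open scoped MatrixGroups

namespace Cfsg.Agent.Helper9

/-- codes `(a₀, …, a₇)` for the matrix `!![a₀ + a₁ λ, a₂ + a₃ λ; a₄ + a₅ λ, a₆ + a₇ λ]`,
`λ² = -1`. -/
structure C9_h9 where
  a0 : ZMod 3
  a1 : ZMod 3
  a2 : ZMod 3
  a3 : ZMod 3
  a4 : ZMod 3
  a5 : ZMod 3
  a6 : ZMod 3
  a7 : ZMod 3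
  deriving DecidableEq

/-- left multiplication by `!![1, 0; 1, 1]`. -/
def c9L_h9 : C9_h9 → C9_h9
  | ⟨a0, a1, a2, a3, a4, a5, a6, a7⟩ => ⟨a0, a1, a2, a3, a0 + a4, a1 + a5, a2 + a6, a3 + a7⟩

/-- left multiplication by `!![1, λ; 0, 1]`. -/
def c9E_h9 : C9_h9 → C9_h9
  | ⟨a0, a1, a2, a3, a4, a5, a6, a7⟩ => ⟨a0 - a5, a1 + a4, a2 - a7, a3 + a6, a4, a5, a6, a7⟩

def c9id_h9 : C9_h9 := ⟨1, 0, 0, 0, 0, 0, 1, 0⟩

def c9word_h9 : List Bool → C9_h9
  | [] => c9id_h9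
  | b :: w => if b then c9L_h9 (c9word_h9 w) else c9E_h9 (c9word_h9 w)

def c9T_h9 : List C9_h9 :=
  [⟨1, 0, 0, 0, 0, 0, 1, 0⟩,
   ⟨1, 0, 0, 0, 1, 0, 1, 0⟩,
   ⟨1, 0, 0, 1, 0, 0, 1, 0⟩,
   ⟨1, 0, 0, 0, 2, 0, 1, 0⟩,
   ⟨1, 1, 0, 1, 1, 0, 1, 0⟩,
   ⟨1, 0, 0, 1, 1, 0, 1, 1⟩,
   ⟨1, 0, 0, 2, 0, 0, 1, 0⟩,
   ⟨1, 2, 0, 1, 2, 0, 1, 0⟩,
   ⟨1, 1, 0, 1, 2, 1, 1, 1⟩,
   ⟨1, 2, 0, 2, 1, 0, 1, 0⟩,
   ⟨1, 0, 0, 1, 2, 0, 1, 2⟩,
   ⟨1, 1, 2, 2, 1, 0, 1, 1⟩,
   ⟨1, 0, 0, 2, 1, 0, 1, 2⟩,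
   ⟨1, 2, 0, 1, 0, 2, 1, 1⟩,
   ⟨1, 1, 0, 2, 2, 0, 1, 0⟩,
   ⟨1, 1, 0, 1, 0, 2, 1, 2⟩,
   ⟨0, 0, 2, 2, 2, 1, 1, 1⟩,
   ⟨1, 2, 0, 2, 2, 2, 1, 2⟩,
   ⟨1, 2, 1, 2, 2, 0, 1, 2⟩,
   ⟨1, 1, 2, 2, 2, 1, 0, 0⟩,
   ⟨1, 2, 1, 0, 1, 0, 1, 1⟩,
   ⟨1, 0, 0, 2, 2, 0, 1, 1⟩,
   ⟨1, 1, 1, 0, 1, 0, 1, 2⟩,
   ⟨1, 2, 0, 1, 1, 1, 1, 2⟩,
   ⟨2, 2, 2, 2, 0, 2, 1, 1⟩,
   ⟨1, 1, 0, 2, 0, 1, 1, 2⟩,
   ⟨2, 1, 1, 2, 0, 2, 1, 2⟩,
   ⟨0, 0, 2, 2, 2, 1, 0, 0⟩,
   ⟨2, 2, 1, 0, 2, 1, 1, 1⟩,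
   ⟨1, 2, 0, 2, 0, 1, 1, 1⟩,
   ⟨2, 1, 1, 0, 2, 2, 1, 2⟩,
   ⟨1, 2, 1, 2, 0, 2, 2, 1⟩,
   ⟨1, 1, 2, 0, 2, 0, 1, 2⟩,
   ⟨1, 1, 2, 2, 0, 2, 2, 2⟩,
   ⟨1, 2, 1, 0, 2, 2, 2, 1⟩,
   ⟨1, 2, 2, 0, 2, 0, 1, 1⟩,
   ⟨1, 1, 1, 0, 2, 1, 2, 2⟩,
   ⟨1, 2, 2, 1, 1, 0, 1, 2⟩,
   ⟨0, 0, 1, 2, 1, 1, 1, 2⟩,
   ⟨2, 2, 2, 2, 2, 1, 0, 0⟩,
   ⟨0, 2, 1, 0, 0, 2, 1, 1⟩,
   ⟨1, 1, 0, 2, 1, 2, 1, 1⟩,
   ⟨0, 1, 1, 0, 0, 1, 1, 2⟩,
   ⟨2, 1, 1, 2, 2, 0, 2, 1⟩,
   ⟨0, 1, 2, 0, 0, 2, 1, 2⟩,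
   ⟨0, 0, 2, 2, 2, 1, 2, 2⟩,
   ⟨2, 2, 1, 0, 1, 0, 2, 1⟩,
   ⟨0, 2, 2, 0, 0, 1, 1, 1⟩,
   ⟨2, 1, 1, 0, 1, 0, 2, 2⟩,
   ⟨0, 0, 2, 1, 2, 2, 1, 2⟩,
   ⟨1, 2, 1, 2, 1, 1, 0, 0⟩,
   ⟨2, 2, 0, 1, 0, 2, 2, 1⟩,
   ⟨1, 1, 2, 0, 0, 1, 0, 2⟩,
   ⟨2, 1, 0, 1, 0, 2, 2, 2⟩,
   ⟨1, 2, 1, 0, 0, 1, 0, 1⟩,
   ⟨2, 1, 0, 2, 2, 2, 2, 1⟩,
   ⟨1, 2, 2, 0, 0, 2, 0, 1⟩,
   ⟨1, 1, 1, 1, 2, 0, 1, 1⟩,
   ⟨1, 1, 1, 0, 0, 2, 0, 2⟩,
   ⟨1, 2, 2, 1, 2, 2, 0, 0⟩,
   ⟨0, 0, 1, 2, 1, 1, 2, 1⟩,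
   ⟨2, 1, 2, 0, 1, 1, 1, 2⟩,
   ⟨2, 2, 2, 2, 1, 0, 2, 2⟩,
   ⟨0, 2, 1, 0, 0, 1, 2, 1⟩,
   ⟨2, 2, 2, 0, 1, 2, 1, 1⟩,
   ⟨0, 1, 1, 0, 0, 2, 2, 2⟩,
   ⟨2, 1, 2, 1, 0, 1, 1, 2⟩,
   ⟨2, 1, 1, 2, 1, 1, 0, 0⟩,
   ⟨2, 0, 0, 1, 2, 0, 2, 1⟩,
   ⟨0, 1, 2, 0, 0, 0, 0, 2⟩,
   ⟨2, 2, 0, 1, 2, 1, 2, 2⟩,
   ⟨2, 2, 1, 0, 0, 2, 0, 1⟩,
   ⟨2, 0, 0, 2, 1, 0, 2, 1⟩,
   ⟨0, 2, 2, 0, 0, 0, 0, 1⟩,
   ⟨2, 2, 1, 1, 0, 1, 1, 1⟩,
   ⟨2, 1, 1, 0, 0, 1, 0, 2⟩,
   ⟨0, 0, 2, 1, 2, 2, 0, 0⟩,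
   ⟨0, 0, 1, 2, 1, 1, 0, 0⟩,
   ⟨0, 2, 2, 0, 0, 2, 2, 1⟩,
   ⟨1, 1, 2, 0, 1, 2, 2, 2⟩,
   ⟨0, 1, 0, 0, 0, 1, 0, 2⟩,
   ⟨2, 1, 0, 1, 2, 0, 2, 0⟩,
   ⟨0, 2, 0, 0, 0, 1, 0, 1⟩,
   ⟨2, 1, 0, 2, 1, 0, 2, 0⟩,
   ⟨0, 0, 2, 1, 2, 2, 2, 1⟩,
   ⟨1, 2, 2, 0, 1, 1, 2, 1⟩,
   ⟨1, 1, 1, 1, 0, 1, 2, 2⟩,
   ⟨2, 1, 2, 0, 0, 2, 0, 2⟩,
   ⟨1, 2, 2, 1, 0, 1, 2, 1⟩,
   ⟨2, 1, 2, 1, 2, 2, 0, 0⟩,
   ⟨2, 1, 0, 1, 1, 1, 2, 1⟩,
   ⟨2, 0, 0, 1, 1, 0, 2, 2⟩,
   ⟨0, 2, 1, 0, 0, 0, 0, 1⟩,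
   ⟨2, 2, 0, 2, 0, 1, 2, 1⟩,
   ⟨2, 2, 2, 0, 0, 1, 0, 1⟩,
   ⟨0, 0, 1, 1, 1, 2, 1, 1⟩,
   ⟨0, 1, 1, 0, 0, 0, 0, 2⟩,
   ⟨2, 2, 2, 0, 2, 0, 2, 1⟩,
   ⟨0, 1, 2, 0, 0, 1, 2, 2⟩,
   ⟨0, 1, 0, 0, 0, 0, 0, 2⟩,
   ⟨2, 2, 0, 1, 1, 0, 2, 0⟩,
   ⟨0, 2, 0, 0, 0, 2, 0, 1⟩,
   ⟨2, 0, 0, 2, 0, 0, 2, 0⟩,
   ⟨2, 1, 2, 1, 1, 0, 2, 1⟩,
   ⟨2, 2, 1, 1, 2, 0, 2, 2⟩,
   ⟨2, 2, 0, 2, 1, 2, 2, 2⟩,
   ⟨0, 1, 0, 0, 0, 2, 0, 2⟩,
   ⟨2, 0, 0, 0, 2, 0, 2, 0⟩,
   ⟨0, 2, 0, 0, 0, 0, 0, 1⟩,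
   ⟨2, 1, 0, 2, 0, 1, 2, 2⟩,
   ⟨1, 1, 1, 1, 1, 2, 0, 0⟩,
   ⟨2, 1, 2, 0, 2, 0, 2, 2⟩,
   ⟨2, 0, 0, 1, 0, 0, 2, 0⟩,
   ⟨2, 2, 0, 2, 2, 0, 2, 0⟩,
   ⟨0, 0, 1, 1, 1, 2, 2, 2⟩,
   ⟨2, 0, 0, 0, 1, 0, 2, 0⟩,
   ⟨2, 0, 0, 2, 2, 0, 2, 2⟩,
   ⟨2, 2, 1, 1, 1, 2, 0, 0⟩,
   ⟨2, 0, 0, 0, 0, 0, 2, 0⟩,
   ⟨0, 0, 1, 1, 1, 2, 0, 0⟩]

def c9W_h9 : List (List Bool) :=
  [[],
   [true],
   [false],
   [true, true],
   [false, true],
   [true, false],
   [false, false],
   [false, true, true],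
   [true, false, true],
   [false, false, true],
   [true, true, false],
   [false, true, false],
   [true, false, false],
   [true, false, true, true],
   [false, false, true, true],
   [true, true, false, true],
   [false, true, false, true],
   [true, false, false, true],
   [false, true, true, false],
   [true, false, true, false],
   [false, false, true, false],
   [true, true, false, false],
   [false, true, false, false],
   [true, true, false, true, true],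
   [false, true, false, true, true],
   [true, false, false, true, true],
   [false, true, true, false, true],
   [true, false, true, false, true],
   [false, false, true, false, true],
   [true, true, false, false, true],
   [false, true, false, false, true],
   [true, false, true, true, false],
   [false, false, true, true, false],
   [true, true, false, true, false],
   [true, false, false, true, false],
   [false, true, true, false, false],
   [true, false, true, false, false],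
   [false, false, true, false, false],
   [false, true, true, false, true, true],
   [true, false, true, false, true, true],
   [false, false, true, false, true, true],
   [true, true, false, false, true, true],
   [false, true, false, false, true, true],
   [true, false, true, true, false, true],
   [false, false, true, true, false, true],
   [true, true, false, true, false, true],
   [true, false, false, true, false, true],
   [false, true, true, false, false, true],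
   [true, false, true, false, false, true],
   [false, false, true, false, false, true],
   [true, true, false, true, true, false],
   [false, true, false, true, true, false],
   [true, false, false, true, true, false],
   [false, true, true, false, true, false],
   [true, true, false, false, true, false],
   [false, true, false, false, true, false],
   [true, false, true, true, false, false],
   [false, false, true, true, false, false],
   [true, true, false, true, false, false],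
   [true, false, false, true, false, false],
   [true, false, true, true, false, true, true],
   [false, false, true, true, false, true, true],
   [true, true, false, true, false, true, true],
   [true, false, false, true, false, true, true],
   [false, true, true, false, false, true, true],
   [true, false, true, false, false, true, true],
   [false, false, true, false, false, true, true],
   [true, true, false, true, true, false, true],
   [false, true, false, true, true, false, true],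
   [true, false, false, true, true, false, true],
   [false, true, true, false, true, false, true],
   [true, true, false, false, true, false, true],
   [false, true, false, false, true, false, true],
   [true, false, true, true, false, false, true],
   [false, false, true, true, false, false, true],
   [true, true, false, true, false, false, true],
   [true, false, false, true, false, false, true],
   [false, true, true, false, true, true, false],
   [false, false, true, false, true, true, false],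
   [true, true, false, false, true, true, false],
   [false, true, false, false, true, true, false],
   [true, false, true, true, false, true, false],
   [false, true, true, false, false, true, false],
   [true, false, true, false, false, true, false],
   [false, false, true, false, false, true, false],
   [true, true, false, true, true, false, false],
   [true, false, false, true, true, false, false],
   [false, true, true, false, true, false, false],
   [true, true, false, false, true, false, false],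
   [false, true, false, false, true, false, false],
   [false, true, false, true, true, false, true, true],
   [false, true, true, false, true, false, true, true],
   [true, true, false, false, true, false, true, true],
   [false, true, false, false, true, false, true, true],
   [true, false, true, true, false, false, true, true],
   [false, false, true, true, false, false, true, true],
   [true, true, false, true, false, false, true, true],
   [false, false, true, false, true, true, false, true],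
   [true, true, false, false, true, true, false, true],
   [false, true, false, false, true, true, false, true],
   [true, false, true, true, false, true, false, true],
   [false, true, true, false, false, true, false, true],
   [true, false, true, false, false, true, false, true],
   [false, false, true, false, false, true, false, true],
   [true, false, false, true, true, false, false, true],
   [false, true, true, false, false, true, true, false],
   [true, false, true, false, false, true, true, false],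
   [false, true, false, true, true, false, true, false],
   [true, false, true, true, false, false, true, false],
   [true, true, false, true, false, false, true, false],
   [true, true, false, false, true, true, false, false],
   [true, false, true, true, false, true, false, false],
   [true, false, true, true, false, true, false, true, true],
   [true, false, true, false, false, true, false, true, true],
   [true, false, false, true, true, false, false, true, true],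
   [false, true, false, true, true, false, true, false, true],
   [true, true, false, true, false, false, true, false, true],
   [true, true, false, false, true, true, false, false, true],
   [false, true, false, true, true, false, true, false, true, true],
   [true, true, false, false, true, true, false, false, true, true]]

theorem c9_words_h9 : c9W_h9.map c9word_h9 = c9T_h9 := by decide +kernel

theorem c9_closed_h9 : ∀ v ∈ c9T_h9, c9L_h9 v ∈ c9T_h9 ∧ c9E_h9 v ∈ c9T_h9 := by decide +kernel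

theorem c9_card_h9 : c9T_h9.toFinset.card = 120 := by decide +kernel

theorem c9_id_mem_h9 : c9id_h9 ∈ c9T_h9 := by decide +kernel

end Cfsg.Agent.Helper9
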