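import Cfsg.Agent.Helper9.Klein2

/-!
# Conjugacy of Klein four-subgroups: abstract tools (helper9)
-/

set_option autoImplicit false

namespace Cfsg.Agent.Helper9

theorem conj_comp_h9 {G : Type*} [Group G] (g h : G) :
    (MulAut.conj h).toMonoidHom.comp (MulAut.conj g).toMonoidHom
      = (MulAut.conj (h * g)).toMonoidHom := by
  ext x
  simp [MulAut.conj_apply, mul_assoc]

theorem sconj_trans_h9 {G : Type*} [Group G] {V W X : Subgroup G}
    (h1 : ∃ g : G, W = V.map (MulAut.conj g).toMonoidHom)
    (h2 : ∃ g : G, X = W.map (MulAut.conj g).toMonoidHom) :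
    ∃ g : G, X = V.map (MulAut.conj g).toMonoidHom := by
  obtain ⟨g, rfl⟩ := h1
  obtain ⟨h, rfl⟩ := h2
  exact ⟨h * g, by rw [Subgroup.map_map, conj_comp_h9]⟩

theorem sconj_symm_h9 {G : Type*} [Group G] {V W : Subgroup G}
    (h1 : ∃ g : G, W = V.map (MulAut.conj g).toMonoidHom) :
    ∃ g : G, V = W.map (MulAut.conj g).toMonoidHom := by
  obtain ⟨g, rfl⟩ := h1
  refine ⟨g⁻¹, ?_⟩
  rw [Subgroup.map_map, conj_comp_h9, inv_mul_cancel]
  ext x
  simp

theorem conj_mem_map_h9 {G : Type*} [Group G] (V : Subgroup G) (g x : G) (hx : x ∈ V) :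
    g * x * g⁻¹ ∈ V.map (MulAut.conj g).toMonoidHom :=
  ⟨x, hx, rfl⟩

theorem klein_map_conj_h9 {G : Type*} [Group G] (V : Subgroup G) [hV : IsKleinFour V] (g : G) :
    IsKleinFour (V.map (MulAut.conj g).toMonoidHom) := by
  constructor
  · rw [Subgroup.card_map_of_injective (MulAut.conj g).injective]; exact hV.card_four
  · exact (Monoid.exponent_eq_of_mulEquiv ((MulAut.conj g).subgroupMap V)).symm.trans
      hV.exponent_two

theorem card_sconj_mul_normalizer_h9 {G : Type*} [Group G] [Finite G] (V : Subgroup G) :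
    Nat.card {W : Subgroup G // ∃ g : G, W = V.map (MulAut.conj g).toMonoidHom} *
      Nat.card (Subgroup.normalizer (V : Set G)) = Nat.card G := by
  classical
  haveI : Fintype G := Fintype.ofFinite G
  haveI : Fintype (Subgroup G) := Fintype.ofFinite _
  rw [Nat.card_eq_fintype_card, Nat.card_eq_fintype_card, Nat.card_eq_fintype_card,
    Fintype.card_subtype, Fintype.card_subtype]
  rw [← Finset.card_univ (α := G),
    Finset.card_eq_sum_card_image (fun c : G => V.map (MulAut.conj c).toMonoidHom) Finset.univ,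
    Finset.sum_const_nat (m := (Finset.univ.filter
      (fun x : G => x ∈ Subgroup.normalizer (V : Set G))).card)]
  · congr 2
    ext W
    simp only [Finset.mem_image, Finset.mem_univ, true_and, Finset.mem_filter]
    constructor
    · rintro ⟨g, rfl⟩; exact ⟨g, rfl⟩
    · rintro ⟨g, rfl⟩; exact ⟨g, rfl⟩
  · intro W hW
    obtain ⟨c₀, -, rfl⟩ := Finset.mem_image.mp hW
    have key : ∀ c : G, V.map (MulAut.conj c).toMonoidHom = V.map (MulAut.conj c₀).toMonoidHom ↔
        c₀⁻¹ * c ∈ Subgroup.normalizer (V : Set G) := by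
      intro c
      rw [Subgroup.mem_normalizer_iff_map_conj_eq]
      have e : V.map (MulAut.conj (c₀⁻¹ * c) : G →* G)
          = (V.map (MulAut.conj c).toMonoidHom).map (MulAut.conj c₀⁻¹).toMonoidHom := by
        rw [Subgroup.map_map, conj_comp_h9]; rfl
      rw [e]
      constructor
      · intro h
        rw [h, Subgroup.map_map, conj_comp_h9, inv_mul_cancel]
        ext x
        simp
      · intro h
        have h' := congrArg (fun X : Subgroup G => X.map (MulAut.conj c₀).toMonoidHom) h
        rw [Subgroup.map_map, conj_comp_h9, mul_inv_cancel] at h'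
        rw [← h']
        ext x
        simp
    apply Finset.card_bij (fun c _ => c₀⁻¹ * c)
    · intro c hc
      simp only [Finset.mem_filter, Finset.mem_univ, true_and] at hc ⊢
      exact (key c).mp hc
    · intro a _ b _ h
      exact mul_left_cancel h
    · intro b hb
      simp only [Finset.mem_filter, Finset.mem_univ, true_and] at hb
      refine ⟨c₀ * b, ?_, by group⟩
      simp only [Finset.mem_filter, Finset.mem_univ, true_and]
      apply (key (c₀ * b)).mpr
      rw [inv_mul_cancel_left]; exact hb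

theorem sq_range_index_two_h9 {H : Type*} [CommGroup H] [Finite H] (z : H) (hz1 : z ≠ 1)
    (hz : z ^ 2 = 1) (h : ∀ x : H, x ^ 2 = 1 → x = 1 ∨ x = z) :
    (powMonoidHom 2 : H →* H).range.index = 2 := by
  have hker : Nat.card (powMonoidHom 2 : H →* H).ker = 2 := by
    have e : ((powMonoidHom 2 : H →* H).ker : Set H) = {1, z} := by
      ext x
      simp only [SetLike.mem_coe, MonoidHom.mem_ker, powMonoidHom_apply, Set.mem_insert_iff,
        Set.mem_singleton_iff]
      constructor
      · exact h x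
      · rintro (rfl | rfl)
        · simp
        · exact hz
    have e2 : Nat.card (powMonoidHom 2 : H →* H).ker
        = ((powMonoidHom 2 : H →* H).ker : Set H).ncard := rfl
    rw [e2, e, Set.ncard_pair hz1.symm]
  have h1 := Subgroup.card_mul_index (powMonoidHom 2 : H →* H).ker
  have h2 := Subgroup.card_mul_index (powMonoidHom 2 : H →* H).range
  rw [Subgroup.index_ker, hker] at h1
  have hpos : 0 < Nat.card (powMonoidHom 2 : H →* H).range := Nat.card_pos
  apply Nat.eq_of_mul_eq_mul_left hpos
  rw [h2, ← h1]; ring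

theorem klein_normalizer_ne_twelve_h9 {G : Type*} [Group G] [Finite G] (V : Subgroup G)
    [hV : IsKleinFour V] (u : G) (huN : u ∈ Subgroup.normalizer (V : Set G)) (hu4 : u ^ 4 = 1)
    (hu2 : u * u ≠ 1) : Nat.card (Subgroup.normalizer (V : Set G)) ≠ 12 := by
  intro h12
  haveI : (V.subgroupOf (Subgroup.normalizer (V : Set G))).Normal := Subgroup.normal_in_normalizer
  have hK : Nat.card (V.subgroupOf (Subgroup.normalizer (V : Set G))) = 4 := by
    rw [Nat.card_congr (Subgroup.subgroupOfEquivOfLe (Subgroup.le_normalizer (H := V))).toEquiv]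
    exact hV.card_four
  have hq := Subgroup.card_eq_card_quotient_mul_card_subgroup
    (V.subgroupOf (Subgroup.normalizer (V : Set G)))
  rw [h12, hK] at hq
  have hq3 : Nat.card (↥(Subgroup.normalizer (V : Set G)) ⧸
      V.subgroupOf (Subgroup.normalizer (V : Set G))) = 3 := by omega
  have h3 : (QuotientGroup.mk (⟨u, huN⟩ : ↥(Subgroup.normalizer (V : Set G))) :
      ↥(Subgroup.normalizer (V : Set G)) ⧸ V.subgroupOf (Subgroup.normalizer (V : Set G))) ^ 3
        = 1 := by
    rw [← hq3]; exact pow_card_eq_one'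
  have h4 : (QuotientGroup.mk (⟨u, huN⟩ : ↥(Subgroup.normalizer (V : Set G))) :
      ↥(Subgroup.normalizer (V : Set G)) ⧸ V.subgroupOf (Subgroup.normalizer (V : Set G))) ^ 4
        = 1 := by
    rw [← QuotientGroup.mk_pow]
    have : (⟨u, huN⟩ : ↥(Subgroup.normalizer (V : Set G))) ^ 4 = 1 := Subtype.ext hu4
    rw [this]; rfl
  have h1 : (QuotientGroup.mk (⟨u, huN⟩ : ↥(Subgroup.normalizer (V : Set G))) :
      ↥(Subgroup.normalizer (V : Set G)) ⧸ V.subgroupOf (Subgroup.normalizer (V : Set G))) = 1 := by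
    have e := pow_succ (QuotientGroup.mk (⟨u, huN⟩ : ↥(Subgroup.normalizer (V : Set G))) :
      ↥(Subgroup.normalizer (V : Set G)) ⧸ V.subgroupOf (Subgroup.normalizer (V : Set G))) 3
    rw [h3, one_mul] at e
    rw [← e]; exact h4
  rw [QuotientGroup.eq_one_iff] at h1
  have huV : u ∈ V := h1
  exact hu2 (klein_sq_h9 V u huV)

theorem exists_klein_of_comm_invols_h9 {G : Type*} [Group G] (t s : G) (ht : orderOf t = 2)
    (hs : orderOf s = 2) (hne : t ≠ s) (hts : t * s = s * t) :
    ∃ V : Subgroup G, IsKleinFour V ∧ t ∈ V ∧ s ∈ V := by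
  have hinv : ∀ x : G, orderOf x = 2 → x * x = 1 ∧ x ≠ 1 := by
    intro x hx
    refine ⟨?_, ?_⟩
    · have := pow_orderOf_eq_one x
      rw [hx, sq] at this; exact this
    · rintro rfl
      rw [orderOf_one] at hx; omega
  exact ⟨kleinOf_h9 t s (hinv t ht).1 (hinv s hs).1 hts,
    kleinOf_isKleinFour_h9 t s _ _ hts (hinv t ht).2 (hinv s hs).2 hne,
    Or.inr (Or.inl rfl), Or.inr (Or.inr (Or.inl rfl))⟩

end Cfsg.Agent.Helper9
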