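import Cfsg.Agent.Helper9.SL2b

/-!
# Elements of order 4 in SL(2, q), q odd (helper9), part 3: counting
-/

set_option autoImplicit false
open scoped MatrixGroups

namespace Cfsg.Agent.Helper9

/-- the number of solutions of `a² + b² = c`. -/
noncomputable def circN_h9 (F : Type*) [Field F] (c : F) : ℕ :=
  Nat.card {p : F × F // p.1 ^ 2 + p.2 ^ 2 = c}

theorem circN_eq_one_h9 {F : Type*} [Field F] [Fintype F] (hF : Fintype.card F % 2 = 1) (c : F)
    (hc : c ≠ 0) : circN_h9 F c = circN_h9 F 1 := by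
  obtain ⟨a₀, b₀, h0⟩ := ff_sq_add_sq_h9 hF c
  unfold circN_h9
  symm
  refine Nat.card_congr
    { toFun := fun p => ⟨(p.1.1 * a₀ - p.1.2 * b₀, p.1.1 * b₀ + p.1.2 * a₀), ?_⟩
      invFun := fun p => ⟨((p.1.1 * a₀ + p.1.2 * b₀) / c, (p.1.2 * a₀ - p.1.1 * b₀) / c), ?_⟩
      left_inv := ?_
      right_inv := ?_ }
  · have := p.2
    show (p.1.1 * a₀ - p.1.2 * b₀) ^ 2 + (p.1.1 * b₀ + p.1.2 * a₀) ^ 2 = c
    linear_combination (a₀ ^ 2 + b₀ ^ 2) * this + h0
  · have := p.2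
    show ((p.1.1 * a₀ + p.1.2 * b₀) / c) ^ 2 + ((p.1.2 * a₀ - p.1.1 * b₀) / c) ^ 2 = 1
    field_simp
    linear_combination (a₀ ^ 2 + b₀ ^ 2) * this + (c) * h0
  · rintro ⟨⟨a, b⟩, hp⟩
    apply Subtype.ext
    apply Prod.ext
    · show ((a * a₀ - b * b₀) * a₀ + (a * b₀ + b * a₀) * b₀) / c = a
      field_simp
      linear_combination a * h0
    · show ((a * b₀ + b * a₀) * a₀ - (a * a₀ - b * b₀) * b₀) / c = b
      field_simp
      linear_combination b * h0
  · rintro ⟨⟨a, b⟩, hp⟩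
    apply Subtype.ext
    apply Prod.ext
    · show (a * a₀ + b * b₀) / c * a₀ - (b * a₀ - a * b₀) / c * b₀ = a
      field_simp
      linear_combination a * h0
    · show (a * a₀ + b * b₀) / c * b₀ + (b * a₀ - a * b₀) / c * a₀ = b
      field_simp
      linear_combination b * h0

theorem circN_sum_h9 {F : Type*} [Field F] [Fintype F] :
    Fintype.card F ^ 2 = ∑ c : F, circN_h9 F c := by
  classical
  have h1 : Nat.card (F × F) = Nat.card (Σ c : F, {p : F × F // p.1 ^ 2 + p.2 ^ 2 = c}) :=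
    (Nat.card_congr (Equiv.sigmaFiberEquiv (fun p : F × F => p.1 ^ 2 + p.2 ^ 2))).symm
  rw [Nat.card_sigma, Nat.card_prod, Nat.card_eq_fintype_card] at h1
  rw [sq, h1]
  rfl

theorem circN_one_of_not_sq_h9 {F : Type*} [Field F] [Fintype F]
    (hF : Fintype.card F % 2 = 1) (hns : ¬ IsSquare (-1 : F)) :
    circN_h9 F 1 = Fintype.card F + 1 := by
  classical
  have h0 : circN_h9 F 0 = 1 := by
    unfold circN_h9
    rw [Nat.card_eq_one_iff_unique]
    refine ⟨⟨?_⟩, ⟨⟨(0, 0), by simp⟩⟩⟩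
    rintro ⟨⟨a, b⟩, hp⟩ ⟨⟨a', b'⟩, hp'⟩
    have key : ∀ a b : F, a ^ 2 + b ^ 2 = 0 → a = 0 ∧ b = 0 := by
      intro a b h
      have hb : b = 0 := by
        by_contra hb
        apply hns
        refine ⟨a / b, ?_⟩
        field_simp
        linear_combination -h
      subst hb
      refine ⟨?_, rfl⟩
      have : a ^ 2 = 0 := by linear_combination h
      exact (pow_eq_zero_iff two_ne_zero).mp this
    obtain ⟨rfl, rfl⟩ := key a b hp
    obtain ⟨rfl, rfl⟩ := key a' b' hp'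
    rfl
  have hsum := circN_sum_h9 (F := F)
  rw [← Finset.add_sum_erase Finset.univ _ (Finset.mem_univ (0 : F)), h0] at hsum
  have h2 : ∑ c ∈ Finset.univ.erase (0 : F), circN_h9 F c
      = (Fintype.card F - 1) * circN_h9 F 1 := by
    rw [Finset.sum_congr rfl (fun c hc => circN_eq_one_h9 hF c (Finset.ne_of_mem_erase hc)),
      Finset.sum_const, Finset.card_erase_of_mem (Finset.mem_univ _), Finset.card_univ,
      smul_eq_mul]
  rw [h2] at hsum
  have hq : 1 < Fintype.card F := Fintype.one_lt_card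
  obtain ⟨k, hk⟩ : ∃ k, Fintype.card F = k + 1 := ⟨Fintype.card F - 1, by omega⟩
  rw [hk] at hsum ⊢
  simp only [Nat.add_sub_cancel] at hsum
  have hk0 : 0 < k := by omega
  have : k * circN_h9 F 1 = k * (k + 1 + 1) := by
    have e : (k + 1) ^ 2 = 1 + k * (k + 1 + 1) := by ring
    omega
  exact Nat.eq_of_mul_eq_mul_left hk0 this

theorem circN_one_of_sq_h9 {F : Type*} [Field F] [Fintype F] (h2 : (2 : F) ≠ 0)
    (i : F) (hi : i * i = -1) : circN_h9 F 1 = Fintype.card F - 1 := by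
  have hi0 : i ≠ 0 := by
    rintro rfl
    simp at hi
  rw [← Nat.card_eq_fintype_card, ← Nat.card_units]
  unfold circN_h9
  refine Nat.card_congr
    { toFun := fun p => Units.mk (p.1.1 + i * p.1.2) (p.1.1 - i * p.1.2) ?_ ?_
      invFun := fun u => ⟨(((u : F) + ((u⁻¹ : Fˣ) : F)) / 2,
        ((u : F) - ((u⁻¹ : Fˣ) : F)) / (2 * i)), ?_⟩
      left_inv := ?_
      right_inv := ?_ }
  · have := p.2
    linear_combination this - p.1.2 ^ 2 * hi
  · have := p.2
    linear_combination this - p.1.2 ^ 2 * hi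
  · have hu : (u : F) * ((u⁻¹ : Fˣ) : F) = 1 := by rw [← Units.val_mul, mul_inv_cancel, Units.val_one]
    show (((u : F) + ((u⁻¹ : Fˣ) : F)) / 2) ^ 2 + (((u : F) - ((u⁻¹ : Fˣ) : F)) / (2 * i)) ^ 2 = 1
    field_simp
    linear_combination (((u : F) + ((u⁻¹ : Fˣ) : F)) ^ 2 - 4) * hi - 4 * hu
  · rintro ⟨⟨a, b⟩, hp⟩
    apply Subtype.ext
    apply Prod.ext
    · show ((a + i * b) + (a - i * b)) / 2 = a
      field_simp
      ring
    · show ((a + i * b) - (a - i * b)) / (2 * i) = b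
      field_simp
      ring
  · intro u
    apply Units.ext
    show ((u : F) + ((u⁻¹ : Fˣ) : F)) / 2 + i * (((u : F) - ((u⁻¹ : Fˣ) : F)) / (2 * i)) = u
    field_simp
    ring

end Cfsg.Agent.Helper9
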