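import Cfsg.Agent.Helper9.SL2c

/-!
# Elements of order 4 in SL(2, q), q odd (helper9), part 4: the normalizer of `⟨J⟩`
-/

set_option autoImplicit false
open scoped MatrixGroups

namespace Cfsg.Agent.Helper9

theorem sl2J_entries_h9 (F : Type*) [Field F] :
    (sl2J_h9 F).1 0 0 = 0 ∧ (sl2J_h9 F).1 0 1 = -1 ∧ (sl2J_h9 F).1 1 0 = 1 ∧
      (sl2J_h9 F).1 1 1 = 0 := by
  refine ⟨?_, ?_, ?_, ?_⟩ <;> simp [sl2J_val_h9]

theorem sl2J_sq_h9 (F : Type*) [Field F] : sl2J_h9 F * sl2J_h9 F = -1 := by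
  obtain ⟨j00, j01, j10, j11⟩ := sl2J_entries_h9 F
  exact (sl2_sq_eq_neg_one_iff_h9 _).mpr (by rw [j00, j11, add_zero])

theorem sl2_comm_J_iff_h9 {F : Type*} [Field F] (g : SL(2, F)) :
    g * sl2J_h9 F = sl2J_h9 F * g ↔ g.1 0 1 = -g.1 1 0 ∧ g.1 1 1 = g.1 0 0 := by
  obtain ⟨m00, m01, m10, m11⟩ := sl2_mul_entries_h9 g (sl2J_h9 F)
  obtain ⟨n00, n01, n10, n11⟩ := sl2_mul_entries_h9 (sl2J_h9 F) g
  obtain ⟨j00, j01, j10, j11⟩ := sl2J_entries_h9 F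
  simp only [j00, j01, j10, j11] at m00 m01 m10 m11 n00 n01 n10 n11
  constructor
  · intro h
    have e00 : (g * sl2J_h9 F).1 0 0 = (sl2J_h9 F * g).1 0 0 := by rw [h]
    have e01 : (g * sl2J_h9 F).1 0 1 = (sl2J_h9 F * g).1 0 1 := by rw [h]
    rw [m00, n00] at e00
    rw [m01, n01] at e01
    exact ⟨by linear_combination e00, by linear_combination e01⟩
  · rintro ⟨h1, h2⟩
    apply sl2_ext_h9
    · rw [m00, n00, h1]; ring
    · rw [m01, n01, h2]; ring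
    · rw [m10, n10, h2]; ring
    · rw [m11, n11, h1]; ring

theorem sl2_anti_J_iff_h9 {F : Type*} [Field F] (g : SL(2, F)) :
    g * sl2J_h9 F = -(sl2J_h9 F * g) ↔ g.1 0 1 = g.1 1 0 ∧ g.1 1 1 = -g.1 0 0 := by
  obtain ⟨m00, m01, m10, m11⟩ := sl2_mul_entries_h9 g (sl2J_h9 F)
  obtain ⟨n00, n01, n10, n11⟩ := sl2_mul_entries_h9 (sl2J_h9 F) g
  obtain ⟨k00, k01, k10, k11⟩ := sl2_neg_entries_h9 (sl2J_h9 F * g)
  obtain ⟨j00, j01, j10, j11⟩ := sl2J_entries_h9 F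
  simp only [j00, j01, j10, j11] at m00 m01 m10 m11 n00 n01 n10 n11
  constructor
  · intro h
    have e00 : (g * sl2J_h9 F).1 0 0 = (-(sl2J_h9 F * g)).1 0 0 := by rw [h]
    have e01 : (g * sl2J_h9 F).1 0 1 = (-(sl2J_h9 F * g)).1 0 1 := by rw [h]
    rw [m00, k00, n00] at e00
    rw [m01, k01, n01] at e01
    exact ⟨by linear_combination e00, by linear_combination -e01⟩
  · rintro ⟨h1, h2⟩
    apply sl2_ext_h9
    · rw [m00, k00, n00, h1]; ring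
    · rw [m01, k01, n01, h2]; ring
    · rw [m10, k10, n10, h2]; ring
    · rw [m11, k11, n11, h1]; ring

theorem sl2_mem_normalizer_J_iff_h9 {F : Type*} [Field F] (h2 : (2 : F) ≠ 0) (g : SL(2, F)) :
    g ∈ Subgroup.normalizer ((Subgroup.zpowers (sl2J_h9 F) : Subgroup SL(2, F)) : Set SL(2, F)) ↔
      g * sl2J_h9 F = sl2J_h9 F * g ∨ g * sl2J_h9 F = -(sl2J_h9 F * g) := by
  have hJJ : sl2J_h9 F * sl2J_h9 F = -1 := sl2J_sq_h9 F
  generalize sl2J_h9 F = J at hJJ ⊢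
  have hJinv : J⁻¹ = -J := by
    rw [inv_eq_iff_mul_eq_one, mul_neg, hJJ, neg_neg]
  rw [Subgroup.mem_normalizer_iff_map_conj_eq]
  have hmap : (Subgroup.zpowers J).map (MulAut.conj g : SL(2, F) →* SL(2, F))
      = Subgroup.zpowers (g * J * g⁻¹) := by
    rw [MonoidHom.map_zpowers]; rfl
  rw [hmap]
  constructor
  · intro h
    have hmem : g * J * g⁻¹ ∈ Subgroup.zpowers J := by
      rw [← h]; exact Subgroup.mem_zpowers _
    have hyJ : (g * J * g⁻¹) * J⁻¹ = J⁻¹ * (g * J * g⁻¹) := by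
      obtain ⟨k, hk⟩ := Subgroup.mem_zpowers_iff.mp hmem
      rw [← hk]
      exact ((Commute.refl J).zpow_left k).inv_right.eq
    have hyy : (g * J * g⁻¹) * (g * J * g⁻¹) = -1 := by
      calc (g * J * g⁻¹) * (g * J * g⁻¹) = g * (J * J) * g⁻¹ := by group
        _ = -1 := by rw [hJJ]; simp
    have h1 : ((g * J * g⁻¹) * J⁻¹) * ((g * J * g⁻¹) * J⁻¹) = 1 := by
      calc ((g * J * g⁻¹) * J⁻¹) * ((g * J * g⁻¹) * J⁻¹)
          = (g * J * g⁻¹) * (J⁻¹ * (g * J * g⁻¹)) * J⁻¹ := by group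
        _ = (g * J * g⁻¹) * ((g * J * g⁻¹) * J⁻¹) * J⁻¹ := by rw [hyJ]
        _ = ((g * J * g⁻¹) * (g * J * g⁻¹)) * (J⁻¹ * J⁻¹) := by group
        _ = 1 := by rw [hyy, hJinv, neg_mul_neg, hJJ]; simp
    rcases sl2_invol_h9 h2 _ h1 with h | h
    · left
      have hy : g * J * g⁻¹ = J := by rwa [mul_inv_eq_one] at h
      calc g * J = (g * J * g⁻¹) * g := by group
        _ = J * g := by rw [hy]
    · right
      have hy : g * J * g⁻¹ = -J := by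
        rw [mul_inv_eq_iff_eq_mul] at h
        rw [h]; simp
      calc g * J = (g * J * g⁻¹) * g := by group
        _ = -(J * g) := by rw [hy]; simp
  · rintro (h | h)
    · have : g * J * g⁻¹ = J := by rw [h]; group
      rw [this]
    · have : g * J * g⁻¹ = J⁻¹ := by rw [h, hJinv]; simp [mul_assoc]
      rw [this, Subgroup.zpowers_inv]

/-- `[[a, -b], [b, a]]` with `a² + b² = 1`. -/
def sl2C_h9 {F : Type*} [Field F] (a b : F) (h : a ^ 2 + b ^ 2 = 1) : SL(2, F) :=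
  ⟨!![a, -b; b, a], by rw [Matrix.det_fin_two_of]; linear_combination h⟩

/-- `[[a, b], [b, -a]]` with `a² + b² = -1`. -/
def sl2A_h9 {F : Type*} [Field F] (a b : F) (h : a ^ 2 + b ^ 2 = -1) : SL(2, F) :=
  ⟨!![a, b; b, -a], by rw [Matrix.det_fin_two_of]; linear_combination -h⟩

theorem sl2C_entries_h9 {F : Type*} [Field F] (a b : F) (h : a ^ 2 + b ^ 2 = 1) :
    (sl2C_h9 a b h).1 0 0 = a ∧ (sl2C_h9 a b h).1 0 1 = -b ∧ (sl2C_h9 a b h).1 1 0 = b ∧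
      (sl2C_h9 a b h).1 1 1 = a := by
  refine ⟨?_, ?_, ?_, ?_⟩ <;> simp [sl2C_h9]

theorem sl2A_entries_h9 {F : Type*} [Field F] (a b : F) (h : a ^ 2 + b ^ 2 = -1) :
    (sl2A_h9 a b h).1 0 0 = a ∧ (sl2A_h9 a b h).1 0 1 = b ∧ (sl2A_h9 a b h).1 1 0 = b ∧
      (sl2A_h9 a b h).1 1 1 = -a := by
  refine ⟨?_, ?_, ?_, ?_⟩ <;> simp [sl2A_h9]

theorem sl2_centralizer_J_ncard_h9 {F : Type*} [Field F] [Fintype F] :
    ({g : SL(2, F) | g * sl2J_h9 F = sl2J_h9 F * g} : Set SL(2, F)).ncard = circN_h9 F 1 := by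
  unfold circN_h9
  rw [← Nat.card_coe_set_eq]
  refine Nat.card_congr
    { toFun := fun g => ⟨(g.1.1 0 0, g.1.1 1 0), ?_⟩
      invFun := fun p => ⟨sl2C_h9 p.1.1 p.1.2 p.2, ?_⟩
      left_inv := ?_
      right_inv := ?_ }
  · obtain ⟨h1, h2⟩ := (sl2_comm_J_iff_h9 g.1).mp g.2
    obtain ⟨-, hdet⟩ := sl2_entries_h9 g.1
    show (g.1.1 0 0) ^ 2 + (g.1.1 1 0) ^ 2 = 1
    rw [h1, h2] at hdet
    linear_combination hdet
  · obtain ⟨e00, e01, e10, e11⟩ := sl2C_entries_h9 p.1.1 p.1.2 p.2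
    exact (sl2_comm_J_iff_h9 _).mpr ⟨by rw [e01, e10], by rw [e11, e00]⟩
  · rintro ⟨g, hg⟩
    obtain ⟨h1, h2⟩ := (sl2_comm_J_iff_h9 g).mp hg
    apply Subtype.ext
    obtain ⟨e00, e01, e10, e11⟩ := sl2C_entries_h9 (g.1 0 0) (g.1 1 0)
      (by
        obtain ⟨-, hdet⟩ := sl2_entries_h9 g
        rw [h1, h2] at hdet
        linear_combination hdet)
    apply sl2_ext_h9
    · exact e00
    · rw [h1]; exact e01
    · exact e10
    · rw [h2]; exact e11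
  · rintro ⟨⟨a, b⟩, hp⟩
    obtain ⟨e00, e01, e10, e11⟩ := sl2C_entries_h9 a b hp
    apply Subtype.ext
    exact Prod.ext e00 e10

theorem sl2_anti_J_ncard_h9 {F : Type*} [Field F] [Fintype F] :
    ({g : SL(2, F) | g * sl2J_h9 F = -(sl2J_h9 F * g)} : Set SL(2, F)).ncard
      = circN_h9 F (-1) := by
  unfold circN_h9
  rw [← Nat.card_coe_set_eq]
  refine Nat.card_congr
    { toFun := fun g => ⟨(g.1.1 0 0, g.1.1 1 0), ?_⟩
      invFun := fun p => ⟨sl2A_h9 p.1.1 p.1.2 p.2, ?_⟩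
      left_inv := ?_
      right_inv := ?_ }
  · obtain ⟨h1, h2⟩ := (sl2_anti_J_iff_h9 g.1).mp g.2
    obtain ⟨-, hdet⟩ := sl2_entries_h9 g.1
    show (g.1.1 0 0) ^ 2 + (g.1.1 1 0) ^ 2 = -1
    rw [h1, h2] at hdet
    linear_combination -hdet
  · obtain ⟨e00, e01, e10, e11⟩ := sl2A_entries_h9 p.1.1 p.1.2 p.2
    exact (sl2_anti_J_iff_h9 _).mpr ⟨by rw [e01, e10], by rw [e11, e00]⟩
  · rintro ⟨g, hg⟩
    obtain ⟨h1, h2⟩ := (sl2_anti_J_iff_h9 g).mp hg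
    apply Subtype.ext
    obtain ⟨e00, e01, e10, e11⟩ := sl2A_entries_h9 (g.1 0 0) (g.1 1 0)
      (by
        obtain ⟨-, hdet⟩ := sl2_entries_h9 g
        rw [h1, h2] at hdet
        linear_combination -hdet)
    apply sl2_ext_h9
    · exact e00
    · rw [h1]; exact e01
    · exact e10
    · rw [h2]; exact e11
  · rintro ⟨⟨a, b⟩, hp⟩
    obtain ⟨e00, e01, e10, e11⟩ := sl2A_entries_h9 a b hp
    apply Subtype.ext
    exact Prod.ext e00 e10

theorem sl2_normalizer_J_card_h9 {F : Type*} [Field F] [Fintype F]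
    (hF : Fintype.card F % 2 = 1) (h2 : (2 : F) ≠ 0) :
    Nat.card (Subgroup.normalizer
      ((Subgroup.zpowers (sl2J_h9 F) : Subgroup SL(2, F)) : Set SL(2, F))) = 2 * circN_h9 F 1 := by
  have hN : ((Subgroup.normalizer
      ((Subgroup.zpowers (sl2J_h9 F) : Subgroup SL(2, F)) : Set SL(2, F)) : Subgroup SL(2, F)) :
        Set SL(2, F)) = {g : SL(2, F) | g * sl2J_h9 F = sl2J_h9 F * g} ∪
          {g : SL(2, F) | g * sl2J_h9 F = -(sl2J_h9 F * g)} := by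
    ext g
    exact sl2_mem_normalizer_J_iff_h9 h2 g
  have hdisj : Disjoint {g : SL(2, F) | g * sl2J_h9 F = sl2J_h9 F * g}
      {g : SL(2, F) | g * sl2J_h9 F = -(sl2J_h9 F * g)} := by
    rw [Set.disjoint_left]
    intro g hs ht
    obtain ⟨h1, h2'⟩ := (sl2_comm_J_iff_h9 g).mp hs
    obtain ⟨h3, h4⟩ := (sl2_anti_J_iff_h9 g).mp ht
    obtain ⟨-, hdet⟩ := sl2_entries_h9 g
    have ha : g.1 0 0 = 0 := by
      have : 2 * g.1 0 0 = 0 := by linear_combination h4 - h2'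
      exact (mul_eq_zero.mp this).resolve_left h2
    have hb : g.1 1 0 = 0 := by
      have : 2 * g.1 1 0 = 0 := by linear_combination h1 - h3
      exact (mul_eq_zero.mp this).resolve_left h2
    rw [ha, hb] at hdet
    simp at hdet
  have hcard : Nat.card (Subgroup.normalizer
      ((Subgroup.zpowers (sl2J_h9 F) : Subgroup SL(2, F)) : Set SL(2, F))) =
      ({g : SL(2, F) | g * sl2J_h9 F = sl2J_h9 F * g} ∪
          {g : SL(2, F) | g * sl2J_h9 F = -(sl2J_h9 F * g)}).ncard := by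
    rw [← hN]; rfl
  rw [hcard, Set.ncard_union_eq hdisj (Set.toFinite _) (Set.toFinite _),
    sl2_centralizer_J_ncard_h9, sl2_anti_J_ncard_h9,
    circN_eq_one_h9 hF (-1) (neg_ne_zero.mpr one_ne_zero)]
  ring

end Cfsg.Agent.Helper9
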