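import Cfsg.Agent.Helper9.SL2e
import Cfsg.Agent.Helper9.Klein3

/-!
# Conjugacy classes of four-groups of PSL(2, q), q odd (helper9)
-/

set_option autoImplicit false
open scoped MatrixGroups

namespace Cfsg.Agent.Helper9

theorem sq_dichotomy_h9 {H : Type*} [Group H] [Finite H] (hcomm : ∀ a b : H, a * b = b * a)
    (z : H) (hz1 : z ≠ 1) (hz : z * z = 1) (h : ∀ x : H, x * x = 1 → x = 1 ∨ x = z) :
    (∃ e : H, ¬ ∃ c : H, c * c = e) ∧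
      (∀ e : H, (¬ ∃ c : H, c * c = e) → ∀ x : H, (∃ c : H, c * c = x) ∨
        (∃ c : H, c * c * e = x)) := by
  letI : CommGroup H := { (inferInstance : Group H) with mul_comm := hcomm }
  have hidx := sq_range_index_two_h9 (H := H) z hz1 (by rw [sq]; exact hz)
    (fun x hx => h x (by rw [← sq]; exact hx))
  have hmem : ∀ x : H, x ∈ (powMonoidHom 2 : H →* H).range ↔ ∃ c : H, c * c = x := by
    intro x
    constructor
    · rintro ⟨c, hc⟩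
      exact ⟨c, by rw [← hc, powMonoidHom_apply, sq]⟩
    · rintro ⟨c, hc⟩
      exact ⟨c, by rw [powMonoidHom_apply, sq, hc]⟩
  constructor
  · have hne : (powMonoidHom 2 : H →* H).range ≠ ⊤ := by
      intro h'
      rw [h', Subgroup.index_top] at hidx
      omega
    obtain ⟨e, he⟩ : ∃ e, e ∉ (powMonoidHom 2 : H →* H).range := by
      by_contra hall
      apply hne
      rw [Subgroup.eq_top_iff']
      intro x
      by_contra hx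
      exact hall ⟨x, hx⟩
    exact ⟨e, fun h' => he ((hmem e).mpr h')⟩
  · intro e he x
    have he' : e ∉ (powMonoidHom 2 : H →* H).range := fun h' => he ((hmem e).mp h')
    by_cases hxR : x ∈ (powMonoidHom 2 : H →* H).range
    · left; exact (hmem x).mp hxR
    · right
      have hxe : x * e⁻¹ ∈ (powMonoidHom 2 : H →* H).range := by
        rw [Subgroup.mul_mem_iff_of_index_two hidx]
        constructor
        · intro h'; exact absurd h' hxR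
        · intro h'; exact absurd (inv_mem_iff.mp h') he'
      obtain ⟨c, hc⟩ := (hmem _).mp hxe
      exact ⟨c, by rw [hc, inv_mul_cancel_right]⟩

theorem sl2S_comm_h9 {F : Type*} [Field F] (c c' : SL(2, F)) (hc : c ∈ sl2S_h9 F)
    (hc' : c' ∈ sl2S_h9 F) : c * c' = c' * c := by
  obtain ⟨h1, h2⟩ := (sl2_comm_J_iff_h9 c).mp hc
  obtain ⟨h1', h2'⟩ := (sl2_comm_J_iff_h9 c').mp hc'
  obtain ⟨m00, m01, m10, m11⟩ := sl2_mul_entries_h9 c c'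
  obtain ⟨n00, n01, n10, n11⟩ := sl2_mul_entries_h9 c' c
  apply sl2_ext_h9
  · rw [m00, n00]; simp only [h1, h1', h2, h2']; ring
  · rw [m01, n01]; simp only [h1, h1', h2, h2']; ring
  · rw [m10, n10]; simp only [h1, h1', h2, h2']; ring
  · rw [m11, n11]; simp only [h1, h1', h2, h2']; ring

/-- the centralizer of `J` as a subgroup. -/
def sl2Sg_h9 (F : Type*) [Field F] : Subgroup SL(2, F) := Subgroup.centralizer {sl2J_h9 F}

theorem mem_sl2Sg_h9 {F : Type*} [Field F] (g : SL(2, F)) :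
    g ∈ sl2Sg_h9 F ↔ g ∈ sl2S_h9 F := Subgroup.mem_centralizer_singleton_iff

theorem sl2S_one_h9 {F : Type*} [Field F] : (1 : SL(2, F)) ∈ sl2S_h9 F := by
  rw [mem_sl2S_h9, one_mul, mul_one]

theorem sl2S_J_h9 {F : Type*} [Field F] : sl2J_h9 F ∈ sl2S_h9 F := rfl

theorem sl2S_mul_h9 {F : Type*} [Field F] (a b : SL(2, F)) (ha : a ∈ sl2S_h9 F)
    (hb : b ∈ sl2S_h9 F) : a * b ∈ sl2S_h9 F :=
  (mem_sl2Sg_h9 _).mp ((sl2Sg_h9 F).mul_mem ((mem_sl2Sg_h9 _).mpr ha) ((mem_sl2Sg_h9 _).mpr hb))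

theorem sl2S_sq_dichotomy_h9 {F : Type*} [Field F] [Fintype F] (h2 : (2 : F) ≠ 0) :
    (∃ e ∈ sl2S_h9 F, ¬ ∃ c ∈ sl2S_h9 F, c * c = e) ∧
    (∀ e ∈ sl2S_h9 F, (¬ ∃ c ∈ sl2S_h9 F, c * c = e) → ∀ z ∈ sl2S_h9 F,
      (∃ c ∈ sl2S_h9 F, c * c = z) ∨ (∃ c ∈ sl2S_h9 F, c * c * e = z)) := by
  have hneg : (-1 : SL(2, F)) ∈ sl2Sg_h9 F := (mem_sl2Sg_h9 _).mpr (sl2S_neg_h9 _ sl2S_one_h9)
  obtain ⟨hA, hB⟩ := sq_dichotomy_h9 (H := ↥(sl2Sg_h9 F))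
    (fun a b => Subtype.ext (sl2S_comm_h9 a.1 b.1 ((mem_sl2Sg_h9 _).mp a.2)
      ((mem_sl2Sg_h9 _).mp b.2)))
    ⟨-1, hneg⟩ (fun h => sl2_neg_one_ne_one_h9 h2 (congrArg Subtype.val h))
    (Subtype.ext sl2_neg_one_sq_h9)
    (fun x hx => by
      have hx' : x.1 * x.1 = 1 := congrArg Subtype.val hx
      rcases sl2_invol_h9 h2 x.1 hx' with h | h
      · left; exact Subtype.ext h
      · right; exact Subtype.ext h)
  constructor
  · obtain ⟨e, he⟩ := hA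
    refine ⟨e.1, (mem_sl2Sg_h9 _).mp e.2, ?_⟩
    rintro ⟨c, hc, hce⟩
    exact he ⟨⟨c, (mem_sl2Sg_h9 _).mpr hc⟩, Subtype.ext hce⟩
  · intro e he hne z hz
    have hne' : ¬ ∃ c : ↥(sl2Sg_h9 F), c * c = ⟨e, (mem_sl2Sg_h9 _).mpr he⟩ := by
      rintro ⟨c, hc⟩
      exact hne ⟨c.1, (mem_sl2Sg_h9 _).mp c.2, congrArg Subtype.val hc⟩
    rcases hB ⟨e, (mem_sl2Sg_h9 _).mpr he⟩ hne' ⟨z, (mem_sl2Sg_h9 _).mpr hz⟩ with ⟨c, hc⟩ | ⟨c, hc⟩
    · left; exact ⟨c.1, (mem_sl2Sg_h9 _).mp c.2, congrArg Subtype.val hc⟩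
    · right; exact ⟨c.1, (mem_sl2Sg_h9 _).mp c.2, congrArg Subtype.val hc⟩

theorem sl2_cyc_h9 {F : Type*} [Field F] (c y : SL(2, F)) (hc : c ∈ sl2S_h9 F)
    (hy : y ∈ sl2T_h9 F) : c * y * c = y := by
  obtain ⟨h1, h2⟩ := (sl2_comm_J_iff_h9 c).mp hc
  obtain ⟨h3, h4⟩ := (sl2_anti_J_iff_h9 y).mp hy
  obtain ⟨-, hdet⟩ := sl2_entries_h9 c
  obtain ⟨m00, m01, m10, m11⟩ := sl2_mul_entries_h9 (c * y) c
  obtain ⟨n00, n01, n10, n11⟩ := sl2_mul_entries_h9 c y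
  simp only [h1, h2] at hdet
  apply sl2_ext_h9
  · rw [m00, n00, n01]; simp only [h1, h2, h3, h4]; linear_combination (y.1 0 0) * hdet
  · rw [m01, n00, n01]; simp only [h1, h2, h3, h4]; linear_combination (y.1 1 0) * hdet
  · rw [m10, n10, n11]; simp only [h1, h2, h3, h4]; linear_combination (y.1 1 0) * hdet
  · rw [m11, n10, n11]; simp only [h1, h2, h3, h4]; linear_combination (-y.1 0 0) * hdet

theorem sl2_conj_ST_h9 {F : Type*} [Field F] (c y : SL(2, F)) (hc : c ∈ sl2S_h9 F)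
    (hy : y ∈ sl2T_h9 F) : c * y * c⁻¹ = c * c * y := by
  have h := sl2_cyc_h9 c y hc hy
  rw [mul_inv_eq_iff_eq_mul, mul_assoc c c y, mul_assoc c (c * y) c, mul_assoc c y c, ← mul_assoc c y c, h]

theorem sl2_ST_mul_h9 {F : Type*} [Field F] (e y : SL(2, F)) (he : e ∈ sl2S_h9 F)
    (hy : y ∈ sl2T_h9 F) : e * y ∈ sl2T_h9 F := by
  rw [mem_sl2T_h9] at hy ⊢
  rw [mem_sl2S_h9] at he
  rw [mul_assoc, hy, mul_neg, ← mul_assoc, he, mul_assoc]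

theorem sl2_TT_mul_h9 {F : Type*} [Field F] (y' y : SL(2, F)) (hy' : y' ∈ sl2T_h9 F)
    (hy : y ∈ sl2T_h9 F) : y' * y ∈ sl2S_h9 F := by
  rw [mem_sl2T_h9] at hy hy'
  rw [mem_sl2S_h9]
  rw [mul_assoc, hy, mul_neg, ← mul_assoc, hy', neg_mul, neg_neg, mul_assoc]

theorem sl2T_sq_h9 {F : Type*} [Field F] (y : SL(2, F)) (hy : y ∈ sl2T_h9 F) : y * y = -1 := by
  obtain ⟨-, h11⟩ := (sl2_anti_J_iff_h9 y).mp hy
  exact (sl2_sq_eq_neg_one_iff_h9 y).mpr (by rw [h11]; ring)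

theorem sl2T_quot_h9 {F : Type*} [Field F] (y' y : SL(2, F)) (hy' : y' ∈ sl2T_h9 F)
    (hy : y ∈ sl2T_h9 F) : ∃ z ∈ sl2S_h9 F, z * y = y' := by
  refine ⟨-(y' * y), sl2S_neg_h9 _ (sl2_TT_mul_h9 y' y hy' hy), ?_⟩
  rw [neg_mul, mul_assoc, sl2T_sq_h9 y hy, mul_neg, mul_one, neg_neg]

theorem sl2T_nonempty_h9 {F : Type*} [Field F] [Fintype F] (hF : Fintype.card F % 2 = 1) :
    ∃ y : SL(2, F), y ∈ sl2T_h9 F := by
  obtain ⟨a, b, hab⟩ := ff_sq_add_sq_h9 hF (-1 : F)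
  obtain ⟨e00, e01, e10, e11⟩ := sl2A_entries_h9 a b hab
  exact ⟨sl2A_h9 a b hab, (sl2_anti_J_iff_h9 _).mpr ⟨by rw [e01, e10], by rw [e11, e00]⟩⟩

theorem sl2S_J_sq_iff_h9 {F : Type*} [Field F] (h2 : (2 : F) ≠ 0) :
    (∃ c ∈ sl2S_h9 F, c * c = sl2J_h9 F) ↔ IsSquare (2 : F) := by
  obtain ⟨j00, j01, j10, j11⟩ := sl2J_entries_h9 F
  constructor
  · rintro ⟨c, hc, hcc⟩
    obtain ⟨h1, h2'⟩ := (sl2_comm_J_iff_h9 c).mp hc
    obtain ⟨-, hdet⟩ := sl2_entries_h9 c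
    obtain ⟨m00, m01, m10, m11⟩ := sl2_mul_entries_h9 c c
    have e00 : (c * c).1 0 0 = (sl2J_h9 F).1 0 0 := by rw [hcc]
    rw [m00, j00] at e00
    simp only [h1, h2'] at e00 hdet
    refine ⟨2 * c.1 0 0, ?_⟩
    linear_combination (-2 : F) * e00 - 2 * hdet
  · rintro ⟨w, hw⟩
    have hw0 : w ≠ 0 := by
      rintro rfl
      rw [mul_zero] at hw
      exact h2 hw
    have hab : (w⁻¹) ^ 2 + (w⁻¹) ^ 2 = 1 := by
      field_simp
      linear_combination hw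
    obtain ⟨e00, e01, e10, e11⟩ := sl2C_entries_h9 w⁻¹ w⁻¹ hab
    obtain ⟨m00, m01, m10, m11⟩ := sl2_mul_entries_h9 (sl2C_h9 w⁻¹ w⁻¹ hab) (sl2C_h9 w⁻¹ w⁻¹ hab)
    refine ⟨sl2C_h9 w⁻¹ w⁻¹ hab, (sl2_comm_J_iff_h9 _).mpr ⟨by rw [e01, e10], by rw [e11, e00]⟩, ?_⟩
    apply sl2_ext_h9
    · rw [m00, j00, e00, e01, e10]; ring
    · rw [m01, j01, e00, e01, e11]; linear_combination (-1 : F) * hab
    · rw [m10, j10, e00, e10, e11]; linear_combination hab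
    · rw [m11, j11, e01, e10, e11]; ring

end Cfsg.Agent.Helper9
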